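import Groth.Agent.Sga3.H786.HullFG
import Groth.Agent.Sga3.H787.HullKer
import Groth.Agent.AlgGrp.K398.AntiAff

/-!
# The affine hull of a group scheme of finite type over a field and its anti-affine kernel
-/

set_option autoImplicit false
universe u
open CategoryTheory Limits MonoidalCategory CartesianMonoidalCategory MonObj GrpObj AlgebraicGeometry
open Groth.Agent Groth.Agent.Sga3C.Affinization Groth.Agent.Sga3B.KerGrp

namespace K414.Hull

variable {k : Type u} [Field k]

/-- The affine hull `ρ : G ⟶ Q` (flat, surjective, `Q` affine of finite type) with its kernel `M`,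
which is anti-affine, and through which every pointed morphism from an anti-affine scheme factors;
every homomorphism to an affine group factors through `ρ`. -/
theorem exists_hull (G : Over (Spec (CommRingCat.of k))) [GrpObj G] [LocallyOfFiniteType G.hom]
    [QuasiCompact G.hom] :
    ∃ (Q : Over (Spec (CommRingCat.of k))) (_ : GrpObj Q) (ρ : G ⟶ Q)
      (M : Over (Spec (CommRingCat.of k))) (_ : GrpObj M) (j : M ⟶ G),
      IsMonHom ρ ∧ IsAffine Q.left ∧ LocallyOfFiniteType Q.hom ∧ Surjective ρ.left ∧ Flat ρ.left ∧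
      IsMonHom j ∧ IsClosedImmersion j.left ∧ AlgGrp.IsKernel j ρ ∧ IsIso M.hom.appTop ∧
      LocallyOfFiniteType M.hom ∧ QuasiCompact M.hom ∧
      (∀ {X : Over (Spec (CommRingCat.of k))} [IsIso X.hom.appTop]
        (s : 𝟙_ (Over (Spec (CommRingCat.of k))) ⟶ X) (f : X ⟶ G), s ≫ f = η[G] →
        ∃ g : X ⟶ M, g ≫ j = f) ∧
      (∀ {Z : Over (Spec (CommRingCat.of k))} [IsAffine Z.left] (f : G ⟶ Z),
        ∃ g : Q ⟶ Z, ρ ≫ g = f) := by
  have h1 : CompactSpace G.left := QuasiCompact.compactSpace_of_compactSpace G.hom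
  have h2 : IsLocallyNoetherian G.left := LocallyOfFiniteType.isLocallyNoetherian G.hom
  have ha := isAffinization_toAff G
  obtain ⟨hg, h3⟩ := Groth.Agent.Sga3C.AffinizationGrp.exists_grpObj ha
  obtain ⟨hs, hf, hft⟩ := Groth.Agent.Sga3.H786.HullFG.main k G
  have h4 : Spec.map G.hom.appTop ≫ (Spec (CommRingCat.of k)).isoSpec.inv = (affOver G).hom := by
    dsimp [affOver]
    rw [Spec.map_comp, Scheme.isoSpec_Spec_inv]
  rw [h4] at hft
  have haff : IsAffine (affOver G).left := ha.isAffine
  have hsep : IsSeparated (affOver G).hom := inferInstance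
  obtain ⟨hg', h5⟩ := exists_grpObj (toAff G)
  have h6 : IsClosedImmersion (kerι (toAff G)).left := inferInstance
  have h7 := Groth.Agent.Sga3.H787.HullKer.isIso_appTop_ker (toAff G) ha
  have h8 : LocallyOfFiniteType (kerObj (toAff G)).hom := by
    rw [← Over.w (kerι (toAff G))]; infer_instance
  have h9 : QuasiCompact (kerObj (toAff G)).hom := by
    rw [← Over.w (kerι (toAff G))]; infer_instance
  refine ⟨affOver G, hg, toAff G, kerObj (toAff G), hg', kerι (toAff G), h3, haff, hft, hs, hf, h5, h6,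
    isPullback_ker (toAff G), h7, h8, h9, ?_, ?_⟩
  · intro X _ s f hsf
    refine exists_lift (toAff G) f ?_
    have h10 := K398.AntiAff.eq_const s (f ≫ toAff G)
    have h11 : s ≫ f ≫ toAff G = η[affOver G] := by
      rw [← Category.assoc, hsf, IsMonHom.one_hom]
    rw [h10, h11]
    exact (Hom.one_def).symm
  · intro Z _ f
    exact ha.exists_fac f

/-- A pointed morphism from an anti-affine scheme to `G` factors through any closed subgroup scheme
containing all anti-affine closed subgroup schemes. -/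
theorem exists_factor_of_max {X G : Over (Spec (CommRingCat.of k))} [GrpObj G]
    [LocallyOfFiniteType G.hom] [QuasiCompact G.hom] [IsIso X.hom.appTop]
    (s : 𝟙_ (Over (Spec (CommRingCat.of k))) ⟶ X) (f : X ⟶ G) (hs : s ≫ f = η[G])
    {M : Over (Spec (CommRingCat.of k))} (j : M ⟶ G)
    (hMmax : ∀ (M₁ : Over (Spec (CommRingCat.of k))) [GrpObj M₁] [LocallyOfFiniteType M₁.hom]
      [QuasiCompact M₁.hom] (j₁ : M₁ ⟶ G) [IsMonHom j₁] [IsClosedImmersion j₁.left],
      Function.Bijective ((Scheme.ΓSpecIso (CommRingCat.of k)).inv ≫ M₁.hom.appTop).hom →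
        ∃ g : M₁ ⟶ M, g ≫ j = j₁) :
    ∃ g : X ⟶ M, g ≫ j = f := by
  obtain ⟨Q, _, ρ, M₀, _, j₀, _, _, _, _, _, _, _, _, h7, h8, h9, h10, -⟩ := exists_hull G
  obtain ⟨g, hg⟩ := h10 s f hs
  obtain ⟨g', hg'⟩ := hMmax M₀ j₀ (K398.AntiAff.bijective_of_isIso h7)
  exact ⟨g ≫ g', by rw [Category.assoc, hg', hg]⟩

end K414.Hull
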