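import Groth.Agent.S3030
import Groth.Agent.S3280
import Groth.Agent.S0114
import Groth.Agent.Etrest.ProperOver
import Groth.Agent.Sga3.H739.ImageFl
import Groth.Agent.Sga3.H821.AffProper
import Groth.Agent.AlgGrp.K395.CovKit
import Groth.Agent.AlgGrp.K395.Pts
import Groth.Agent.AlgGrp.K414.Hull
import Groth.Agent.Books.AntiAffine

/-!
# Quotients, images and kernels of group schemes of finite type over a field: a toolkit
-/

set_option autoImplicit false
universe u
open CategoryTheory Limits MonoidalCategory CartesianMonoidalCategory MonObj GrpObj AlgebraicGeometry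
open Groth.Agent Groth.Agent.Sga3.H739.Fpqc Groth.Agent.Sga3B.KerGrp

namespace K414.Kit

variable {k : Type u} [Field k]

theorem mono_of_closed {N G : Over (Spec (CommRingCat.of k))} (i : N ⟶ G) [IsClosedImmersion i.left] :
    Mono i := Over.mono_of_mono_left i

theorem locallyOfFiniteType_of_closed {N G : Over (Spec (CommRingCat.of k))}
    [LocallyOfFiniteType G.hom] (i : N ⟶ G) [IsClosedImmersion i.left] :
    LocallyOfFiniteType N.hom := by
  rw [← Over.w i]; infer_instance

theorem quasiCompact_of_closed {N G : Over (Spec (CommRingCat.of k))}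
    [QuasiCompact G.hom] (i : N ⟶ G) [IsClosedImmersion i.left] : QuasiCompact N.hom := by
  rw [← Over.w i]; infer_instance

theorem isAffine_of_closed {N G : Over (Spec (CommRingCat.of k))}
    [IsAffine G.left] (i : N ⟶ G) [IsClosedImmersion i.left] : IsAffine N.left :=
  isAffine_of_isAffineHom i.left

theorem isProper_of_closed {N G : Over (Spec (CommRingCat.of k))}
    [IsProper G.hom] (i : N ⟶ G) [IsClosedImmersion i.left] : IsProper N.hom := by
  rw [← Over.w i]; infer_instance

theorem connectedSpace_of_surjective {G Q : Over (Spec (CommRingCat.of k))} (q : G ⟶ Q)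
    [Surjective q.left] [ConnectedSpace G.left] : ConnectedSpace Q.left :=
  q.left.surjective.connectedSpace q.left.continuous

theorem quasiCompact_left {G H : Over (Spec (CommRingCat.of k))} [QuasiCompact G.hom]
    [LocallyOfFiniteType H.hom] (f : G ⟶ H) : QuasiCompact f.left := by
  have : IsLocallyNoetherian H.left := LocallyOfFiniteType.isLocallyNoetherian H.hom
  have : QuasiCompact (f.left ≫ H.hom) := by rw [Over.w]; infer_instance
  exact QuasiCompact.of_comp f.left H.hom

theorem locallyOfFiniteType_left {G H : Over (Spec (CommRingCat.of k))} [LocallyOfFiniteType G.hom]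
    (f : G ⟶ H) : LocallyOfFiniteType f.left := by
  have : LocallyOfFiniteType (f.left ≫ H.hom) := by rw [Over.w]; infer_instance
  exact locallyOfFiniteType_of_comp f.left H.hom

/-- Properties which pass to the target of a flat surjective homomorphism. -/
theorem target_props {G Q : Over (Spec (CommRingCat.of k))} [GrpObj G] [GrpObj Q]
    [LocallyOfFiniteType G.hom] [QuasiCompact G.hom] (q : G ⟶ Q) [Flat q.left] [Surjective q.left]
    [LocallyOfFinitePresentation q.left] :
    LocallyOfFiniteType Q.hom ∧ QuasiCompact Q.hom ∧ Cov q := by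
  have e : q.left ≫ Q.hom = G.hom := Over.w q
  have h1 : LocallyOfFinitePresentation (q.left ≫ Q.hom) := by rw [e]; infer_instance
  have h2 : LocallyOfFinitePresentation Q.hom := Groth.Agent.S0114.result q.left Q.hom
  have h3 : LocallyOfFiniteType Q.hom := inferInstance
  have h4 : QuasiCompact (q.left ≫ Q.hom) := by rw [e]; infer_instance
  have h5 : QuasiCompact Q.hom := by
    have hc : CompactSpace G.left := QuasiCompact.compactSpace_of_compactSpace G.hom
    have hc' : CompactSpace Q.left := ⟨by
      rw [← q.left.surjective.range_eq]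
      exact isCompact_range q.left.continuous⟩
    exact (quasiCompact_iff_compactSpace (f := Q.hom)).mpr hc'
  exact ⟨h3, h5, K395.CovKit.cov_of q⟩

theorem isProper_target {G Q : Over (Spec (CommRingCat.of k))} [IsProper G.hom]
    [IsSeparated Q.hom] [LocallyOfFiniteType Q.hom] (q : G ⟶ Q) [Surjective q.left] :
    IsProper Q.hom := by
  have e : q.left ≫ Q.hom = G.hom := Over.w q
  have h3 : IsProper (q.left ≫ Q.hom) := by rw [e]; infer_instance
  exact Groth.Agent.Etrest.ProperOver.isProper_of_surjective' q.left Q.hom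

/-- The quotient of a group scheme of finite type by a closed normal subgroup scheme. -/
theorem exists_quot {N G : Over (Spec (CommRingCat.of k))} [GrpObj N] [GrpObj G]
    [LocallyOfFiniteType G.hom] [QuasiCompact G.hom] (i : N ⟶ G) [IsMonHom i]
    [IsClosedImmersion i.left] (hN : AlgGrp.IsNormalHom i) :
    ∃ (Q : Over (Spec (CommRingCat.of k))) (_ : GrpObj Q) (q : G ⟶ Q), IsMonHom q ∧ Flat q.left ∧
      Surjective q.left ∧ AlgGrp.IsKernel i q ∧ Cov q ∧ IsSeparated Q.hom ∧
      LocallyOfFiniteType Q.hom ∧ QuasiCompact Q.hom ∧ (Smooth G.hom → Smooth Q.hom) := by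
  have := mono_of_closed i
  have := locallyOfFiniteType_of_closed i
  obtain ⟨Q, _, q, h1, h2, h3, h4, h5, h6, -, h7⟩ := Groth.Agent.S3030.result k N G i hN
  obtain ⟨h8, h9, h10⟩ := target_props q
  exact ⟨Q, _, q, h1, h2, h3, h5, h10, h6, h8, h9, h7⟩

/-- The kernel of a homomorphism, as a closed normal subgroup scheme. -/
theorem exists_ker {G H : Over (Spec (CommRingCat.of k))} [GrpObj G] [GrpObj H]
    (u : G ⟶ H) [IsMonHom u] :
    ∃ (N : Over (Spec (CommRingCat.of k))) (_ : GrpObj N) (i : N ⟶ G), IsMonHom i ∧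
      IsClosedImmersion i.left ∧ AlgGrp.IsKernel i u ∧ AlgGrp.IsNormalHom i := by
  obtain ⟨h1, h2⟩ := exists_grpObj u
  have : IsSeparated H.hom := Books.AntiAffine.isSeparated_hom H
  exact ⟨kerObj u, h1, kerι u, h2, inferInstance, isPullback_ker u,
    Sga3.H821.AffProper.isNormalHom_of_isKernel k _ u (isPullback_ker u)⟩

/-- Factorization of a homomorphism through its image. -/
theorem exists_image {G H : Over (Spec (CommRingCat.of k))} [GrpObj G] [GrpObj H]
    [LocallyOfFiniteType H.hom] [QuasiCompact G.hom] (u : G ⟶ H) [IsMonHom u] :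
    ∃ (C : Over (Spec (CommRingCat.of k))) (_ : GrpObj C) (p : G ⟶ C) (i : C ⟶ H), IsMonHom p ∧
      IsMonHom i ∧ p ≫ i = u ∧ Cov p ∧ IsClosedImmersion i.left := by
  have : IsLocallyNoetherian H.left := LocallyOfFiniteType.isLocallyNoetherian H.hom
  have := quasiCompact_left u
  exact Sga3.H739.ImageFl.exists_image u

/-- A morphism of group schemes whose composite with a covering homomorphism is a homomorphism is
a homomorphism. -/
theorem isMonHom_of_cov {G Q H : Over (Spec (CommRingCat.of k))} [GrpObj G] [GrpObj Q] [GrpObj H]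
    (q : G ⟶ Q) [IsMonHom q] (hq : Cov q) (ψ : Q ⟶ H) (φ : G ⟶ H) [IsMonHom φ] (hψ : q ≫ ψ = φ) :
    IsMonHom ψ := by
  refine K395.Pts.isMonHom_of_pts ψ fun T x y => ?_
  obtain ⟨T₁, t₁, x', ht₁, hx'⟩ := hq.exists_local x
  obtain ⟨T₂, t₂, y', ht₂, hy'⟩ := hq.exists_local (t₁ ≫ y)
  refine (ht₂.comp ht₁).cancel ?_
  have e1 : ((t₂ ≫ x') * y') ≫ q = (t₂ ≫ t₁) ≫ (x * y) := by
    rw [MonObj.mul_comp, Category.assoc, hx', hy', MonObj.comp_mul, Category.assoc, Category.assoc]
  have e2 : (t₂ ≫ t₁) ≫ (x * y) ≫ ψ = ((t₂ ≫ x') * y') ≫ φ := by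
    rw [← hψ, ← Category.assoc _ q, e1, Category.assoc, Category.assoc, Category.assoc]
  have e3 : (t₂ ≫ t₁) ≫ x ≫ ψ = (t₂ ≫ x') ≫ φ := by
    rw [← hψ, Category.assoc, Category.assoc, ← Category.assoc x' q, hx', Category.assoc]
  have e4 : (t₂ ≫ t₁) ≫ y ≫ ψ = y' ≫ φ := by
    rw [← hψ, ← Category.assoc y' q, hy', Category.assoc, Category.assoc, Category.assoc]
  rw [e2, MonObj.comp_mul, e3, e4, MonObj.mul_comp]

/-- A homomorphism killing the kernel of a cover factors through it. -/
theorem exists_desc {N G Q H : Over (Spec (CommRingCat.of k))} [GrpObj G] [GrpObj Q] [GrpObj H]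
    (i : N ⟶ G) (q : G ⟶ Q) [IsMonHom q] (hq : Cov q) (hK : AlgGrp.IsKernel i q) (φ : G ⟶ H)
    [IsMonHom φ] (hφ : i ≫ φ = 1) : ∃ ψ : Q ⟶ H, IsMonHom ψ ∧ q ≫ ψ = φ := by
  obtain ⟨ψ, hψ⟩ := hq.exists_desc φ (fun x y hxy => by
    obtain ⟨n, hn⟩ := K395.Pts.exists_of_comp_eq hK x y hxy
    rw [hn, MonObj.mul_comp, Category.assoc, hφ, MonObj.comp_one, _root_.one_mul])
  exact ⟨ψ, isMonHom_of_cov q hq ψ φ hψ, hψ⟩

/-- A surjective homomorphism from an affine group to a smooth group: the target is affine. -/
theorem isAffine_of_surjective {L C : Over (Spec (CommRingCat.of k))} [GrpObj L] [GrpObj C]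
    [IsAffine L.left] [LocallyOfFiniteType L.hom] [LocallyOfFiniteType C.hom] [QuasiCompact C.hom]
    [IsReduced C.left] (p : L ⟶ C) [IsMonHom p] [Surjective p.left] : IsAffine C.left := by
  have := Sga3.H821.AffProper.quasiCompact_of_affine k L
  obtain ⟨D, _, r, i, hr, hi, hri, hc, hcl⟩ := exists_image p
  have hs : Surjective i.left := by
    have : Surjective (r ≫ i).left := by rw [hri]; infer_instance
    rw [Over.comp_left] at this
    exact Surjective.of_comp r.left i.left
  have h1 : IsIso i.left := isIso_of_isClosedImmersion_of_surjective i.left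
  have := hc.flat
  have := hc.surj
  have h2 : LocallyOfFiniteType D.hom := locallyOfFiniteType_of_closed i
  have h3 : QuasiCompact D.hom := quasiCompact_of_closed i
  have h4 : IsSeparated D.hom := Books.AntiAffine.isSeparated_hom D
  have h5 : IsAffine D.left := Sga3.H821.AffProper.isAffine_of_flat_surjective k L D r
  exact .of_isIso (inv i.left)

end K414.Kit
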