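import Groth.Agent.PRed.K543.MultSub
import Groth.Agent.Sga3.H829.Largest
import Groth.Agent.MiscA.HopfFlat
import Groth.Agent.Books.AffBridge2
import Groth.Agent.AlgGrp.K414.Kit
import Groth.Agent.S4130

/-!
# Unipotent affine groups over a field, scheme form, and groups of multiplicative type

* `K414.Unip.IsUnip U` : `U` is the spectrum of a unipotent Hopf algebra;
* `hom_eq_one` : homomorphisms from groups of multiplicative type to unipotent groups are trivial;
* `isUnip_of_surjective` : flat quotients (affine) of unipotent groups are unipotent;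
* `exists_quot` : a commutative affine group of finite type is an extension of a unipotent group by a group of
  multiplicative type.
-/

set_option autoImplicit false
universe u
open CategoryTheory MonoidalCategory CartesianMonoidalCategory MonObj GrpObj AlgebraicGeometry Limits
open scoped TensorProduct
open Groth.Agent Groth.Agent.Books.AffBridge Groth.Agent.Books.AffBridge2 Groth.Agent.Sga3A.ComodUnip
  Groth.Agent.Sga3A.ComodBasic

namespace K414.Unip

variable {k : Type u} [Field k]

/-- affine unipotent groups -/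
def IsUnip (U : Over (Spec (CommRingCat.of k))) [GrpObj U] : Prop :=
  ∃ (B : Type u) (_ : CommRing B) (_ : HopfAlgebra k B) (e : U ≅ SpecOver k B), IsMonHom e.hom ∧
    HopfRep.IsUnipotent k B

theorem bialgHom_eq {B C : Type u} [CommRing B] [HopfAlgebra k B] [CommRing C] [HopfAlgebra k C]
    (hC : SGA3b.IsMultTypeConst k C) (hB : HopfRep.IsUnipotent k B) (φ : B →ₐc[k] C) (b : B) :
    φ b = algebraMap k C (CoalgebraStruct.counit (R := k) b) := by
  obtain ⟨n, hn⟩ := exists_mem_soc hB b
  have h1 := Groth.Agent.Sga3.H793.UnipPart2.map_mem_soc φ n b hn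
  have h2 := Groth.Agent.Sga3.H793.MultPart.eq_counit_of_mem_soc hC n _ h1
  rw [h2, CoalgHomClass.counit_comp_apply φ b]

theorem hom_eq_one {M U : Over (Spec (CommRingCat.of k))} [GrpObj M] [GrpObj U] (hM : SGA3x.IsMultTypeFT M)
    (hU : IsUnip U) (f : M ⟶ U) [IsMonHom f] : f = 1 := by
  have h1 : IsAffineHom M.hom := Groth.Agent.Sga3.H829.MultConv.isAffineHom_of_isMultTypeFT hM
  have h2 : IsAffine M.left := isAffine_of_isAffineHom M.hom
  obtain ⟨B, _, _, e, he, hB⟩ := hU
  obtain ⟨A, _, _, e', he'⟩ := exists_hopf k M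
  have hA : SGA3b.IsMultTypeConst k A := Groth.Agent.Sga3.H829.MultConv.isMultTypeConst_of_isMultTypeFT
    (Groth.Agent.Sga3.H829.Central.isMultTypeFT_of_iso' e' hM)
  have i1 : IsMonHom (e'.inv ≫ f ≫ e.hom) := inferInstance
  obtain ⟨φ, hφ⟩ := exists_bialgHom_of_isMonHom k (e'.inv ≫ f ≫ e.hom)
  have h3 : (φ : B →ₐ[k] A) = (Algebra.ofId k A).comp (Bialgebra.counitAlgHom k B) :=
    AlgHom.ext fun b => bialgHom_eq hA hB φ b
  have h4 : e'.inv ≫ f ≫ e.hom = 1 := by
    rw [← hφ, h3, specMap_comp, specMap_counit, ← Category.assoc,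
      toUnit_unique (specMap k (Algebra.ofId k A) ≫ toUnit (SpecOver k k)) (toUnit _), Hom.one_def]
  have h5 : f = e'.hom ≫ (e'.inv ≫ f ≫ e.hom) ≫ e.inv := by simp
  rw [h5, h4, MonObj.one_comp, MonObj.comp_one]

theorem isUnip_of_surjective {U D : Over (Spec (CommRingCat.of k))} [GrpObj U] [GrpObj D] [IsAffine D.left]
    (hU : IsUnip U) (f : U ⟶ D) [IsMonHom f] [Flat f.left] [Surjective f.left] : IsUnip D := by
  obtain ⟨B, _, _, e, he, hB⟩ := hU
  obtain ⟨C, _, _, e', he'⟩ := exists_hopf k D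
  have i1 : IsMonHom (e.inv ≫ f ≫ e'.hom) := inferInstance
  obtain ⟨φ, hφ⟩ := exists_bialgHom_of_isMonHom k (e.inv ≫ f ≫ e'.hom)
  have j1 : IsIso e.inv.left := inferInstanceAs (IsIso ((Over.forget _).map e.inv))
  have j2 : IsIso e'.hom.left := inferInstanceAs (IsIso ((Over.forget _).map e'.hom))
  have h1 : Flat (specMap k (φ : C →ₐ[k] B)).left ∧ Surjective (specMap k (φ : C →ₐ[k] B)).left := by
    rw [hφ, Over.comp_left, Over.comp_left]
    exact ⟨inferInstance, inferInstance⟩
  have h2 : (φ : C →ₐ[k] B).toRingHom.FaithfullyFlat := (flat_and_surjective_specMap_iff k (φ : C →ₐ[k] B)).1 h1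
  have h3 : Function.Injective φ := h2.injective
  refine ⟨C, inferInstance, inferInstance, e', he', ?_⟩
  rw [Groth.Agent.Sga3.H793.UnipPart2.isUnipotent_iff_soc] at hB ⊢
  intro c
  obtain ⟨n, hn⟩ := hB (φ c)
  exact ⟨n, Groth.Agent.Sga3.H793.UnipPart2.mem_soc_of_map φ h3 n c hn⟩

theorem finiteType_of_iso {G : Over (Spec (CommRingCat.of k))} [LocallyOfFiniteType G.hom]
    {A : Type u} [CommRing A] [Algebra k A] (e : G ≅ SpecOver k A) : Algebra.FiniteType k A := by
  have h1 : LocallyOfFiniteType (SpecOver k A).hom := by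
    rw [← Over.w e.inv]; infer_instance
  exact (locallyOfFiniteType_specOver_iff k A).1 h1

/-- A commutative affine group of finite type is an extension of a unipotent group by a group of multiplicative type. -/
theorem exists_quot (G : Over (Spec (CommRingCat.of k))) [GrpObj G] [IsCommMonObj G] [IsAffine G.left]
    [LocallyOfFiniteType G.hom] :
    ∃ (C : Over (Spec (CommRingCat.of k))) (_ : GrpObj C) (c : C ⟶ G) (U : Over (Spec (CommRingCat.of k))) (_ : GrpObj U)
      (π : G ⟶ U), IsMonHom c ∧ IsClosedImmersion c.left ∧ SGA3x.IsMultTypeFT C ∧ IsMonHom π ∧ Flat π.left ∧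
      Surjective π.left ∧ AlgGrp.IsKernel c π ∧ IsUnip U := by
  obtain ⟨A, _, _, e, he⟩ := exists_hopf k G
  have hft : Algebra.FiniteType k A := finiteType_of_iso e
  have hco : Coalgebra.IsCocomm k A := by
    refine Groth.Agent.Sga3.H829.Largest.isCocomm_of_points fun X x y => ?_
    have h1 : (x ≫ e.inv) * (y ≫ e.inv) = (y ≫ e.inv) * (x ≫ e.inv) := _root_.mul_comm _ _
    rw [← MonObj.mul_comp, ← MonObj.mul_comp, cancel_mono] at h1
    exact h1
  obtain ⟨J, hJ, hMT, -, B, _, _, φ, hinj, hJB, hB⟩ := S4130.result k A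
  have hJ' : J.IsHopfIdeal k := hJ
  let mkH : A →ₐc[k] A ⧸ J := Bialgebra.Quotient.mkBialgHom (R := k) J
  have hq : Function.Surjective mkH := Ideal.Quotient.mk_surjective
  have i1 : IsMonHom (specMap k (mkH : A →ₐ[k] A ⧸ J)) := isMonHom_specMap k mkH
  have i2 : IsClosedImmersion (specMap k (mkH : A →ₐ[k] A ⧸ J)).left :=
    (isClosedImmersion_specMap_iff k _).2 hq
  have hff : (φ : B →+* A).FaithfullyFlat := MiscA.HopfFlat.faithfullyFlat φ hinj
  have i3 : IsMonHom (specMap k (φ : B →ₐ[k] A)) := isMonHom_specMap k φ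
  obtain ⟨i4, i5⟩ : Flat (specMap k (φ : B →ₐ[k] A)).left ∧ Surjective (specMap k (φ : B →ₐ[k] A)).left :=
    (flat_and_surjective_specMap_iff k (φ : B →ₐ[k] A)).2 hff
  have j1 : IsIso e.inv.left := inferInstanceAs (IsIso ((Over.forget _).map e.inv))
  have j2 : IsIso e.hom.left := inferInstanceAs (IsIso ((Over.forget _).map e.hom))
  have hk : AlgGrp.IsKernel (specMap k (mkH : A →ₐ[k] A ⧸ J)) (specMap k (φ : B →ₐ[k] A)) :=
    isKernel_specMap k (φ : B →ₐ[k] A) J hJB
  refine ⟨SpecOver k (A ⧸ J), inferInstance, specMap k (mkH : A →ₐ[k] A ⧸ J) ≫ e.inv, SpecOver k B, inferInstance,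
    e.hom ≫ specMap k (φ : B →ₐ[k] A), inferInstance, ?_, ?_, inferInstance, ?_, ?_, ?_, ?_⟩
  · rw [Over.comp_left]; infer_instance
  · have : Algebra.FiniteType k (A ⧸ J) := Algebra.FiniteType.of_surjective (Ideal.Quotient.mkₐ k J)
      Ideal.Quotient.mk_surjective
    exact Groth.Agent.Sga3.H829.MultConv.isMultTypeFT_of_isMultTypeConst hMT
  · rw [Over.comp_left]; infer_instance
  · rw [Over.comp_left]; infer_instance
  · refine IsPullback.of_iso hk (Iso.refl _) e.symm (Iso.refl _) (Iso.refl _) ?_ ?_ ?_ ?_ <;> simp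
  · exact ⟨B, inferInstance, inferInstance, Iso.refl _, inferInstanceAs (IsMonHom (𝟙 _)), hB⟩

/-- The quotient of a commutative affine group by its largest subgroup of multiplicative type is unipotent. -/
theorem exists_quot_of_max (G : Over (Spec (CommRingCat.of k))) [GrpObj G] [IsCommMonObj G] [IsAffine G.left]
    [LocallyOfFiniteType G.hom] (M : Over (Spec (CommRingCat.of k))) [GrpObj M] (j : M ⟶ G) [IsMonHom j]
    [IsClosedImmersion j.left] (hM : SGA3x.IsMultTypeFT M)
    (hMmax : ∀ (M' : Over (Spec (CommRingCat.of k))) [GrpObj M'] (j' : M' ⟶ G) [IsMonHom j']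
      [IsClosedImmersion j'.left], SGA3x.IsMultTypeFT M' → ∃ g : M' ⟶ M, g ≫ j = j') :
    ∃ (U : Over (Spec (CommRingCat.of k))) (_ : GrpObj U) (π : G ⟶ U), IsMonHom π ∧ Flat π.left ∧
      Surjective π.left ∧ AlgGrp.IsKernel j π ∧ IsUnip U := by
  obtain ⟨C, _, c, U, _, π, hc, hccl, hC, hπ, hfl, hs, hk, hU⟩ := exists_quot G
  have mj : Mono j := Kit.mono_of_closed j
  have mc : Mono c := Kit.mono_of_closed c
  obtain ⟨g, hg⟩ := hMmax C c hC
  obtain ⟨f, hf⟩ := K395.Pts.exists_of_comp_eq_one hk j (hom_eq_one hM hU (j ≫ π))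
  let e : M ≅ C := ⟨f, g, by rw [← cancel_mono j, Category.assoc, hg, hf, Category.id_comp],
    by rw [← cancel_mono c, Category.assoc, hf, hg, Category.id_comp]⟩
  refine ⟨U, inferInstance, π, inferInstance, inferInstance, inferInstance, ?_, hU⟩
  refine IsPullback.of_iso hk e.symm (Iso.refl _) (Iso.refl _) (Iso.refl _) ?_ ?_ ?_ ?_
  · simp [e, hg]
  · simp
  · simp
  · simp

end K414.Unip
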