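import Groth.Agent.Sga3.H801.AffMax
import Groth.Agent.PRed.K543.UnipPts
import Groth.Agent.PRed.K540.NoTor
import Groth.Agent.AlgGrp.K414.Unip

/-!
# Smooth affine groups without subtori over a field

`isUnip_of_hasNoSubtorus` : a smooth connected affine group over a field `k` which contains no non-trivial `k`-torus is
unipotent.
-/

set_option autoImplicit false
universe u
open CategoryTheory MonoidalCategory CartesianMonoidalCategory MonObj GrpObj AlgebraicGeometry Limits
open Groth.Agent

namespace K414.UnipTor

open Unip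

variable {k : Type u} [Field k]

theorem noTor_of_hasNoSubtorus (U : Over (Spec (CommRingCat.of k))) [GrpObj U] [IsAffine U.left] [Smooth U.hom]
    (h : Red.HasNoSubtorus k U) : K540.NoTor.NoTor U := by
  obtain ⟨T, _, i, hi⟩ := Sga3.H801.AffMax.exists_isMaximalTorus k U
  have h1 := hi.1
  have h2 := hi.2.1
  exact K540.NoTor.noTor_of_isMaximalTorus (h T i hi.2.2.1) hi

theorem isUnip_of_noTor (U : Over (Spec (CommRingCat.of k))) [GrpObj U] [IsAffine U.left] [Smooth U.hom]
    [ConnectedSpace ↥U.left] (h : K540.NoTor.NoTor U) : IsUnip U := by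
  obtain ⟨A, _, _, e, he, -, hA⟩ := K543.UnipPts.exists_isUnipotent U h
  exact ⟨A, inferInstance, inferInstance, e, he, hA⟩

theorem isUnip_of_hasNoSubtorus (U : Over (Spec (CommRingCat.of k))) [GrpObj U] [IsAffine U.left] [Smooth U.hom]
    [ConnectedSpace ↥U.left] (h : Red.HasNoSubtorus k U) : IsUnip U :=
  isUnip_of_noTor U (noTor_of_hasNoSubtorus U h)

end K414.UnipTor
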