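import Groth.Agent.AlgGrp.K414.Kit
import Groth.Agent.S3027
import Groth.Agent.S3026
import Groth.Agent.S3293
import Groth.Agent.Sga3B.Parab.Inter

/-!
# Rosenlicht decomposition over an arbitrary field

`G` a connected group scheme of finite type over a field `k` (not necessarily smooth), `q : G ⟶ A` a flat
surjective homomorphism to a proper group scheme with affine kernel `N`, `M` anti-affine, maximal.
* points of anti-affine subgroups are central (`central`);
* `M ⟶ A` is surjective, `N × M ⟶ G` is surjective;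
* `M` lies in every closed subgroup scheme `H` with `H · N = G`.
-/

set_option autoImplicit false
universe u
open CategoryTheory Limits MonoidalCategory CartesianMonoidalCategory MonObj GrpObj AlgebraicGeometry
open Groth.Agent Groth.Agent.Sga3.H739.Fpqc Groth.Agent.Sga3B.KerGrp

namespace K414.RosQ

variable {k : Type u} [Field k]

/-- A pointed morphism from an anti-affine scheme to a connected group scheme has central values. -/
theorem central {G : Over (Spec (CommRingCat.of k))} [GrpObj G] [LocallyOfFiniteType G.hom]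
    [QuasiCompact G.hom] [ConnectedSpace G.left] {X : Over (Spec (CommRingCat.of k))}
    [IsIso X.hom.appTop] (s : 𝟙_ (Over (Spec (CommRingCat.of k))) ⟶ X) (f : X ⟶ G)
    (hs : s ≫ f = η[G]) {T : Over (Spec (CommRingCat.of k))} (x : T ⟶ X) (g : T ⟶ G) :
    (x ≫ f) * g = g * (x ≫ f) := by
  obtain ⟨Z, _, i, _, _, hZ, Q, _, q, _, _, _, _, _, hk⟩ := Groth.Agent.S3027.result k G
  have h1 : f ≫ q = 1 := by
    rw [K398.AntiAff.eq_const s (f ≫ q), ← Category.assoc s, hs, IsMonHom.one_hom]
    exact (Hom.one_def).symm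
  obtain ⟨z, hz⟩ := K395.Pts.exists_of_comp_eq_one hk f h1
  exact (hZ X f).mp ⟨z, hz⟩ T x g

/-- A flat surjective homomorphism from a connected group scheme `G` to a proper one is already
surjective on an anti-affine closed subgroup scheme. -/
theorem exists_antiAffine_surjective {G A : Over (Spec (CommRingCat.of k))} [GrpObj G] [GrpObj A]
    [LocallyOfFiniteType G.hom] [QuasiCompact G.hom] [ConnectedSpace G.left] [IsProper A.hom]
    (q : G ⟶ A) [IsMonHom q] [Surjective q.left] [Flat q.left] :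
    ∃ (M : Over (Spec (CommRingCat.of k))) (_ : GrpObj M) (j : M ⟶ G), IsMonHom j ∧
      IsClosedImmersion j.left ∧ LocallyOfFiniteType M.hom ∧ QuasiCompact M.hom ∧
      IsIso M.hom.appTop ∧ Surjective (j ≫ q).left := by
  obtain ⟨Q, _, ρ, M, _, j, _, hQa, hQf, hρs, hρf, hj, hjc, hk, hM, hMf, hMq, -, -⟩ :=
    K414.Hull.exists_hull G
  refine ⟨M, _, j, hj, hjc, hMf, hMq, hM, ?_⟩
  have hqc : Cov q := K395.CovKit.cov_of q
  obtain ⟨B, _, p, b, hp, hb, hpb, hpc, hbc⟩ := Kit.exists_image (j ≫ q)
  have := Kit.mono_of_closed b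
  have hNM : AlgGrp.IsNormalHom j := Sga3.H821.AffProper.isNormalHom_of_isKernel k _ ρ hk
  have hNB : AlgGrp.IsNormalHom b :=
    Sga3.H739.ImageFl.isNormalHom_image j hNM q hqc p hpc b hpb
  obtain ⟨C, _, c, hc, hcf, hcs, hck, hcc, hCs, hCf, hCq, -⟩ := Kit.exists_quot b hNB
  have hCp : IsProper C.hom := Kit.isProper_target c
  have hCconn : ConnectedSpace C.left := by
    have := Kit.connectedSpace_of_surjective q
    exact Kit.connectedSpace_of_surjective c
  -- the map `G ⟶ C` factors through the affine hull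
  have h1 : j ≫ q ≫ c = 1 := by
    rw [← Category.assoc, ← hpb]
    exact K395.Pts.comp_eq_one hck p
  have hρc : Cov ρ := K395.CovKit.cov_of ρ
  obtain ⟨ψ, hψ, hρψ⟩ := Kit.exists_desc j ρ hρc hk (q ≫ c) h1
  have hψc : Cov ψ := hρc.of_comp (by rw [hρψ]; exact hqc.comp hcc)
  have := hψc.flat
  have := hψc.surj
  have hCa : IsAffine C.left := Sga3.H821.AffProper.isAffine_of_flat_surjective k Q C ψ
  have hone := Sga3.H821.AffProper.range_one_eq_univ k C
  have hs : Surjective η[C].left := ⟨Set.range_eq_univ.mp hone⟩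
  have hbs : Surjective b.left :=
    MorphismProperty.of_isPullback (P := @Surjective) (hck.map (Over.forget _)).flip hs
  have hps : Surjective p.left := hpc.surj
  have : Surjective (p.left ≫ b.left) := inferInstance
  rw [← Over.comp_left, hpb] at this
  exact this

/-- If `M` maps onto `A = G / N` then `N × M ⟶ G` is surjective. -/
theorem surjective_mul {S : Scheme.{u}} {N M G A : Over S} [GrpObj G] [GrpObj A] (i : N ⟶ G)
    (q : G ⟶ A) [IsMonHom q] (hq : AlgGrp.IsKernel i q) (j : M ⟶ G) (hj : Surjective (j ≫ q).left) :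
    Surjective ((i ⊗ₘ j) ≫ μ[G]).left := by
  let a : pullback q (j ≫ q) ⟶ G := pullback.fst q (j ≫ q)
  let m : pullback q (j ≫ q) ⟶ M := pullback.snd q (j ≫ q)
  have ha : Surjective a.left :=
    MorphismProperty.of_isPullback (P := @Surjective)
      ((IsPullback.of_hasPullback q (j ≫ q)).map (Over.forget _)).flip hj
  obtain ⟨n, hn⟩ := K395.Pts.exists_of_comp_eq hq a (m ≫ j)
    (by rw [Category.assoc]; exact pullback.condition)
  have h1 : lift n m ≫ (i ⊗ₘ j) ≫ μ[G] = a := by
    rw [hn, Hom.mul_def, ← Category.assoc, lift_map]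
  have h2 : Surjective ((lift n m).left ≫ ((i ⊗ₘ j) ≫ μ[G]).left) := by
    rw [← Over.comp_left, h1]; exact ha
  exact Surjective.of_comp (lift n m).left _

/-- An anti-affine closed subgroup scheme `M` of a connected group scheme `G` lies in every closed
subgroup scheme `H` such that `H · N = G` for some affine closed normal subgroup scheme `N`. -/
theorem exists_factor {G N A M H : Over (Spec (CommRingCat.of k))} [GrpObj G] [GrpObj N] [GrpObj A]
    [GrpObj M] [GrpObj H] [LocallyOfFiniteType G.hom] [QuasiCompact G.hom] [ConnectedSpace G.left]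
    (i : N ⟶ G) [IsMonHom i] [IsClosedImmersion i.left] [IsAffine N.left]
    (q : G ⟶ A) [IsMonHom q] (hq : AlgGrp.IsKernel i q)
    (j : M ⟶ G) [IsMonHom j] [IsClosedImmersion j.left] [IsIso M.hom.appTop]
    (h : H ⟶ G) [IsMonHom h] [IsClosedImmersion h.left]
    (hs : Surjective ((h ⊗ₘ i) ≫ μ[G]).left) : ∃ g : M ⟶ H, g ≫ h = j := by
  have hcen : ∀ {T : Over (Spec (CommRingCat.of k))} (x : T ⟶ M) (g : T ⟶ G),
      (x ≫ j) * g = g * (x ≫ j) := fun x g => central η[M] j (IsMonHom.one_hom j) x g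
  have hMf : LocallyOfFiniteType M.hom := Kit.locallyOfFiniteType_of_closed j
  have hMq : QuasiCompact M.hom := Kit.quasiCompact_of_closed j
  have hHf : LocallyOfFiniteType H.hom := Kit.locallyOfFiniteType_of_closed h
  have hHq : QuasiCompact H.hom := Kit.quasiCompact_of_closed h
  have hNf : LocallyOfFiniteType N.hom := Kit.locallyOfFiniteType_of_closed i
  have hNq : QuasiCompact N.hom := Kit.quasiCompact_of_closed i
  have := Kit.mono_of_closed j
  have := Kit.mono_of_closed h
  have := Kit.mono_of_closed i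
  have hcomm : IsCommMonObj M := (Groth.Agent.S3293.result k M
    (K398.AntiAff.bijective_of_isIso inferInstance)).2
  have hMs : Smooth M.hom := Groth.Agent.S3026.result k M
    (K398.AntiAff.bijective_of_isIso inferInstance)
  -- the intersection `D = M ∩ H` and the quotient `M / D`
  obtain ⟨D, _, d, e, hd, he, hD⟩ := Sga3B.Parab.Inter.exists_inter j h
  have hdc : IsClosedImmersion d.left :=
    MorphismProperty.of_isPullback (P := @IsClosedImmersion) (hD.map (Over.forget _)).flip ‹_›
  have hDN : AlgGrp.IsNormalHom d := by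
    intro T g n
    exact ⟨n, by rw [mul_comm g, mul_inv_cancel_right]⟩
  obtain ⟨C, _, c, hc, hcf, hcs, hck, hcc, hCs, hCf, hCq, hCsm⟩ := Kit.exists_quot d hDN
  have hCsm : Smooth C.hom := hCsm hMs
  have hCred : IsReduced C.left := Etcore.SmoothRed.isReduced_of_smooth C.hom
  -- the homomorphism `M × H ⟶ G`
  let Φ : M ⊗ H ⟶ G := (fst M H ≫ j) * (snd M H ≫ h)
  have hΦ : IsMonHom Φ := by
    refine K395.Pts.isMonHom_of_pts Φ fun T x y => ?_
    simp only [Φ, MonObj.comp_mul, MonObj.mul_comp, ← Category.assoc]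
    have e3 := hcen (y ≫ fst M H) ((x ≫ snd M H) ≫ h)
    rw [_root_.mul_assoc, ← _root_.mul_assoc ((y ≫ fst M H) ≫ j), e3]
    simp only [_root_.mul_assoc]
  have hPq : QuasiCompact (M ⊗ H).hom := by
    have : QuasiCompact (snd M H).left := inferInstanceAs (QuasiCompact (pullback.snd M.hom H.hom))
    rw [← Over.w (snd M H)]; infer_instance
  -- the subgroup `E` of pairs `(m, x)` with `m x ∈ N`
  obtain ⟨E, _, ε, hε, hEc, hEk, -⟩ := Kit.exists_ker (Φ ≫ q)
  have hEq : QuasiCompact E.hom := Kit.quasiCompact_of_closed ε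
  obtain ⟨n, hn⟩ := K395.Pts.exists_of_comp_eq_one hq (ε ≫ Φ) (by
    have := K395.Pts.comp_eq_one hEk (𝟙 E)
    rw [Category.id_comp] at this
    rw [Category.assoc, this])
  have hnh : IsMonHom n := by
    have : IsMonHom (n ≫ i) := by rw [hn]; infer_instance
    exact Sga3C.SubGrp.isMonHom_of_comp_mono n i
  obtain ⟨I, _, p, t, hp, ht, hpt, hpc, htc⟩ := Kit.exists_image n
  obtain ⟨r, hr⟩ := hpc.exists_desc (ε ≫ fst M H ≫ c) (fun {T} x y hxy => by
    have h1 : x ≫ ε ≫ Φ = y ≫ ε ≫ Φ := by
      rw [← hn, ← hpt, ← Category.assoc x, ← Category.assoc x, hxy]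
      simp only [Category.assoc]
    simp only [Φ, MonObj.comp_mul] at h1
    have h2 : ((y ≫ ε ≫ fst M H)⁻¹ * (x ≫ ε ≫ fst M H)) ≫ j =
        ((y ≫ ε ≫ snd M H) * (x ≫ ε ≫ snd M H)⁻¹) ≫ h := by
      rw [MonObj.mul_comp, MonObj.mul_comp, GrpObj.inv_comp, GrpObj.inv_comp]
      simp only [Category.assoc]
      rw [inv_mul_eq_iff_eq_mul, ← _root_.mul_assoc, ← h1, mul_inv_cancel_right]
    have h3 : (hD.lift _ _ h2 ≫ d) ≫ c = 1 := K395.Pts.comp_eq_one hck _
    rw [hD.lift_fst, MonObj.mul_comp, GrpObj.inv_comp, inv_mul_eq_one] at h3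
    simp only [Category.assoc] at h3 ⊢
    exact h3.symm)
  have hfst : IsMonHom (fst M H) := inferInstance
  have hrh : IsMonHom r := Kit.isMonHom_of_cov p hpc r (ε ≫ fst M H ≫ c) hr
  -- surjectivity
  have hsE : Surjective (ε ≫ fst M H).left := by
    let P := pullback ((h ⊗ₘ i) ≫ μ[G]) j
    let a : P ⟶ H ⊗ N := pullback.fst ((h ⊗ₘ i) ≫ μ[G]) j
    let m : P ⟶ M := pullback.snd ((h ⊗ₘ i) ≫ μ[G]) j
    have hm : Surjective m.left :=
      MorphismProperty.of_isPullback (P := @Surjective)
        ((IsPullback.of_hasPullback ((h ⊗ₘ i) ≫ μ[G]) j).map (Over.forget _)) hs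
    have h1 : ((a ≫ fst H N) ≫ h) * ((a ≫ snd H N) ≫ i) = m ≫ j := by
      have h2 : a ≫ (h ⊗ₘ i) ≫ μ[G] = m ≫ j := pullback.condition
      rw [← h2, Hom.mul_def]
      have h3 : a = lift (a ≫ fst H N) (a ≫ snd H N) := by ext1 <;> simp
      conv_rhs => rw [h3]
      rw [← Category.assoc, lift_map]
    have h2 : (lift m (a ≫ fst H N)⁻¹ ≫ Φ) = (a ≫ snd H N) ≫ i := by
      simp only [Φ, MonObj.comp_mul, ← Category.assoc, lift_fst, lift_snd]
      rw [hcen, GrpObj.inv_comp, ← h1, inv_mul_cancel_left]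
    obtain ⟨w, hw⟩ := K395.Pts.exists_of_comp_eq_one hEk (lift m (a ≫ fst H N)⁻¹) (by
      rw [← Category.assoc, h2]
      exact K395.Pts.comp_eq_one hq _)
    have h3 : w ≫ ε ≫ fst M H = m := by
      rw [← Category.assoc, hw, lift_fst]
    have h4 : Surjective (w.left ≫ (ε ≫ fst M H).left) := by
      rw [← Over.comp_left, h3]; exact hm
    exact Surjective.of_comp w.left _
  have hsr : Surjective r.left := by
    have h1 : Surjective (p.left ≫ r.left) := by
      rw [← Over.comp_left, hr, ← Category.assoc, Over.comp_left]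
      infer_instance
    exact Surjective.of_comp p.left r.left
  have hIa : IsAffine I.left := Kit.isAffine_of_closed t
  have hIf : LocallyOfFiniteType I.hom := Kit.locallyOfFiniteType_of_closed t
  have hCa : IsAffine C.left := Kit.isAffine_of_surjective r
  have hc1 : c = 1 := by
    rw [K398.AntiAff.eq_const η[M] c, IsMonHom.one_hom]
    exact (Hom.one_def).symm
  obtain ⟨g, hg⟩ := K395.Pts.exists_of_comp_eq_one hck (𝟙 M) (by rw [Category.id_comp, hc1])
  refine ⟨g ≫ e, ?_⟩
  rw [Category.assoc, ← hD.w, ← Category.assoc, hg, Category.id_comp]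

end K414.RosQ
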