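import Groth.Agent.Books.AntiAffine
import Groth.Prelude.Def_Red

/-!
# Anti-affineness and base change
-/

set_option autoImplicit false

open CategoryTheory Limits MonoidalCategory CartesianMonoidalCategory MonObj AlgebraicGeometry
open Groth.Agent

universe u

namespace K414.AntiAffBC

variable {K : Type u} [Field K]

/-- The condition `O(X) = k` in the form used in the statements, against `IsIso X.hom.appTop`. -/
theorem bijective_iff (X : Over (Spec (CommRingCat.of K))) :
    Function.Bijective ((Scheme.ΓSpecIso (CommRingCat.of K)).inv ≫ X.hom.appTop).hom ↔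
      IsIso X.hom.appTop := by
  rw [← ConcreteCategory.isIso_iff_bijective]
  constructor
  · intro h
    exact IsIso.of_isIso_comp_left (Scheme.ΓSpecIso (CommRingCat.of K)).inv X.hom.appTop
  · intro h
    infer_instance

theorem isIso_of_isIso_snd (X : Over (Spec (CommRingCat.of K))) [LocallyOfFiniteType X.hom]
    [QuasiCompact X.hom] {L : Type u} [Field L] (f : Spec (.of L) ⟶ Spec (.of K))
    (h : IsIso (pullback.snd X.hom f).appTop) : IsIso X.hom.appTop := by
  have hnoeth : IsLocallyNoetherian X.left := LocallyOfFiniteType.isLocallyNoetherian X.hom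
  have hcpt : CompactSpace X.left := QuasiCompact.compactSpace_of_compactSpace X.hom
  have h1 := Books.AntiAffine.isPushout_appTop_of_flat (IsPullback.of_hasPullback X.hom f)
  have h2 := isPullback_SpecMap_of_isPushout _ _ _ _ h1
  have h3 : (@Surjective ⊓ @Flat ⊓ @QuasiCompact : MorphismProperty Scheme.{u})
      (Spec.map f.appTop) := by
    have e : Arrow.mk (Spec.map f.appTop) ≅ Arrow.mk f :=
      (Arrow.isoMk (Scheme.isoSpec (Spec (.of L))) (Scheme.isoSpec (Spec (.of K)))
        (by simpa using (Scheme.toSpecΓ_naturality f).symm)).symm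
    have h4 : (@Surjective ⊓ @Flat ⊓ @QuasiCompact : MorphismProperty Scheme.{u}) f :=
      ⟨⟨inferInstance, inferInstance⟩, inferInstance⟩
    exact ((@Surjective ⊓ @Flat ⊓ @QuasiCompact : MorphismProperty Scheme.{u}).arrow_mk_iso_iff
      e).mpr h4
  have h5 : (MorphismProperty.isomorphisms Scheme.{u}) (Spec.map X.hom.appTop) :=
    MorphismProperty.of_isPullback_of_descendsAlong h2.flip h3
      (by rw [MorphismProperty.isomorphisms.iff]; infer_instance)
  rw [MorphismProperty.isomorphisms.iff] at h5
  rw [ConcreteCategory.isIso_iff_bijective]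
  exact isIso_SpecMap_iff.mp h5

theorem isIso_iff (X : Over (Spec (CommRingCat.of K))) [LocallyOfFiniteType X.hom]
    [QuasiCompact X.hom] {L : Type u} [Field L] (f : Spec (.of L) ⟶ Spec (.of K)) :
    IsIso X.hom.appTop ↔ IsIso (Red.bc f X).hom.appTop :=
  ⟨fun _ => Books.AntiAffine.isIso_snd_appTop X f, fun h => isIso_of_isIso_snd X f h⟩

theorem bijective_iff_bc (X : Over (Spec (CommRingCat.of K))) [LocallyOfFiniteType X.hom]
    [QuasiCompact X.hom] {L : Type u} [Field L] (f : Spec (.of L) ⟶ Spec (.of K)) :
    Function.Bijective ((Scheme.ΓSpecIso (CommRingCat.of K)).inv ≫ X.hom.appTop).hom ↔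
      Function.Bijective ((Scheme.ΓSpecIso (CommRingCat.of L)).inv ≫ (Red.bc f X).hom.appTop).hom := by
  rw [bijective_iff, bijective_iff, isIso_iff X f]

end K414.AntiAffBC
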