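import Groth.Agent.S5347
import Groth.Agent.S0115
import Groth.Agent.S0414
import Groth.Agent.Ega1.ReducedSub
import Groth.Agent.Etcore.SmoothRed
import Groth.Agent.Books.AntiAffine

/-!
# The orbit of a rational point with its reduced structure

`G` smooth over a field `k`, acting on `X` of finite type, `x` a rational point and `i : O ⟶ X`
an immersion from a reduced scheme with image the orbit: `G` acts on `O`, the orbit map `G ⟶ O` is
flat and surjective, `O` is smooth.
-/

set_option autoImplicit false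
universe u
open CategoryTheory Limits MonoidalCategory CartesianMonoidalCategory MonObj GrpObj AlgebraicGeometry
open Groth.Agent

namespace K414.OrbitRed

section General

variable {S : Scheme.{u}} {G X : Over S} [GrpObj G] (a : AlgGrp.Action G X)

theorem lift_one_act {W : Over S} (x : W ⟶ X) : lift (1 : W ⟶ G) x ≫ a.act = x :=
  Sga3C.Transl.lift_one_act a x

theorem lift_mul_act {W : Over S} (p q : W ⟶ G) (x : W ⟶ X) :
    lift (p * q) x ≫ a.act = lift p (lift q x ≫ a.act) ≫ a.act :=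
  Sga3C.Transl.lift_mul_act a p q x

theorem comp_orbitMap {T : Over S} (g : T ⟶ G) (o : 𝟙_ (Over S) ⟶ X) :
    g ≫ a.orbitMap o = lift g (toUnit T ≫ o) ≫ a.act := by
  rw [AlgGrp.Action.orbitMap, ← Category.assoc, comp_lift, Category.comp_id,
    ← Category.assoc, toUnit_unique (g ≫ toUnit G) (toUnit T)]

/-- Build an action from the laws on points. -/
def mkAction {Y : Over S} (act : G ⊗ Y ⟶ Y)
    (h1 : ∀ {T : Over S} (y : T ⟶ Y), lift (1 : T ⟶ G) y ≫ act = y)
    (h2 : ∀ {T : Over S} (g h : T ⟶ G) (y : T ⟶ Y),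
      lift (g * h) y ≫ act = lift g (lift h y ≫ act) ≫ act) : AlgGrp.Action G Y where
  act := act
  one_act := by
    have h := h1 (λ_ Y).hom
    rw [← h]
    congr 1
  mul_act := by
    have h := h2 (fst (G ⊗ G) Y ≫ fst G G) (fst (G ⊗ G) Y ≫ snd G G) (snd (G ⊗ G) Y)
    have e1 : (μ[G] ▷ Y) = lift ((fst (G ⊗ G) Y ≫ fst G G) * (fst (G ⊗ G) Y ≫ snd G G))
        (snd (G ⊗ G) Y) := by
      ext1
      · rw [whiskerRight_fst, lift_fst, Hom.mul_def, ← comp_lift]
        simp
      · simp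
    rw [e1, h, ← Category.assoc]
    congr 1
    ext1
    · simp
    · rw [lift_snd, Category.assoc, whiskerLeft_snd, ← Category.assoc]
      congr 1
      ext1 <;> simp

end General

section Field

variable {k : Type u} [Field k] {G X : Over (Spec (CommRingCat.of k))} [GrpObj G]
  (a : AlgGrp.Action G X) (x : 𝟙_ (Over (Spec (CommRingCat.of k))) ⟶ X)

theorem one_orbitMap : η[G] ≫ a.orbitMap x = x := by
  rw [comp_orbitMap, one_eq_one, lift_one_act, toUnit_unique (toUnit _) (𝟙 _), Category.id_comp]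

theorem mu_orbitMap : μ[G] ≫ a.orbitMap x = (G ◁ a.orbitMap x) ≫ a.act := by
  have h1 : (μ[G] : G ⊗ G ⟶ G) = fst G G * snd G G := by
    rw [Hom.mul_def]; simp
  have h2 : (G ◁ a.orbitMap x) = lift (fst G G) (snd G G ≫ a.orbitMap x) := by
    ext1 <;> simp
  rw [h1, h2, comp_orbitMap, comp_orbitMap, lift_mul_act]

/-- The action on the reduced orbit. -/
theorem exists_action [Smooth G.hom] [QuasiCompact G.hom] [LocallyOfFiniteType X.hom]
    (O : Scheme.{u}) (i : O ⟶ X.left) [IsImmersion i] [IsReduced O]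
    (hO : Set.range i = Set.range (a.orbitMap x).left) :
    ∃ (b : AlgGrp.Action G (Over.mk (i ≫ X.hom)))
      (o : 𝟙_ (Over (Spec (CommRingCat.of k))) ⟶ Over.mk (i ≫ X.hom)),
      b.act ≫ (Over.homMk i rfl : Over.mk (i ≫ X.hom) ⟶ X) =
        (G ◁ (Over.homMk i rfl : Over.mk (i ≫ X.hom) ⟶ X)) ≫ a.act ∧
      o ≫ (Over.homMk i rfl : Over.mk (i ≫ X.hom) ⟶ X) = x ∧
      b.orbitMap o ≫ (Over.homMk i rfl : Over.mk (i ≫ X.hom) ⟶ X) = a.orbitMap x ∧
      Flat (b.orbitMap o).left ∧ Surjective (b.orbitMap o).left ∧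
      LocallyOfFinitePresentation (b.orbitMap o).left := by
  set iO : Over.mk (i ≫ X.hom) ⟶ X := Over.homMk i rfl with hiO
  have hGred : IsReduced G.left := Etcore.SmoothRed.isReduced_of_smooth G.hom
  obtain ⟨ψ, hψ⟩ := Ega1.ReducedSub.exists_factor_of_range_subset (a.orbitMap x).left i hO.ge
  let ψ' : G ⟶ Over.mk (i ≫ X.hom) := Over.homMk ψ (by
    dsimp; rw [← Category.assoc, hψ, Over.w])
  have hψ' : ψ' ≫ iO = a.orbitMap x := by
    ext1; exact hψ
  have hmono : Mono iO := by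
    have : Mono iO.left := inferInstanceAs (Mono i)
    exact Over.mono_of_mono_left iO
  have hsurj : Surjective ψ := by
    refine ⟨fun z => ?_⟩
    have hz : i z ∈ Set.range (a.orbitMap x).left := by rw [← hO]; exact ⟨z, rfl⟩
    obtain ⟨g, hg⟩ := hz
    refine ⟨g, i.isEmbedding.injective ?_⟩
    rw [← hg, ← hψ]; rfl
  have hsurj' : Surjective (G ◁ ψ').left :=
    Books.AntiAffine.whiskerLeft_left_mem @Surjective ψ' G hsurj
  have hred : IsReduced (G ⊗ Over.mk (i ≫ X.hom)).left := by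
    have h1 : Smooth (snd G (Over.mk (i ≫ X.hom))).left :=
      inferInstanceAs (Smooth (pullback.snd G.hom (i ≫ X.hom)))
    have : IsReduced (Over.mk (i ≫ X.hom)).left := inferInstanceAs (IsReduced O)
    exact Etcore.SmoothRed.isReduced_of_smooth (snd G (Over.mk (i ≫ X.hom))).left
  have hrange : Set.range ((G ◁ iO) ≫ a.act).left ⊆ Set.range i := by
    rintro _ ⟨z, rfl⟩
    obtain ⟨w, rfl⟩ := (G ◁ ψ').left.surjective z
    have h1 : (G ◁ ψ') ≫ (G ◁ iO) ≫ a.act = μ[G] ≫ a.orbitMap x := by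
      rw [mu_orbitMap, ← hψ']; simp
    have h2 : ((G ◁ iO) ≫ a.act).left ((G ◁ ψ').left w) = (a.orbitMap x).left (μ[G].left w) := by
      have h3 := congrArg (fun f => f.left w) h1
      exact h3
    rw [hO, h2]
    exact ⟨_, rfl⟩
  obtain ⟨β, hβ⟩ := Ega1.ReducedSub.exists_factor_of_range_subset ((G ◁ iO) ≫ a.act).left i hrange
  let β' : G ⊗ Over.mk (i ≫ X.hom) ⟶ Over.mk (i ≫ X.hom) := Over.homMk β (by
    have := Over.w ((G ◁ iO) ≫ a.act)
    rw [← hβ, Category.assoc] at this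
    exact this)
  have hβ' : β' ≫ iO = (G ◁ iO) ≫ a.act := by
    ext1; exact hβ
  have key : ∀ {T : Over (Spec (CommRingCat.of k))} (g : T ⟶ G) (y : T ⟶ Over.mk (i ≫ X.hom)),
      (lift g y ≫ β') ≫ iO = lift g (y ≫ iO) ≫ a.act := by
    intro T g y
    rw [Category.assoc, hβ', ← Category.assoc]
    congr 1
    ext1 <;> simp
  let b : AlgGrp.Action G (Over.mk (i ≫ X.hom)) := mkAction β'
    (fun y => by rw [← cancel_mono iO, key, lift_one_act])
    (fun g h y => by rw [← cancel_mono iO, key, key, key, lift_mul_act])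
  let o : 𝟙_ (Over (Spec (CommRingCat.of k))) ⟶ Over.mk (i ≫ X.hom) := η[G] ≫ ψ'
  have ho : o ≫ iO = x := by
    rw [Category.assoc, hψ', one_orbitMap]
  have hbo : b.orbitMap o = ψ' := by
    rw [← cancel_mono iO, hψ', AlgGrp.Action.orbitMap]
    change (lift (𝟙 G) (toUnit G ≫ o) ≫ β') ≫ iO = _
    rw [key, Category.assoc, ho]
    rfl
  have hlft : LocallyOfFiniteType ψ := by
    have h1 : LocallyOfFiniteType (ψ ≫ (i ≫ X.hom)) := by
      rw [← Category.assoc, hψ, Over.w]; infer_instance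
    exact locallyOfFiniteType_of_comp ψ (i ≫ X.hom)
  have hOft : LocallyOfFiniteType (i ≫ X.hom) := inferInstance
  have hOnoeth : IsLocallyNoetherian O := LocallyOfFiniteType.isLocallyNoetherian (i ≫ X.hom)
  have hlfp : LocallyOfFinitePresentation ψ := inferInstance
  have hGcpt : CompactSpace G.left := QuasiCompact.compactSpace_of_compactSpace G.hom
  have hGnoeth : IsLocallyNoetherian G.left := LocallyOfFiniteType.isLocallyNoetherian G.hom
  have hqc : QuasiCompact ψ := by
    have : IsNoetherian G.left := {}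
    infer_instance
  have hOne : Nonempty O := ⟨ψ (η[G].left (IsLocalRing.closedPoint k))⟩
  obtain ⟨U, hU1, hU2, -⟩ := Groth.Agent.S0414.result ψ
  obtain ⟨u, hu⟩ := hU1.nonempty
  obtain ⟨g, rfl⟩ := ψ.surjective u
  have hflat : Flat ψ := by
    have h1 : Flat ((ψ ⁻¹ᵁ U).ι ≫ ψ) := by
      have : (ψ ∣_ U) ≫ U.ι = (ψ ⁻¹ᵁ U).ι ≫ ψ := morphismRestrict_ι _ _
      rw [← this]
      infer_instance
    have h2 : Sga3C.FlatPt.IsFlatAt ψ g :=
      Sga3C.FlatPt.IsFlatAt.of_comp (q := (ψ ⁻¹ᵁ U).ι) (f := ψ) (t := ⟨g, hu⟩)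
        (Sga3C.FlatPt.isFlatAt_of_flat _ _) (Sga3C.FlatPt.isFlatAt_of_flat _ _)
    have h3 := Groth.Agent.S5347.result k G (Over.mk (i ≫ X.hom)) b o
      ⟨g, by
        rw [hbo]
        exact (Sga3C.FlatPt.isFlatAt_iff_stalkMap ψ g).mp h2⟩
    rw [hbo] at h3
    exact h3
  refine ⟨b, o, hβ', ho, ?_, ?_, ?_, ?_⟩
  · rw [hbo, hψ']
  · rw [hbo]; exact hflat
  · rw [hbo]; exact hsurj
  · rw [hbo]; exact hlfp

theorem smooth_of_range_eq [Smooth G.hom] [QuasiCompact G.hom] [LocallyOfFiniteType X.hom]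
    (O : Scheme.{u}) (i : O ⟶ X.left) [IsImmersion i] [IsReduced O]
    (hO : Set.range i = Set.range (a.orbitMap x).left) : Smooth (i ≫ X.hom) := by
  obtain ⟨b, o, -, -, -, h1, h2, h3⟩ := exists_action a x O i hO
  have h4 : Smooth ((b.orbitMap o).left ≫ (i ≫ X.hom)) := by
    have : (b.orbitMap o).left ≫ (i ≫ X.hom) = G.hom := Over.w (b.orbitMap o)
    rw [this]; infer_instance
  exact Groth.Agent.S0115.result (b.orbitMap o).left (i ≫ X.hom)

end Field

end K414.OrbitRed
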