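import Groth.Agent.AlgGrp.K414.Unip

/-!
# Exactness of the largest subgroup of multiplicative type of commutative affine groups
-/

set_option autoImplicit false
universe u
open CategoryTheory MonoidalCategory CartesianMonoidalCategory MonObj GrpObj AlgebraicGeometry Limits
open Groth.Agent Groth.Agent.Sga3.H739.Fpqc

namespace K414.MultExact

open Unip Kit

variable {k : Type u} [Field k]

theorem isNormalHom_of_comm {S : Scheme.{u}} {N G : Over S} [GrpObj N] [GrpObj G] [IsCommMonObj G] (i : N ⟶ G) :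
    AlgGrp.IsNormalHom i := fun _ g n => ⟨n, by rw [_root_.mul_comm g, mul_inv_cancel_right]⟩

theorem isAffine_of_isUnip {U : Over (Spec (CommRingCat.of k))} [GrpObj U] (hU : IsUnip U) : IsAffine U.left := by
  obtain ⟨B, _, _, e, _, -⟩ := hU
  have h1 : IsAffine (Books.AffBridge.SpecOver k B).left := inferInstanceAs (IsAffine (Spec _))
  have h2 : IsIso e.hom.left := inferInstanceAs (IsIso ((Over.forget _).map e.hom))
  exact IsAffine.of_isIso e.hom.left

theorem main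
    (G₁ : Over (Spec (CommRingCat.of k))) [GrpObj G₁] [IsCommMonObj G₁] [IsAffine G₁.left] [LocallyOfFiniteType G₁.hom]
    (G : Over (Spec (CommRingCat.of k))) [GrpObj G] [IsCommMonObj G] [IsAffine G.left] [LocallyOfFiniteType G.hom]
    (G₂ : Over (Spec (CommRingCat.of k))) [GrpObj G₂] [IsCommMonObj G₂] [IsAffine G₂.left] [LocallyOfFiniteType G₂.hom]
    (i : G₁ ⟶ G) [IsMonHom i] [IsClosedImmersion i.left]
    (q : G ⟶ G₂) [IsMonHom q] [Surjective q.left] [Flat q.left] (hq : AlgGrp.IsKernel i q)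
    (M₁ : Over (Spec (CommRingCat.of k))) [GrpObj M₁] (j₁ : M₁ ⟶ G₁) [IsMonHom j₁] [IsClosedImmersion j₁.left]
    (hM₁ : SGA3x.IsMultTypeFT M₁)
    (hM₁max : ∀ (M' : Over (Spec (CommRingCat.of k))) [GrpObj M'] (j' : M' ⟶ G₁) [IsMonHom j']
      [IsClosedImmersion j'.left], SGA3x.IsMultTypeFT M' → ∃ g : M' ⟶ M₁, g ≫ j₁ = j')
    (M : Over (Spec (CommRingCat.of k))) [GrpObj M] (j : M ⟶ G) [IsMonHom j] [IsClosedImmersion j.left]
    (hM : SGA3x.IsMultTypeFT M)
    (hMmax : ∀ (M' : Over (Spec (CommRingCat.of k))) [GrpObj M'] (j' : M' ⟶ G) [IsMonHom j']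
      [IsClosedImmersion j'.left], SGA3x.IsMultTypeFT M' → ∃ g : M' ⟶ M, g ≫ j = j')
    (M₂ : Over (Spec (CommRingCat.of k))) [GrpObj M₂] (j₂ : M₂ ⟶ G₂) [IsMonHom j₂] [IsClosedImmersion j₂.left]
    (hM₂ : SGA3x.IsMultTypeFT M₂)
    (hM₂max : ∀ (M' : Over (Spec (CommRingCat.of k))) [GrpObj M'] (j' : M' ⟶ G₂) [IsMonHom j']
      [IsClosedImmersion j'.left], SGA3x.IsMultTypeFT M' → ∃ g : M' ⟶ M₂, g ≫ j₂ = j') :
    ∃ (u : M₁ ⟶ M) (v : M ⟶ M₂), u ≫ j = j₁ ≫ i ∧ v ≫ j₂ = j ≫ q ∧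
      IsClosedImmersion u.left ∧ Surjective v.left ∧ Flat v.left ∧ AlgGrp.IsKernel u v := by
  have mj : Mono j := mono_of_closed j
  have mj₁ : Mono j₁ := mono_of_closed j₁
  have mj₂ : Mono j₂ := mono_of_closed j₂
  have mi : Mono i := mono_of_closed i
  have qcG : QuasiCompact G.hom := inferInstance
  have qcG₂ : QuasiCompact G₂.hom := inferInstance
  obtain ⟨U₁, _, π₁, _, _, _, hk₁, hU₁⟩ := exists_quot_of_max G₁ M₁ j₁ hM₁ hM₁max
  obtain ⟨U, _, π, _, _, _, hk, hU⟩ := exists_quot_of_max G M j hM hMmax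
  obtain ⟨U₂, _, π₂, _, _, _, hk₂, hU₂⟩ := exists_quot_of_max G₂ M₂ j₂ hM₂ hM₂max
  obtain ⟨u, hu⟩ := K395.Pts.exists_of_comp_eq_one hk (j₁ ≫ i) (hom_eq_one hM₁ hU ((j₁ ≫ i) ≫ π))
  obtain ⟨v, hv⟩ := K395.Pts.exists_of_comp_eq_one hk₂ (j ≫ q) (hom_eq_one hM hU₂ ((j ≫ q) ≫ π₂))
  have hum : IsMonHom u := by
    have : IsMonHom (u ≫ j) := by rw [hu]; infer_instance
    exact Sga3C.SubGrp.isMonHom_of_comp_mono u j
  have hvm : IsMonHom v := by
    have : IsMonHom (v ≫ j₂) := by rw [hv]; infer_instance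
    exact Sga3C.SubGrp.isMonHom_of_comp_mono v j₂
  have hucl : IsClosedImmersion u.left := by
    have h1 : IsClosedImmersion (u.left ≫ j.left) := by
      rw [← Over.comp_left, hu, Over.comp_left]; infer_instance
    exact IsClosedImmersion.of_comp u.left j.left
  have mu : Mono u := mono_of_closed u
  have hMlft : LocallyOfFiniteType M.hom := locallyOfFiniteType_of_closed j
  have hM₂lft : LocallyOfFiniteType M₂.hom := locallyOfFiniteType_of_closed j₂
  have hMqc : QuasiCompact M.hom := quasiCompact_of_closed j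
  refine ⟨u, v, hu, hv, hucl, ?_⟩
  -- surjectivity
  obtain ⟨C, _, p, c, _, _, hpc, hp, hccl⟩ := exists_image v
  have mc : Mono c := mono_of_closed c
  have hcj : IsClosedImmersion (c ≫ j₂).left := by rw [Over.comp_left]; infer_instance
  obtain ⟨D, _, r, _, hrfl, hrs, hkr, hrcov, hsep, hDlft, hDqc, -⟩ := Kit.exists_quot (c ≫ j₂) (isNormalHom_of_comm _)
  have hDaff : IsAffine D.left := Groth.Agent.Sga3.H821.AffProper.isAffine_of_flat_surjective (k := k) G₂ D r
  have hUaff : IsAffine U.left := isAffine_of_isUnip hU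
  have hπcov : Cov π := ⟨inferInstance, inferInstance, inferInstance⟩
  have hqcov : Cov q := ⟨inferInstance, inferInstance, inferInstance⟩
  have hk0 : j ≫ q ≫ r = 1 := by
    rw [← Category.assoc, ← hv, ← hpc, Category.assoc p c j₂, K395.Pts.comp_eq_one hkr]
  obtain ⟨ψ, hψm, hψ⟩ := exists_desc j π hπcov hk (q ≫ r) hk0
  have hψcov : Cov ψ := hπcov.of_comp (by rw [hψ]; exact hqcov.comp hrcov)
  obtain ⟨_, _, _⟩ := hψcov
  have hDU : IsUnip D := isUnip_of_surjective hU ψ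
  obtain ⟨w, hw⟩ := K395.Pts.exists_of_comp_eq_one hkr j₂ (hom_eq_one hM₂ hDU (j₂ ≫ r))
  have hwc : w ≫ c = 𝟙 _ := by
    rw [← cancel_mono j₂, Category.assoc, hw, Category.id_comp]
  have hci : IsIso c := ⟨w, by rw [← cancel_mono c, Category.assoc, hwc, Category.comp_id, Category.id_comp], hwc⟩
  have hvcov : Cov v := by rw [← hpc]; exact hp.comp (Cov.of_isIso c)
  refine ⟨hvcov.surj, hvcov.flat, ?_⟩
  -- the kernel
  refine K395.Pts.isKernel_of_pts (fun T n => ?_) (fun T x hx => ?_)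
  · rw [← cancel_mono j₂, MonObj.one_comp, Category.assoc, hv, Category.assoc, reassoc_of% hu, ← Category.assoc,
      ← Category.assoc, K395.Pts.comp_eq_one hq]
  · obtain ⟨K', _, κ, _, hκcl, hκ, -⟩ := exists_ker v
    have mκ : Mono κ := mono_of_closed κ
    obtain ⟨y, hy⟩ := K395.Pts.exists_of_comp_eq_one hq (κ ≫ j) (by
      rw [Category.assoc, ← hv, ← Category.assoc]
      have := K395.Pts.comp_eq_one hκ (𝟙 K')
      rw [Category.id_comp] at this
      rw [this, MonObj.one_comp])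
    have hym : IsMonHom y := by
      have : IsMonHom (y ≫ i) := by rw [hy]; infer_instance
      exact Sga3C.SubGrp.isMonHom_of_comp_mono y i
    have hK' : SGA3x.IsMultTypeFT K' := K543.MultSub.isMultTypeFT_of_closed hM κ
    obtain ⟨z, hz⟩ := K395.Pts.exists_of_comp_eq_one hk₁ y (hom_eq_one hK' hU₁ (y ≫ π₁))
    obtain ⟨t, ht⟩ := K395.Pts.exists_of_comp_eq_one hκ x hx
    refine ⟨t ≫ z, ?_⟩
    rw [← cancel_mono j, Category.assoc, Category.assoc, hu, reassoc_of% hz, hy, reassoc_of% ht]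

end K414.MultExact
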