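import Groth.Agent.Sga3.H794.RedIdNormal
import Groth.Agent.Sga3B.RG.BrPts
import Groth.Agent.Sga3B.Parab.Inter
import Groth.Agent.Localalg.GrpDim
import Groth.Agent.S3023
import Groth.Agent.AlgGrp.K395.Pts

/-!
# Reduced neutral components of normal subgroups of smooth (not necessarily connected) groups

* `dim_eq_of_connectedComponent` : the reduced neutral component has the same dimension;
* `isNormalHom_redIdComp` : over an algebraically closed field the reduced neutral component of a normal closed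
  subgroup of a smooth group is normal;
* `exists_conj` : conjugates of a subgroup of a normal subgroup;
* `isNormalHom_comp_of_max` : a largest subgroup of its kind in a normal subgroup is normal.
-/

set_option autoImplicit false

universe u

open CategoryTheory MonoidalCategory CartesianMonoidalCategory MonObj GrpObj AlgebraicGeometry Limits
open Groth.Agent Groth.Agent.Books.AlgPts

namespace K414.RedNorm

theorem coheight_eq {X Y : Scheme.{u}} (f : X ⟶ Y) (hf : Topology.IsEmbedding f) (ho : IsOpen (Set.range f)) (x : X) :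
    Order.coheight x = Order.coheight (f x) := by
  apply Order.coheight_eq_of_strictMono
  · intro a b hab
    have h1 : f a ≤ f b := (show b ⤳ a from hab.le).map f.continuous
    refine lt_of_le_not_ge h1 fun h2 => ?_
    have h3 : (f a) ⤳ (f b) := h2
    exact hab.not_ge (hf.specializes_iff.mp h3)
  · intro a b hab
    have h1 : b ⤳ f a := hab.le
    obtain ⟨a', rfl⟩ := h1.mem_open ho ⟨a, rfl⟩
    refine ⟨a', lt_of_le_not_ge (hf.specializes_iff.mp h1) fun h2 => ?_, rfl⟩
    have h3 : f a ⤳ f a' := hf.specializes_iff.mpr h2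
    exact hab.not_ge h3

theorem dim_eq {k : Type u} [Field k] {P U : Over (Spec (CommRingCat.of k))} [GrpObj P] [GrpObj U]
    [LocallyOfFiniteType P.hom] (u : U ⟶ P) [IsClosedImmersion u.left]
    (ho : IsOpen (Set.range u.left)) : topologicalKrullDim U.left = topologicalKrullDim P.left := by
  have h1 : LocallyOfFiniteType U.hom := by rw [← Over.w u]; infer_instance
  have h2 : JacobsonSpace U.left := LocallyOfFiniteType.jacobsonSpace U.hom
  have h3 : JacobsonSpace P.left := LocallyOfFiniteType.jacobsonSpace P.hom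
  have h4 : Nonempty U.left := ⟨η[U].left (IsLocalRing.closedPoint k)⟩
  have h5 : Nonempty P.left := ⟨η[P].left (IsLocalRing.closedPoint k)⟩
  have g1 : GrpObj (Over.mk P.hom) := inferInstanceAs (GrpObj P)
  obtain ⟨x, -, hx⟩ := nonempty_inter_closedPoints (Z := (Set.univ : Set P.left))
    Set.univ_nonempty isClosed_univ.isLocallyClosed
  have hP := Localalg.GrpDim.topologicalKrullDim_eq_of_coheight P.left (Order.coheight x)
    fun y hy => Localalg.GrpDim.coheight_eq_of_closed' P.hom y x hy hx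
  rw [hP]
  refine Localalg.GrpDim.topologicalKrullDim_eq_of_coheight U.left _ fun y hy => ?_
  rw [coheight_eq u.left u.left.isClosedEmbedding.isEmbedding ho y]
  refine Localalg.GrpDim.coheight_eq_of_closed' P.hom _ x ?_ hx
  have := u.left.isClosedEmbedding.isClosedMap _ hy
  rwa [Set.image_singleton] at this

theorem isOpen_range {k : Type u} [Field k] {P U : Over (Spec (CommRingCat.of k))} [GrpObj P]
    [LocallyOfFiniteType P.hom] (u : U ⟶ P) (hu : Set.range u.left = connectedComponent (pt η[P])) :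
    IsOpen (Set.range u.left) := by
  obtain ⟨N0, _, i0, _, hcl0, hfl0, hr0⟩ := S3023.result k P
  have h1 : IsLocallyNoetherian P.left := LocallyOfFiniteType.isLocallyNoetherian P.hom
  have h2 : LocallyOfFinitePresentation i0.left := inferInstance
  rw [hu]
  have h3 := hr0 (IsLocalRing.closedPoint k)
  have h4 : Set.range i0.left = connectedComponent (pt η[P]) := h3
  rw [← h4]
  exact i0.left.isOpenMap.isOpen_range

theorem dim_eq_of_connectedComponent {k : Type u} [Field k] {P U : Over (Spec (CommRingCat.of k))} [GrpObj P] [GrpObj U]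
    [LocallyOfFiniteType P.hom] (u : U ⟶ P) [IsClosedImmersion u.left]
    (hu : Set.range u.left = connectedComponent (pt η[P])) : topologicalKrullDim U.left = topologicalKrullDim P.left :=
  dim_eq u (isOpen_range u hu)

section AlgClosed

variable {k : Type u} [Field k] [IsAlgClosed k]

/-- Over an algebraically closed field the reduced neutral component of a normal closed subgroup of a smooth group
is normal. -/
theorem isNormalHom_redIdComp {G N U : Over (Spec (CommRingCat.of k))} [GrpObj G] [GrpObj N]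
    [GrpObj U] [Smooth G.hom] [LocallyOfFiniteType N.hom]
    (n : N ⟶ G) [IsMonHom n] [IsClosedImmersion n.left] (hn : AlgGrp.IsNormalHom n)
    (u : U ⟶ N) [IsMonHom u] [IsClosedImmersion u.left] [Smooth U.hom] [ConnectedSpace U.left]
    (hu : Set.range u.left = connectedComponent (pt η[N])) : AlgGrp.IsNormalHom (u ≫ n) := by
  have hcl : IsClosedImmersion (u ≫ n).left := by rw [Over.comp_left]; infer_instance
  refine Sga3B.RG.BrPts.isNormalHom_of_points (u ≫ n) fun g x => ?_
  obtain ⟨c, hc⟩ := hn U (toUnit U ≫ g) u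
  have hmono : Mono n := Books.AlgPtsGrp.mono_of_isClosedImmersion n
  have hrange : Set.range c.left ⊆ Set.range u.left := by
    rw [hu]
    have h1 : _root_.IsPreconnected (Set.range c.left) := isPreconnected_range c.left.continuous
    refine h1.subset_connectedComponent ?_
    have h2 : η[U] ≫ c = η[N] := by
      rw [← cancel_mono n, Category.assoc, ← hc, MonObj.comp_mul, MonObj.comp_mul, GrpObj.comp_inv]
      simp [one_eq_one]
    rw [← h2, pt_comp]
    exact ⟨_, rfl⟩
  have hred : IsReduced U.left := Books.AlgPtsSmooth.isReduced_of_smooth U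
  obtain ⟨c2, hc2⟩ := Books.AlgPtsGrp.exists_lift u c hrange
  refine ⟨x ≫ c2, ?_⟩
  have h3 := congr(x ≫ $hc)
  rw [MonObj.comp_mul, MonObj.comp_mul, GrpObj.comp_inv] at h3
  rw [Category.assoc, reassoc_of% hc2, ← h3, ← Category.assoc x (toUnit U), toUnit_unique (x ≫ toUnit U) (𝟙 _),
    Category.id_comp]

end AlgClosed

/-- Inner automorphisms of `G` restrict to automorphisms of a normal subgroup `K`. -/
theorem exists_inner {S : Scheme.{u}} {G K : Over S} [GrpObj G] [GrpObj K] (j : K ⟶ G) [IsMonHom j] [Mono j]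
    (hj : AlgGrp.IsNormalHom j) (g : 𝟙_ (Over S) ⟶ G) :
    ∃ κ : K ⟶ K, IsMonHom κ ∧ IsIso κ ∧
      ∀ (T : Over S) (x : T ⟶ K), (toUnit T ≫ g) * (x ≫ j) * (toUnit T ≫ g)⁻¹ = (x ≫ κ) ≫ j := by
  have key : ∀ g : 𝟙_ (Over S) ⟶ G, ∃ κ : K ⟶ K,
      ∀ (T : Over S) (x : T ⟶ K), (toUnit T ≫ g) * (x ≫ j) * (toUnit T ≫ g)⁻¹ = (x ≫ κ) ≫ j := by
    intro g
    obtain ⟨c, hc⟩ := hj K (toUnit K ≫ g) (𝟙 K)
    refine ⟨c, fun T x => ?_⟩
    have h3 := congr(x ≫ $hc)
    rw [MonObj.comp_mul, MonObj.comp_mul, GrpObj.comp_inv, Category.id_comp] at h3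
    rw [Category.assoc, ← h3, ← Category.assoc x (toUnit K), toUnit_unique (x ≫ toUnit K) (toUnit T)]
  obtain ⟨κ, hκ⟩ := key g
  obtain ⟨κ', hκ'⟩ := key g⁻¹
  have e : ∀ T : Over S, toUnit T ≫ g⁻¹ = (toUnit T ≫ g)⁻¹ := fun T => GrpObj.comp_inv _ _
  refine ⟨κ, ?_, ⟨κ', ?_, ?_⟩, hκ⟩
  · refine K395.Pts.isMonHom_of_pts _ fun T x y => ?_
    rw [← cancel_mono j, ← hκ, MonObj.mul_comp, MonObj.mul_comp, ← hκ, ← hκ]
    group
  · rw [← cancel_mono j, ← hκ', ← Category.id_comp κ, ← hκ, e]
    group
  · rw [← cancel_mono j, ← hκ, ← Category.id_comp κ', ← hκ', e]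
    group

/-- A smooth closed subgroup of the normal subgroup `K` of the smooth group `G` which is stable under the inner
automorphisms of `G` is normal in `G`. -/
theorem isNormalHom_comp {k : Type u} [Field k] [IsAlgClosed k] {G K N : Over (Spec (CommRingCat.of k))}
    [GrpObj G] [GrpObj K] [GrpObj N] [Smooth G.hom] [Smooth N.hom]
    (j : K ⟶ G) [IsMonHom j] [IsClosedImmersion j.left] (hj : AlgGrp.IsNormalHom j)
    (i : N ⟶ K) [IsMonHom i] [IsClosedImmersion i.left]
    (h : ∀ κ : K ⟶ K, IsMonHom κ → IsIso κ → ∃ f : N ⟶ N, f ≫ i = i ≫ κ) : AlgGrp.IsNormalHom (i ≫ j) := by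
  have hcl : IsClosedImmersion (i ≫ j).left := by rw [Over.comp_left]; infer_instance
  have hmono : Mono j := Books.AlgPtsGrp.mono_of_isClosedImmersion j
  refine Sga3B.RG.BrPts.isNormalHom_of_points (i ≫ j) fun g x => ?_
  obtain ⟨κ, h1, h2, hκ⟩ := exists_inner j hj g
  obtain ⟨f, hf⟩ := h κ h1 h2
  have h3 := hκ _ (x ≫ i)
  rw [toUnit_unique (toUnit _) (𝟙 (𝟙_ (Over (Spec (CommRingCat.of k))))), Category.id_comp] at h3
  refine ⟨x ≫ f, ?_⟩
  rw [← Category.assoc x i j, h3, Category.assoc x i κ, ← hf]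
  simp only [Category.assoc]

/-- A subgroup of `K` normal in the overgroup `G` is normal in `K`. -/
theorem isNormalHom_of_comp {S : Scheme.{u}} {G K N : Over S} [GrpObj G] [GrpObj K] [GrpObj N] (j : K ⟶ G)
    [IsMonHom j] [Mono j] (i : N ⟶ K) (h : AlgGrp.IsNormalHom (i ≫ j)) : AlgGrp.IsNormalHom i := by
  intro T g n
  obtain ⟨n', hn'⟩ := h T (g ≫ j) n
  refine ⟨n', ?_⟩
  rw [← cancel_mono j, MonObj.mul_comp, MonObj.mul_comp, GrpObj.inv_comp, Category.assoc, hn', Category.assoc]

/-- The intersection of normal subgroups is normal. -/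
theorem isNormalHom_inter {S : Scheme.{u}} {G K L P : Over S} [GrpObj G] [GrpObj K] [GrpObj L] [GrpObj P]
    {j : K ⟶ G} {i : L ⟶ G} (hj : AlgGrp.IsNormalHom j) (hi : AlgGrp.IsNormalHom i) {a : P ⟶ K} {b : P ⟶ L}
    (hp : IsPullback a b j i) : AlgGrp.IsNormalHom (a ≫ j) := by
  intro T g n
  obtain ⟨x, hx⟩ := hj T g (n ≫ a)
  obtain ⟨y, hy⟩ := hi T g (n ≫ b)
  refine ⟨hp.lift x y ?_, ?_⟩
  · rw [← hx, ← hy, Category.assoc, Category.assoc, hp.w]
  · rw [← Category.assoc (hp.lift x y _), hp.lift_fst, ← hx, Category.assoc]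

end K414.RedNorm
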