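import Mathlib.FieldTheory.Finite.Basic
import Mathlib.RingTheory.Finiteness.Basic
import Mathlib.Algebra.Module.Torsion.Basic
import Mathlib.RingTheory.IntegralClosure.IsIntegral.Basic
import Mathlib.Algebra.Module.PID
import Mathlib.GroupTheory.FiniteAbelian.Basic
import Mathlib.RingTheory.FiniteType

/-!
# Finitely generated subrings of an algebraic extension of a finite prime field are finite
-/

set_option autoImplicit false
universe u

namespace K414.FinField

theorem finite_of_fg {k : Type u} [Field k] (p : ℕ) [hp : Fact p.Prime] [CharP k p]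
    (halg : ∀ x : k, ∃ n : ℕ, 0 < n ∧ x ^ p ^ n = x) (R₀ : Subalgebra ℤ k) (hR : R₀.FG) : Finite R₀ := by
  have h1 : Algebra.FiniteType ℤ R₀ := R₀.fg_iff_finiteType.mp hR
  have h2 : Algebra.IsIntegral ℤ R₀ := ⟨fun x => by
    obtain ⟨n, hn, hx⟩ := halg x.1
    have hq : 1 < p ^ n := Nat.one_lt_pow hn.ne' hp.out.one_lt
    refine ⟨Polynomial.X ^ (p ^ n) - Polynomial.X, ?_, ?_⟩
    · exact Polynomial.monic_X_pow_sub (by rw [Polynomial.degree_X]; exact_mod_cast hq)
    · rw [Polynomial.eval₂_sub, Polynomial.eval₂_pow, Polynomial.eval₂_X, sub_eq_zero]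
      exact Subtype.ext hx⟩
  have h3 : Module.Finite ℤ R₀ := Algebra.IsIntegral.finite
  refine Module.finite_of_fg_torsion R₀ ?_
  intro x
  refine ⟨⟨(p : ℤ), mem_nonZeroDivisors_of_ne_zero (by exact_mod_cast hp.out.ne_zero)⟩, ?_⟩
  apply Subtype.ext
  change ((p : ℤ) • (x : k)) = 0
  rw [zsmul_eq_mul]
  simp

end K414.FinField
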