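import Groth.Agent.AlgGrp.K414.FinAnti
import Groth.Agent.AlgGrp.K414.AntiAffBC
import Groth.Agent.AlgGrp.K414.FinField

/-!
# Descent of `anti-affine implies proper` from a field to a finite subring
-/

set_option autoImplicit false
universe u
open CategoryTheory Limits MonoidalCategory CartesianMonoidalCategory MonObj GrpObj AlgebraicGeometry
open Groth.Agent

namespace K414.AlgFin

theorem main_field {k₀ k : Type u} [Field k₀] [Finite k₀] [Field k]
    (f : Spec (CommRingCat.of k) ⟶ Spec (CommRingCat.of k₀)) (G₀ : Over (Spec (CommRingCat.of k₀))) [GrpObj G₀]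
    [LocallyOfFiniteType G₀.hom] [QuasiCompact G₀.hom] (G : Over (Spec (CommRingCat.of k))) [IsIso G.hom.appTop]
    (e : Red.bc f G₀ ≅ G) : IsProper G.hom := by
  have j1 : IsIso e.hom.left := inferInstanceAs (IsIso ((Over.forget _).map e.hom))
  have h1 : IsIso (Red.bc f G₀).hom.appTop := by
    have h2 : (Red.bc f G₀).hom = e.hom.left ≫ G.hom := (Over.w e.hom).symm
    have h3 : IsIso e.hom.left.appTop := inferInstanceAs (IsIso (Scheme.Γ.map e.hom.left.op))
    rw [h2, Scheme.Hom.comp_appTop]
    infer_instance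
  have h3 : IsIso G₀.hom.appTop := (AntiAffBC.isIso_iff G₀ f).mpr h1
  have h4 : IsProper G₀.hom := FinAnti.isProper_of_finite G₀
  have h5 : IsProper (Red.bc f G₀).hom := inferInstanceAs (IsProper (pullback.snd G₀.hom f))
  have j2 : IsIso e.inv.left := inferInstanceAs (IsIso ((Over.forget _).map e.inv))
  rw [← Over.w e.inv]
  infer_instance

theorem main {R k : Type u} [CommRing R] [IsDomain R] [Finite R] [Field k] (φ : R →+* k)
    (G₀ : Over (Spec (CommRingCat.of R))) [GrpObj G₀]
    [LocallyOfFiniteType G₀.hom] [QuasiCompact G₀.hom] (G : Over (Spec (CommRingCat.of k))) [GrpObj G]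
    [IsIso G.hom.appTop]
    (e : Grp.mk (Red.bc (Spec.map (CommRingCat.ofHom φ)) G₀) ≅ Grp.mk G) : IsProper G.hom := by
  let _ : Field R := (Finite.isField_of_domain R).toField
  exact main_field (Spec.map (CommRingCat.ofHom φ)) G₀ G ((Grp.forget _).mapIso e)

end K414.AlgFin
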