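import Groth.Agent.AlgGrp.K414.AmpSec

/-!
# The character of an eigensection and its local form
-/

set_option autoImplicit false
set_option linter.unusedSectionVars false
universe u
open CategoryTheory MonoidalCategory CartesianMonoidalCategory MonObj GrpObj AlgebraicGeometry Limits TopologicalSpace

namespace K414.AmpChar

open Groth.Agent K410.LocSec K410.FnLaw K410.FnVal K410.LocSys K410.LocTrans K414.AmpPts K414.AmpTau K414.AmpSec
open Groth.Agent.Fdesc.LocGen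

variable {k : Type u} [Field k] {N G A : Over (Spec (CommRingCat.of k))} [GrpObj N] [GrpObj G] [GrpObj A]
  [IsCommMonObj G] (i : N ⟶ G) {q : G ⟶ A} [IsMonHom i] [IsMonHom q] (hk : AlgGrp.IsKernel i q)
  {M : A.left.Modules}

theorem evk_toUnit {X : Over (Spec (CommRingCat.of k))} (y : Pt X) (c : k) :
    evk y ((toUnit X).left.appTop.hom ((Scheme.ΓSpecIso (CommRingCat.of k)).inv.hom c)) = c := by
  rw [← evk_comp, toUnit_unique (y ≫ toUnit X) (𝟙 _)]
  simp only [evk, RingHom.comp_apply]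
  have h1 : (𝟙 (𝟙_ (Over (Spec (CommRingCat.of k)))) : _ ⟶ 𝟙_ (Over (Spec (CommRingCat.of k)))).left.appTop = 𝟙 _ := by
    rw [Over.id_left]
    exact Scheme.Hom.id_app _
  rw [h1]
  exact congr($((Scheme.ΓSpecIso (CommRingCat.of k)).inv_hom_id) c)

theorem evk_kc {X : Over (Spec (CommRingCat.of k))} (U : X.left.Opens) (y : Pt (ov X U)) (c : k) :
    evk y (tf U (kc X U c)) = c := by
  have h1 : tf U (kc X U c) = (toUnit (ov X U)).left.appTop.hom ((Scheme.ΓSpecIso (CommRingCat.of k)).inv.hom c) :=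
    congr($(U.topIso.hom_inv_id) ((toUnit (ov X U)).left.appTop.hom
      ((Scheme.ΓSpecIso (CommRingCat.of k)).inv.hom c)))
  rw [h1, evk_toUnit]

theorem appTop_tf {X Y : Over (Spec (CommRingCat.of k))} {W : X.left.Opens} (x : ov X W ⟶ Y) (c : Γ(Y.left, ⊤)) :
    tf W (val c x) = x.left.appTop.hom c := congr($(W.topIso.hom_inv_id) (x.left.appTop.hom c))

theorem evk_tau (n : Pt N) (W : A.left.Opens) (f : Γ(G.left, q.left ⁻¹ᵁ W)) (y : Pt (ov G (q.left ⁻¹ᵁ W))) :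
    evk y (tf _ (tau i hk n W f)) = evk (y ≫ rs (tr (n ≫ i)) (ker_le i hk n W)) (tf _ f) := by
  rw [tau_eq_val, appTop_tf, evk_comp]

section

variable {τ : Γ((Scheme.Modules.pullback q.left).obj M, ⊤)} {χ : Pt N → k}
  (hχ : ∀ (n : Pt N) (W : A.left.Opens) (e : Γ(M, W)) (_ : IsGen e) (f : Γ(G.left, q.left ⁻¹ᵁ W)), Coef τ e f →
    tau i hk n W f = kc G _ (χ n) * f)
include hχ

theorem evk_rs {W : A.left.Opens} {e : Γ(M, W)} (he : IsGen e) {f : Γ(G.left, q.left ⁻¹ᵁ W)} (hf : Coef τ e f)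
    (n : Pt N) (y : Pt (ov G (q.left ⁻¹ᵁ W))) :
    evk (y ≫ rs (tr (n ≫ i)) (ker_le i hk n W)) (tf _ f) = χ n * evk y (tf _ f) := by
  rw [← evk_tau i hk, hχ n W e he f hf]
  have h1 : tf (q.left ⁻¹ᵁ W) (kc G _ (χ n) * f) = tf _ (kc G _ (χ n)) * tf _ f := map_mul _ _ _
  rw [h1, map_mul, evk_kc]

variable [IsAlgClosed k] [LocallyOfFiniteType G.hom] [IsIntegral G.left] [Surjective q.left]

omit hχ in
theorem exists_ne_zero (hM : PicF.IsInvertible M) (hτ : τ ≠ 0) : ∃ (W : A.left.Opens) (e : Γ(M, W))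
    (f : Γ(G.left, q.left ⁻¹ᵁ W)) (y : Pt (ov G (q.left ⁻¹ᵁ W))), IsGen e ∧ Coef τ e f ∧ evk y (tf _ f) ≠ 0 := by
  obtain ⟨x⟩ : Nonempty A.left := ⟨q.left (genericPoint G.left)⟩
  obtain ⟨V, e, hx, he⟩ := (isInvertible_iff M).mp hM x
  obtain ⟨f, hf⟩ := exists_coef τ he
  have hf0 : f ≠ 0 := by
    rintro rfl
    exact hτ (eq_zero_of_coef hM τ e ⟨⟨x, hx⟩⟩ hf)
  by_contra hcon
  push Not at hcon
  apply hf0
  have : IsReduced (ov G (q.left ⁻¹ᵁ V)).left := inferInstanceAs (IsReduced (q.left ⁻¹ᵁ V).toScheme)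
  have : LocallyOfFiniteType (ov G (q.left ⁻¹ᵁ V)).hom :=
    inferInstanceAs (LocallyOfFiniteType ((q.left ⁻¹ᵁ V).ι ≫ G.hom))
  have h1 : tf (q.left ⁻¹ᵁ V) f = 0 := fn_ext fun y => by
    rw [hcon V e f y he hf, map_zero]
  have h2 : (q.left ⁻¹ᵁ V).topIso.hom.hom (tf (q.left ⁻¹ᵁ V) f) = f :=
    congr($((q.left ⁻¹ᵁ V).topIso.inv_hom_id) f)
  rw [← h2, h1, map_zero]

theorem chi_mul (hM : PicF.IsInvertible M) (hτ : τ ≠ 0) (n m : Pt N) : χ (n * m) = χ n * χ m := by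
  obtain ⟨W, e, f, y, he, hf, hy⟩ := exists_ne_zero (τ := τ) hM hτ
  have h1 := evk_rs i hk hχ he hf (n * m) y
  rw [← rs_mul i hk, ← Category.assoc, evk_rs i hk hχ he hf, evk_rs i hk hχ he hf] at h1
  have h2 := mul_right_cancel₀ hy (h1.symm.trans (_root_.mul_assoc _ _ _).symm)
  rw [h2, _root_.mul_comm]

theorem chi_one (hM : PicF.IsInvertible M) (hτ : τ ≠ 0) : χ 1 = 1 := by
  obtain ⟨W, e, f, y, he, hf, hy⟩ := exists_ne_zero (τ := τ) hM hτ
  have h1 := evk_tau i hk 1 W f y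
  rw [tau_one, evk_rs i hk hχ he hf] at h1
  exact mul_right_cancel₀ hy (h1.symm.trans (_root_.one_mul _).symm)

/-- **The character** of an eigensection. -/
theorem exists_char [Smooth N.hom] (hM : PicF.IsInvertible M) (hτ : τ ≠ 0) :
    ∃ c : Γ(N.left, ⊤), IsMul c ∧ IsUnit c ∧ ∀ n : Pt N, evk n c = χ n := by
  obtain ⟨W, e, f, y, he, hf, hy⟩ := exists_ne_zero (τ := τ) hM hτ
  obtain ⟨m, hm⟩ := exists_act i hk W
  let j : N ⟶ ov G (q.left ⁻¹ᵁ W) := lift (𝟙 N) (toUnit N ≫ y) ≫ m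
  have hj : ∀ n : Pt N, n ≫ j = y ≫ rs (tr (n ≫ i)) (ker_le i hk n W) := by
    intro n
    apply K410.LocSec.hom_ext
    rw [Category.assoc, Category.assoc, Category.assoc, rs_inc, hm, comp_tr, ← Category.assoc, comp_lift, MonObj.comp_mul,
      lift_snd_assoc, lift_fst_assoc, MonObj.comp_mul, Category.comp_id, ← Category.assoc n, ← Category.assoc y,
      toUnit_unique (n ≫ toUnit N) (𝟙 _), Category.id_comp, toUnit_unique (y ≫ toUnit _) (𝟙 _),
      Category.id_comp]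
  obtain ⟨c, hc⟩ : ∃ c : Γ(N.left, ⊤), ∀ n : Pt N, evk n c = χ n := by
    refine ⟨(toUnit N).left.appTop.hom ((Scheme.ΓSpecIso (CommRingCat.of k)).inv.hom
      (evk y (tf _ f))⁻¹) * j.left.appTop.hom (tf _ f), fun n => ?_⟩
    rw [map_mul, evk_toUnit, ← evk_comp, hj, evk_rs i hk hχ he hf, _root_.mul_comm, _root_.mul_assoc,
      mul_inv_cancel₀ hy, _root_.mul_one]
  refine ⟨c, ?_, ?_, hc⟩
  · intro T x z
    have hsm : Smooth (N ⊗ N).hom := inferInstanceAs (Smooth (pullback.fst N.hom N.hom ≫ N.hom))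
    have hred : IsReduced (N ⊗ N).left := Flat2B.SmoothGeom.isReduced_of_smooth (N ⊗ N).hom
    have h1 : μ[N].left.appTop.hom c = (fst N N).left.appTop.hom c * (snd N N).left.appTop.hom c := by
      refine fn_ext fun w => ?_
      rw [map_mul, ← evk_comp, ← evk_comp, ← evk_comp, hc, hc, hc]
      have h2 : w ≫ μ[N] = (w ≫ fst N N) * (w ≫ snd N N) := by
        rw [Hom.mul_def, ← comp_lift, lift_fst_snd, Category.comp_id]
      rw [h2, chi_mul i hk hχ hM hτ]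
    have h3 := congrArg (fun t => (lift x z).left.appTop.hom t) h1
    simp only [map_mul] at h3
    have h4 : ∀ {Y : Over (Spec (CommRingCat.of k))} (a : T ⟶ Y) (b : Y ⟶ N),
        a.left.appTop.hom (b.left.appTop.hom c) = (a ≫ b).left.appTop.hom c := by
      intro Y a b
      rw [Over.comp_left, Scheme.Hom.comp_appTop]
      rfl
    rw [h4, h4, h4, lift_fst, lift_snd] at h3
    exact h3
  · refine isUnit_of_evk fun n => ?_
    rw [hc]
    intro h0
    have h5 := chi_mul i hk hχ hM hτ n n⁻¹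
    rw [mul_inv_cancel, chi_one i hk hχ hM hτ, h0, zero_mul] at h5
    exact one_ne_zero h5

/-- **The local form** of an eigensection. -/
theorem exists_form (c : Γ(N.left, ⊤)) (hc : ∀ n : Pt N, evk n c = χ n) (p : LS q) (e : Γ(M, p.V)) (he : IsGen e)
    (f : Γ(G.left, q.left ⁻¹ᵁ p.V)) (hf : Coef τ e f) :
    ∃ b : Γ(A.left, p.V), f = val c (rp i hk p) * (q.left.app p.V).hom b := by
  obtain ⟨s', hs'⟩ := exists_lift_ov q p.V p.s (𝟙 _) (by rw [p.hs, Category.id_comp])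
  refine ⟨val (tf _ f) s', ?_⟩
  have : IsReduced (ov G (q.left ⁻¹ᵁ p.V)).left := inferInstanceAs (IsReduced (q.left ⁻¹ᵁ p.V).toScheme)
  have : LocallyOfFiniteType (ov G (q.left ⁻¹ᵁ p.V)).hom :=
    inferInstanceAs (LocallyOfFiniteType ((q.left ⁻¹ᵁ p.V).ι ≫ G.hom))
  have h1 : tf (q.left ⁻¹ᵁ p.V) f = tf (q.left ⁻¹ᵁ p.V) (val c (rp i hk p) *
      (q.left.app p.V).hom (val (tf _ f) s')) := by
    refine fn_ext fun y => ?_
    have h2 : tf (q.left ⁻¹ᵁ p.V) (val c (rp i hk p) * (q.left.app p.V).hom (val (tf _ f) s')) =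
        tf _ (val c (rp i hk p)) * tf _ ((q.left.app p.V).hom (val (tf _ f) s')) := map_mul _ _ _
    rw [h2, map_mul, appTop_tf, ← evk_comp, hc]
    have h3 : (q.left.app p.V).hom (val (tf _ f) s') = val (tf _ f) (qr p.V ≫ s') := (val_app (tf _ f) q s').symm
    rw [h3, appTop_tf, ← evk_comp]
    have h4 : y = (y ≫ qr p.V ≫ s') ≫ rs (tr ((y ≫ rp i hk p) ≫ i)) (ker_le i hk _ p.V) := by
      apply K410.LocSec.hom_ext
      have h7 : (y ≫ qr p.V ≫ s') ≫ inc G (q.left ⁻¹ᵁ p.V) = y ≫ qr p.V ≫ p.s := by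
        rw [Category.assoc, Category.assoc, hs']
      rw [Category.assoc, rs_inc, comp_tr, MonObj.comp_mul, h7, ← Category.assoc (y ≫ qr p.V ≫ s') (toUnit _),
        toUnit_unique ((y ≫ qr p.V ≫ s') ≫ toUnit _) (𝟙 _), Category.id_comp, Category.assoc y, rp_comp,
        MonObj.comp_mul, GrpObj.comp_inv, _root_.mul_comm (y ≫ inc G _), mul_inv_cancel_left]
    conv_lhs => rw [h4]
    rw [evk_rs i hk hχ he hf]
  have h5 := congrArg (fun t => (q.left ⁻¹ᵁ p.V).topIso.hom.hom t) h1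
  have h6 : ∀ t, (q.left ⁻¹ᵁ p.V).topIso.hom.hom (tf (q.left ⁻¹ᵁ p.V) t) = t := fun t =>
    congr($((q.left ⁻¹ᵁ p.V).topIso.inv_hom_id) t)
  simp only [h6] at h5
  exact h5

end

end K414.AmpChar
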