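import Groth.Agent.AbVar.K524.Degen
import Groth.Agent.AbVar.K511.AmpleVan
import Groth.Agent.AlgGrp.K414.Kit
import Groth.Agent.Sga3B.CentNorm900
import Groth.Agent.S3020
import Groth.Agent.S2336

/-!
# A class on an abelian variety whose pullback to a group covering it is ample is nondegenerate

`nd_of_isAmple_pull`: `k` algebraically closed, `q : G ⟶ A` a surjective homomorphism of group schemes of finite type,
`A` an abelian variety, `c` a class on `A` with `q^* c` ample; then `K(c)` is finite.
-/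

set_option autoImplicit false
universe u

open CategoryTheory CategoryTheory.Limits MonoidalCategory CartesianMonoidalCategory AlgebraicGeometry TopologicalSpace
open scoped MonObj
open Groth.Agent Groth.Agent.Grpsch Groth.Agent.Grpsch.PicGrp Groth.Agent.Grpsch.Cube
open Groth.Agent.Pic13.H116.Tw
open K506.Transl (tr phi Inv)

namespace K414.AmpNd

/-- Inverse images of subgroups. -/
theorem exists_grpObj_pullback {S : Scheme.{u}} {G G' C C' : Over S} [GrpObj G] [GrpObj G'] [GrpObj C'] (u : G ⟶ G')
    [IsMonHom u] (c' : C' ⟶ G') [IsMonHom c'] [Mono c'] {c : C ⟶ G} {w : C ⟶ C'} (sq : IsPullback c w u c') :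
    ∃ _ : GrpObj C, IsMonHom c ∧ IsMonHom w := by
  have hm : Mono c := MorphismProperty.of_isPullback (P := MorphismProperty.monomorphisms _) sq.flip
    (inferInstanceAs (Mono c'))
  obtain ⟨_, h⟩ := Sga3B.CentNorm900.exists_grpObj c (fun X g => ∃ y : X ⟶ C', y ≫ c' = g ≫ u)
    (fun X g => ⟨fun ⟨z, hz⟩ => ⟨z ≫ w, by rw [Category.assoc, ← sq.w, ← Category.assoc, hz]⟩,
      fun ⟨y, hy⟩ => ⟨sq.lift g y hy.symm, sq.lift_fst _ _ _⟩⟩)
    (fun X g h ⟨y, hy⟩ ⟨z, hz⟩ => ⟨y * z, by rw [MonObj.mul_comp, MonObj.mul_comp, hy, hz]⟩)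
    (fun X => ⟨1, by rw [MonObj.one_comp, MonObj.one_comp]⟩)
    (fun X g ⟨y, hy⟩ => ⟨y⁻¹, by rw [GrpObj.inv_comp, GrpObj.inv_comp, hy]⟩)
  refine ⟨inferInstance, h, ?_⟩
  have : IsMonHom (w ≫ c') := by rw [← sq.w]; infer_instance
  exact Sga3C.SubGrp.isMonHom_of_comp_mono w c'

variable {k : Type u} [Field k] [IsAlgClosed k]

/-- An affine group scheme does not surject onto a nontrivial abelian variety. -/
theorem finite_pts {P B : Over (Spec (CommRingCat.of k))} [GrpObj P] [GrpObj B] [IsAffine P.left]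
    [LocallyOfFiniteType P.hom] [IsProper B.hom] [GeometricallyIntegral B.hom] (p : P ⟶ B) [IsMonHom p]
    [Surjective p.left] : (Set.univ : Set (𝟙_ (Over (Spec (CommRingCat.of k))) ⟶ B)).Finite := by
  have hint : IsIntegral B.left := GeometricallyIntegral.isIntegral_of_subsingleton B.hom
  have haff : IsAffine B.left := K414.Kit.isAffine_of_surjective p
  have h1 := Sga3.H821.AffProper.range_one_eq_univ k B
  have hsub : Subsingleton (𝟙_ (Over (Spec (CommRingCat.of k))) ⟶ B) := by
    refine ⟨fun a b => K506.Transl.point_ext ?_⟩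
    have h2 : ∀ x : B.left, x = (η[B] : 𝟙_ (Over (Spec (CommRingCat.of k))) ⟶ B).left (IsLocalRing.closedPoint k) := by
      intro x
      have h3 : x ∈ Set.range (η[B] : 𝟙_ (Over (Spec (CommRingCat.of k))) ⟶ B).left := by rw [h1]; trivial
      obtain ⟨y, hy⟩ := h3
      rw [← hy]
      exact congrArg _ (Subsingleton.elim (α := Spec (CommRingCat.of k)) _ _)
    rw [h2 (K506.Transl.pt a), h2 (K506.Transl.pt b)]
  exact Set.finite_univ_iff.2 (Finite.of_subsingleton)

/-- **Nondegeneracy.** -/
theorem nd_of_isAmple_pull {G A : Over (Spec (CommRingCat.of k))} [GrpObj G] [GrpObj A] [LocallyOfFiniteType G.hom]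
    [QuasiCompact G.hom] [IsProper A.hom] [GeometricallyIntegral A.hom] (q : G ⟶ A) [IsMonHom q] [Surjective q.left]
    (c : Pic A.left) (hc : CohB1.IsAmple (rep (pl q c))) : K524.Index.ND c := by
  by_contra hnd
  obtain ⟨B, _, i, hi, hcl, hBp, hBi, hKc, hinf⟩ := K524.Degen.exists_sub c hnd
  have hmono : Mono i := K414.Kit.mono_of_closed i
  let P : Over (Spec (CommRingCat.of k)) := Limits.pullback q i
  let p1 : P ⟶ G := Limits.pullback.fst q i
  let p2 : P ⟶ B := Limits.pullback.snd q i
  have sq : IsPullback p1 p2 q i := IsPullback.of_hasPullback q i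
  obtain ⟨_, hp1, hp2⟩ := exists_grpObj_pullback q i sq
  have sq' : IsPullback p1.left p2.left q.left i.left := sq.map (Over.forget _)
  have hcl1 : IsClosedImmersion p1.left := MorphismProperty.of_isPullback sq'.flip hcl
  have hs2 : Surjective p2.left := MorphismProperty.of_isPullback sq' inferInstance
  have hPl : LocallyOfFiniteType P.hom := K414.Kit.locallyOfFiniteType_of_closed p1
  have hPq : QuasiCompact P.hom := K414.Kit.quasiCompact_of_closed p1
  have hInv : Inv (pl i c) := by
    rw [K506.Transl.inv_iff_phi]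
    intro b
    rw [K524.Index.phi_pl, hKc, map_one]
  have e1 : pl p1 (pl q c) = pl p2 (pl i c) := by
    rw [← pl_comp, ← pl_comp, sq.w]
  have h1 : CohB1.IsAmple (rep (pl p2 (pl i c))) := by
    rw [← e1]
    exact K511.TwoVan.isAmple_pull p1.left hc
  have h2 : CohB1.IsAmple (rep (pl (p2⁻¹) (pl i c))) := by
    have e2 : p2⁻¹ = (𝟙 P)⁻¹ ≫ p2 := by
      rw [GrpObj.inv_comp, Category.id_comp]
    rw [e2, pl_comp]
    have := MulFin.isIso_inv_left P
    exact K511.TwoVan.isAmple_pull ((𝟙 P)⁻¹ : P ⟶ P).left h1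
  have h3 := K511.AmpleVan.isAmple_mul h1 h2
  rw [K506.Transl.pl_inv_of_inv hInv, mul_inv_cancel] at h3
  have h4 : CohB1.IsAmple (Coh.structureModule P.left) :=
    Flat2H.FamDict.isAmple_of_iso ((mk_eq_iff (rep_inv _) Fdesc.LocGen.isInvertible_structureModule).1
      ((mk_rep (1 : Pic P.left)).trans one_def)).some h3
  have hsep : IsSeparated P.hom := Books.AntiAffine.isSeparated_hom P
  have hsep' : P.left.IsSeparated := by
    have h5 : P.hom ≫ terminal.from _ = terminal.from P.left := terminalIsTerminal.hom_ext _ _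
    have h6 : IsSeparated (P.hom ≫ terminal.from _) := inferInstance
    rw [h5] at h6
    exact ⟨h6⟩
  have hcomp : CompactSpace P.left := (quasiCompact_iff_compactSpace P.hom).1 inferInstance
  have hqa : P.left.IsQuasiAffine := (S2336.result P.left).2 h4
  have haff : IsAffine P.left := S3020.result k P
  exact hinf (finite_pts p2)

end K414.AmpNd
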