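import Groth.Agent.AlgGrp.K414.AmpChar
import Groth.Agent.AlgGrp.K414.AmpNd
import Groth.Agent.AlgGrp.K410.Core
import Groth.Agent.AbVar.K506.AmpleNd
import Groth.Agent.AbVar.K512.PhiSurj
import Groth.Agent.S2327

/-!
# Descent of ampleness along the quotient of an anti-affine group by an affine subgroup
-/

set_option autoImplicit false
set_option linter.unusedSectionVars false
universe u
open CategoryTheory MonoidalCategory CartesianMonoidalCategory MonObj GrpObj AlgebraicGeometry Limits TopologicalSpace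

namespace K414.AmpDown

open Groth.Agent K410.LocSec K410.FnLaw K410.FnVal K410.LocSys K410.LocTrans K410.MulRn K410.MulMain
open K414.AmpPts K414.AmpTau K414.AmpSec K414.AmpChar
open Groth.Agent.Fdesc.LocGen Groth.Agent.Grpsch.PicGrp Groth.Agent.Grpsch.Cube

variable {k : Type u} [Field k] {N G A : Over (Spec (CommRingCat.of k))} [GrpObj N] [GrpObj G] [GrpObj A]
  [IsCommMonObj G] (i : N ⟶ G) {q : G ⟶ A} [IsMonHom i] [IsMonHom q] (hk : AlgGrp.IsKernel i q)
  {M : A.left.Modules}

theorem isMul_inv {c c' : Γ(N.left, ⊤)} (hc : IsMul c) (h : c * c' = 1) : IsMul c' := by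
  intro T x y
  have h1 : ∀ z : T ⟶ N, z.left.appTop c * z.left.appTop c' = 1 := fun z => by
    have := congrArg (fun t => z.left.appTop.hom t) h
    simp only [map_mul, map_one] at this
    exact this
  have hu : IsUnit ((x * y).left.appTop c) := IsUnit.of_mul_eq_one _ (h1 _)
  refine hu.mul_left_cancel ?_
  rw [h1, hc, _root_.mul_mul_mul_comm, h1, h1, _root_.one_mul]

theorem val_mul_val (c c' : Γ(N.left, ⊤)) {X : Over (Spec (CommRingCat.of k))} {W : X.left.Opens} (x : ov X W ⟶ N) :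
    val c x * val c' x = val (c * c') x := by
  simp only [val]
  rw [← map_mul, ← map_mul]

theorem isUnit_val {c : Γ(N.left, ⊤)} (hc : IsUnit c) {X : Over (Spec (CommRingCat.of k))} {W : X.left.Opens}
    (x : ov X W ⟶ N) : IsUnit (val c x) := (hc.map x.left.appTop.hom).map W.topIso.hom.hom

/-- The values of an eigensection at the local sections differ by the transition functions. -/
theorem form_change (hM : PicF.IsInvertible M) (hinj : ∀ U : A.left.Opens, Function.Injective (q.left.app U))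
    {τ : Γ((Scheme.Modules.pullback q.left).obj M, ⊤)} {c : Γ(N.left, ⊤)} (hc : IsMul c) (hcu : IsUnit c)
    (p p' : LS q) (e : Γ(M, p.V)) (e' : Γ(M, p'.V)) (b : Γ(A.left, p.V)) (b' : Γ(A.left, p'.V))
    (h : Coef τ e (val c (rp i hk p) * (q.left.app p.V).hom b))
    (h' : Coef τ e' (val c (rp i hk p') * (q.left.app p'.V).hom b')) :
    res M (inf_le_left : p.V ⊓ p'.V ≤ p.V) (b • e) =
      hh i hk c p p' • res M (inf_le_right : p.V ⊓ p'.V ≤ p'.V) (b' • e') := by
  have h1 := h.res (inf_le_left : p.V ⊓ p'.V ≤ p.V)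
  have h2 := h'.res (inf_le_right : p.V ⊓ p'.V ≤ p'.V)
  unfold Coef at h1 h2
  have e1 : ∀ (V W : A.left.Opens) (hVW : W ≤ V) (a : Γ(A.left, V)),
      ores (q.left.preimage_mono hVW) ((q.left.app V).hom a) = (q.left.app W).hom (ores hVW a) := fun V W hVW a =>
    (Picfga.LineDescent.app_ores q.left hVW a).symm
  rw [h1, map_mul, map_mul, e1 p.V (p.V ⊓ p'.V) inf_le_left, e1 p'.V (p.V ⊓ p'.V) inf_le_right,
    hu i hk hc p p'] at h2
  apply K410.SecCore.pullSec_injective q.left hinj hM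
  have hun : IsUnit (ores (q.left.preimage_mono (inf_le_left : p.V ⊓ p'.V ≤ p.V)) (val c (rp i hk p))) :=
    (isUnit_val hcu _).map _
  change pullSec q.left _ = pullSec q.left _
  rw [res_smul, res_smul, smul_smul, pullSec_smul, pullSec_smul]
  have h3 : ores (q.left.preimage_mono (inf_le_left : p.V ⊓ p'.V ≤ p.V)) (val c (rp i hk p)) •
      ((q.left.app (p.V ⊓ p'.V)).hom (ores (inf_le_left : p.V ⊓ p'.V ≤ p.V) b) •
        pullSec q.left (res M (inf_le_left : p.V ⊓ p'.V ≤ p.V) e)) =
      ores (q.left.preimage_mono (inf_le_left : p.V ⊓ p'.V ≤ p.V)) (val c (rp i hk p)) •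
      ((q.left.app (p.V ⊓ p'.V)).hom (hh i hk c p p' * ores (inf_le_right : p.V ⊓ p'.V ≤ p'.V) b') •
        pullSec q.left (res M (inf_le_right : p.V ⊓ p'.V ≤ p'.V) e')) := by
    rw [smul_smul, smul_smul, map_mul]
    refine h2.trans ?_
    congr 1
    ring
  exact hun.smul_left_cancel.1 h3

include hk in
/-- **Effectivity** of the class of `M` twisted by a translation invariant class. -/
theorem exists_section [IsAlgClosed k] [IsCommMonObj N] [IsAffine N.left] [Smooth N.hom] [LocallyOfFiniteType G.hom]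
    [IsIntegral G.left] [Surjective q.left] [IsAffineHom q.left] [IsProper A.hom] [GeometricallyIntegral A.hom]
    (hinj : ∀ U : A.left.Opens, Function.Injective (q.left.app U)) (hcov : ⨆ p : LS q, p.V = ⊤)
    (hM : PicF.IsInvertible M) (σ : Γ((Scheme.Modules.pullback q.left).obj M, ⊤)) (hσ : σ ≠ 0) :
    ∃ (R : A.left.Modules) (hR : PicF.IsInvertible R) (s : Coh.structureModule A.left ⟶ CohB1.tensorMod M R),
      s ≠ 0 ∧ K506.Transl.Inv (Groth.Agent.Grpsch.PicGrp.mk R hR) := by
  have hNa : IsAffineHom N.hom := inferInstance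
  obtain ⟨τ, χ, hτ, hχ⟩ := exists_eigensection i hk hM σ hσ
  obtain ⟨c, hc, hcu, hcχ⟩ := exists_char i hk hχ hM hτ
  obtain ⟨c', hcc'⟩ := hcu.exists_right_inv
  have hc' : IsMul c' := isMul_inv hc hcc'
  have hcu' : IsUnit c' := IsUnit.of_mul_eq_one _ ((_root_.mul_comm _ _).trans hcc')
  obtain ⟨R, r, hr, hr'⟩ := exists_R i hk hc' hcu' 1
  have hR : PicF.IsInvertible R := by
    rw [isInvertible_iff]
    intro x
    have hx : x ∈ ⨆ p : LS q, p.V := by rw [hcov]; trivial
    obtain ⟨p, hp⟩ := Opens.mem_iSup.1 hx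
    exact ⟨p.V, r p, hp, hr p⟩
  have hq : LocallyOfFiniteType q.left := by
    have : LocallyOfFiniteType (q.left ≫ A.hom) := by rw [Over.w]; infer_instance
    exact locallyOfFiniteType_of_comp q.left A.hom
  have hinv : K506.Transl.Inv (Groth.Agent.Grpsch.PicGrp.mk R hR) := by
    intro x
    obtain ⟨y, rfl⟩ := K410.LocEx.exists_lift_pt q x
    obtain ⟨e⟩ := R_tra i hk hcov 1 r hr hr' y
    exact (pull_mk _ hR).trans (mk_congr e)
  let J := {z : Σ p : LS q, Γ(M, p.V) // IsGen z.2}
  have hcov' : ∀ x : A.left, ∃ z : J, x ∈ z.1.1.V := by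
    intro x
    have hx : x ∈ ⨆ p : LS q, p.V := by rw [hcov]; trivial
    obtain ⟨p, hp⟩ := Opens.mem_iSup.1 hx
    obtain ⟨V, f, hx', hf⟩ := (isInvertible_iff M).mp hM x
    exact ⟨⟨⟨p.res (inf_le_left : p.V ⊓ V ≤ p.V), res M inf_le_right f⟩, hf.res _⟩, hp, hx'⟩
  have hex : ∀ z : J, ∃ b : Γ(A.left, z.1.1.V),
      Coef τ z.1.2 (val c (rp i hk z.1.1) * (q.left.app z.1.1.V).hom b) := by
    intro z
    obtain ⟨f, hf⟩ := exists_coef τ z.2
    obtain ⟨b, hb⟩ := exists_form i hk hχ c hcχ z.1.1 z.1.2 z.2 f hf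
    exact ⟨b, hb ▸ hf⟩
  choose b hb using hex
  obtain ⟨s, hs⟩ := res_glue (CohB1.tensorMod M R) (V := ⊤) (fun z : J => z.1.1.V) (fun _ => le_top)
    (fun x _ => by
      obtain ⟨z, hz⟩ := hcov' x
      exact Opens.mem_iSup.2 ⟨z, hz⟩)
    (fun z => tmul (b z • z.1.2) (r z.1.1)) (fun z z' => by
      rw [res_tmul, res_tmul, form_change i hk hM hinj hc hcu z.1.1 z'.1.1 z.1.2 z'.1.2 (b z) (b z') (hb z) (hb z'),
        hr' z.1.1 z'.1.1, pow_one, smul_tmul, tmul_smul, smul_smul]
      have h1 : hh i hk c z.1.1 z'.1.1 * hh i hk c' z.1.1 z'.1.1 = 1 := by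
        rw [hh, hh, val_mul_val, hcc']
        simp only [val, map_one]
      rw [h1, one_smul])
  refine ⟨R, hR, homOf s, fun h0 => ?_, hinv⟩
  obtain ⟨x⟩ : Nonempty A.left := ⟨q.left (genericPoint G.left)⟩
  obtain ⟨z, hz⟩ := hcov' x
  have h2 : s = 0 := by
    have := congrArg (fun t => sec t ⊤) h0
    simp only [sec_homOf] at this
    rw [res_refl] at this
    exact this
  have h3 := hs z
  rw [h2, map_zero, smul_tmul] at h3
  have h4 : b z = 0 := (z.2.tmul (hr z.1.1)).ext (by rw [zero_smul]; exact h3.symm)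
  have h5 := hb z
  rw [h4, map_zero, mul_zero] at h5
  exact hτ (eq_zero_of_coef hM τ z.1.2 ⟨⟨x, hz⟩⟩ h5)

theorem isIso_tr (x : 𝟙_ (Over (Spec (CommRingCat.of k))) ⟶ A) : IsIso (tr x).left := by
  have h1 : tr x ≫ tr x⁻¹ = 𝟙 A := by
    rw [comp_tr, GrpObj.comp_inv, tr, _root_.mul_assoc, mul_inv_cancel, _root_.mul_one]
  have h2 : tr x⁻¹ ≫ tr x = 𝟙 A := by
    rw [comp_tr, tr, GrpObj.comp_inv, _root_.mul_assoc, inv_mul_cancel, _root_.mul_one]
  have h3 : IsIso (tr x) := ⟨tr x⁻¹, h1, h2⟩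
  exact inferInstanceAs (IsIso ((Over.forget _).map (tr x)))

include hk in
/-- Descent of ampleness in the presence of a nonzero section. -/
theorem isAmple_of_section [IsAlgClosed k] [IsCommMonObj N] [IsAffine N.left] [Smooth N.hom]
    [LocallyOfFiniteType G.hom] [QuasiCompact G.hom]
    [IsIntegral G.left] [Surjective q.left] [IsAffineHom q.left] [IsProper A.hom] [GeometricallyIntegral A.hom]
    (hinj : ∀ U : A.left.Opens, Function.Injective (q.left.app U)) (hcov : ⨆ p : LS q, p.V = ⊤)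
    (hM : PicF.IsInvertible M) (h : CohB1.IsAmple ((Scheme.Modules.pullback q.left).obj M))
    (σ : Γ((Scheme.Modules.pullback q.left).obj M, ⊤)) (hσ : σ ≠ 0) : CohB1.IsAmple M := by
  obtain ⟨R, hR, s, hs, hinv⟩ := exists_section i hk hinj hcov hM σ hσ
  have hT : PicF.IsInvertible (CohB1.tensorMod M R) := isInvertible_tensorMod hM hR
  have hmk : Groth.Agent.Grpsch.PicGrp.mk _ hT =
    Groth.Agent.Grpsch.PicGrp.mk M hM * Groth.Agent.Grpsch.PicGrp.mk R hR := rfl
  have hnd : K524.Index.ND (Groth.Agent.Grpsch.PicGrp.mk M hM) := by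
    refine AmpNd.nd_of_isAmple_pull q _ ?_
    exact Pic13.H116.Final.isAmple_rep h
  have hinv' : ∀ a, K506.Transl.phi (Groth.Agent.Grpsch.PicGrp.mk R hR) a = 1 :=
    (K506.Transl.inv_iff_phi _).1 hinv
  have hK : {a : 𝟙_ (Over (Spec (CommRingCat.of k))) ⟶ A |
      K506.Transl.phi (Groth.Agent.Grpsch.PicGrp.mk _ hT) a = 1}.Finite := by
    refine Set.Finite.subset hnd fun a ha => ?_
    rw [Set.mem_ofPred_eq, hmk, K506.Transl.phi_cmul, hinv', _root_.mul_one] at ha
    exact ha
  have hamp := K506.AmpleNd.isAmple hT s hs hK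
  obtain ⟨x, hx⟩ := K512.PhiSurj.exists_eq_of_isAmple _ hamp (Groth.Agent.Grpsch.PicGrp.mk R hR)⁻¹
    (fun x => by rw [map_inv]; exact congrArg _ (hinv x))
  have h1 : pl (tr x) (Groth.Agent.Grpsch.PicGrp.mk _ hT) = Groth.Agent.Grpsch.PicGrp.mk M hM := by
    have h2 := mul_inv_eq_iff_eq_mul.1 hx
    rw [hmk] at h2 ⊢
    refine h2.trans ?_
    rw [_root_.mul_comm, mul_inv_cancel_right]
  have := isIso_tr (A := A) x
  have h3 := K511.TwoVan.isAmple_pull (tr x).left (Pic13.H116.Final.isAmple_rep hamp)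
  have h4 : pull (tr x).left (Groth.Agent.Grpsch.PicGrp.mk _ hT) = Groth.Agent.Grpsch.PicGrp.mk M hM := h1
  rw [h4] at h3
  exact Flat2H.FamDict.isAmple_of_iso ((mk_eq_iff (Pic13.H116.Tw.rep_inv _) hM).1 (Pic13.H116.Tw.mk_rep _)).some h3

theorem mem_genLocus_ne_zero {X : Scheme.{u}} {L : X.Modules} (s : Coh.structureModule X ⟶ L) (x : X)
    (hx : x ∈ CohB1.genLocus L s) : s ≠ 0 := by
  rintro rfl
  have h1 := isGen_sec_genLocus (0 : Coh.structureModule X ⟶ L)
  have h2 : (1 : Γ(X, CohB1.genLocus L 0)) = 0 := h1.ext (by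
    have h3 : sec (0 : Coh.structureModule X ⟶ L) (CohB1.genLocus L 0) = 0 := rfl
    rw [h3, smul_zero, smul_zero])
  have h4 : Nonempty (CohB1.genLocus L 0 : X.Opens) := ⟨⟨x, hx⟩⟩
  exact one_ne_zero h2

/-- **Descent of ampleness.** `0 ⟶ N ⟶ G ⟶ A ⟶ 0` an extension of an abelian variety by a smooth connected affine group,
`G` anti-affine, over an algebraically closed field; `M` an invertible module on `A` with ample pullback to `G`. -/
theorem isAmple_of_pull [IsAlgClosed k] {N G A : Over (Spec (CommRingCat.of k))} [GrpObj N] [GrpObj G] [GrpObj A]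
    [Smooth G.hom] [QuasiCompact G.hom] (i : N ⟶ G) (q : G ⟶ A) [IsMonHom i] [IsClosedImmersion i.left]
    [IsAffine N.left] [Smooth N.hom] [ConnectedSpace N.left] [IsMonHom q] [Surjective q.left] [Flat q.left]
    (hk : AlgGrp.IsKernel i q) [IsProper A.hom] [Smooth A.hom] [ConnectedSpace A.left]
    (hG : IsIso G.hom.appTop) {M : A.left.Modules} (hM : PicF.IsInvertible M)
    (h : CohB1.IsAmple ((Scheme.Modules.pullback q.left).obj M)) : CohB1.IsAmple M := by
  have hb := (K414.AntiAffBC.bijective_iff G).2 hG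
  obtain ⟨hconn, hcomm⟩ := S3293.result k G hb
  have hGi : IsIntegral G.left := K399.Basic.isIntegral G
  have hAi : IsIntegral A.left := K399.Basic.isIntegral A
  have hAg : GeometricallyIntegral A.hom := K399.Basic.geometricallyIntegral A
  have hAc : IsCommMonObj A := isCommMonObj_of_isProper_of_geometricallyIntegral A
  have hm : Mono i := K414.Kit.mono_of_closed i
  have hNc : IsCommMonObj N := K399.CommSect.isCommMonObj_of_mono i
  have hcomp : CompactSpace A.left := (quasiCompact_iff_compactSpace A.hom).1 inferInstance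
  obtain ⟨p, hp⟩ := K410.LocEx.exists_ls i hk
  have hcov : ⨆ p : LS q, p.V = ⊤ := by
    have h1 := K410.LocEx.iSup_tra p hp
    rw [eq_top_iff, ← h1]
    exact iSup_le fun y => le_iSup (fun p : LS q => p.V) (p.tra y)
  have hqc : QuasiCompact q.left := K414.Kit.quasiCompact_left q
  have hdom : IsSchemeTheoreticallyDominant q.left := IsSchemeTheoreticallyDominant.of_isDominant q.left
  have hinj : ∀ U : A.left.Opens, Function.Injective (q.left.app U) := fun U => q.left.app_injective U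
  have hNa : IsAffineHom N.hom := inferInstance
  have hqa : IsAffineHom q.left := K400.TorsExt.isAffineHom_quotient i q hk
  have hcG : CompactSpace G.left := (quasiCompact_iff_compactSpace G.hom).1 inferInstance
  have hsepG' : IsSeparated G.hom := Books.AntiAffine.isSeparated_hom G
  have hsep : ∀ (X : Over (Spec (CommRingCat.of k))) [IsSeparated X.hom], X.left.IsSeparated := fun X _ => by
    have h5 : X.hom ≫ terminal.from _ = terminal.from X.left := terminalIsTerminal.hom_ext _ _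
    have h6 : IsSeparated (X.hom ≫ terminal.from _) := inferInstance
    rw [h5] at h6
    exact ⟨h6⟩
  have hsepA : A.left.IsSeparated := hsep A
  have hsepG : G.left.IsSeparated := hsep G
  -- a power with a section
  obtain ⟨n, s, hx, -⟩ := h.2.2 (genericPoint G.left)
  have hs : s ≠ 0 := mem_genLocus_ne_zero s _ hx
  have hMn : PicF.IsInvertible (CohB1.tensorPow M (n + 1)) := isInvertible_tensorPow hM (n + 1)
  have e1 : Groth.Agent.Grpsch.PicGrp.mk _ (isInvertible_tensorPow (isInvertible_pullback q.left hM) (n + 1)) =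
      Groth.Agent.Grpsch.PicGrp.mk _ (isInvertible_pullback q.left hMn) := by
    rw [mk_tensorPow (isInvertible_pullback q.left hM), ← pull_mk q.left hM, ← map_pow, ← mk_tensorPow hM, pull_mk]
  obtain ⟨φ⟩ := (mk_eq_iff _ _).1 e1
  have hamp : CohB1.IsAmple ((Scheme.Modules.pullback q.left).obj (CohB1.tensorPow M (n + 1))) :=
    Flat2H.FamDict.isAmple_of_iso φ
      ((S2327.result G.left _ (isInvertible_pullback q.left hM) (n + 1) (Nat.succ_pos n)).1 h)
  have hne : sec (s ≫ φ.hom) ⊤ ≠ 0 := by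
    intro h0
    apply hs
    have h1 : s ≫ φ.hom = 0 := hom_ext_sec (by rw [h0]; rfl)
    rw [← cancel_mono φ.hom, h1, zero_comp]
  have h2 : CohB1.IsAmple (CohB1.tensorPow M (n + 1)) :=
    isAmple_of_section i hk hinj hcov hMn hamp _ hne
  exact (S2327.result A.left M hM (n + 1) (Nat.succ_pos n)).2 h2

end K414.AmpDown
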