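import Groth.Agent.AlgGrp.K410.LocTrans
import Groth.Agent.AbVar.K506.Transl
import Groth.Agent.Sga3B.RadOpen.Coef
import Groth.Agent.Sga7.H733.Eig

/-!
# Functions and rational points over an algebraically closed field

* `fn_ext`, `isUnit_of_evk`: functions on a reduced scheme are determined by their values at rational points;
* `exists_lift_ov`: lifting morphisms to open subschemes.
-/

set_option autoImplicit false
set_option linter.unusedSectionVars false
universe u
open CategoryTheory MonoidalCategory CartesianMonoidalCategory MonObj GrpObj AlgebraicGeometry Limits TopologicalSpace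

namespace K414.AmpPts

open Groth.Agent K410.LocSec K410.FnLaw K410.FnVal
open Groth.Agent.Fdesc.LocGen

variable {k : Type u} [Field k]

/-- rational points -/
abbrev Pt (X : Over (Spec (CommRingCat.of k))) := 𝟙_ (Over (Spec (CommRingCat.of k))) ⟶ X

theorem evk_comp {X Y : Over (Spec (CommRingCat.of k))} (y : Pt X) (f : X ⟶ Y) (c : Γ(Y.left, ⊤)) :
    evk (y ≫ f) c = evk y (f.left.appTop.hom c) := by
  simp only [evk, RingHom.comp_apply]
  rw [Over.comp_left, Scheme.Hom.comp_appTop]
  rfl

theorem isUnit_of_basicOpen_eq_top {X : Scheme.{u}} {f : Γ(X, ⊤)} (h : X.basicOpen f = ⊤) : IsUnit f := by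
  refine X.toRingedSpace.isUnit_of_isUnit_germ ⊤ f fun x hx => ?_
  have h1 : x ∈ X.basicOpen f := by rw [h]; trivial
  exact (X.mem_basicOpen f x hx).1 h1

/-- A function does not vanish at a rational point iff the point lies in the nonvanishing locus. -/
theorem evk_ne_zero_iff {X : Over (Spec (CommRingCat.of k))} (y : Pt X) (f : Γ(X.left, ⊤)) :
    evk y f ≠ 0 ↔ y.left (IsLocalRing.closedPoint k) ∈ X.left.basicOpen f := by
  have h1 : IsUnit (evk y f) ↔ IsUnit (y.left.appTop.hom f) := by
    have e := (Scheme.ΓSpecIso (CommRingCat.of k)).commRingCatIsoToRingEquiv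
    constructor
    · intro h
      have h2 := h.map (Scheme.ΓSpecIso (CommRingCat.of k)).inv.hom
      have h3 : (Scheme.ΓSpecIso (CommRingCat.of k)).inv.hom (evk y f) = y.left.appTop.hom f :=
        congr($((Scheme.ΓSpecIso (CommRingCat.of k)).hom_inv_id) (y.left.appTop.hom f))
      rwa [h3] at h2
    · intro h
      exact h.map (Scheme.ΓSpecIso (CommRingCat.of k)).hom.hom
  rw [← isUnit_iff_ne_zero, h1]
  have h4 : y.left ⁻¹ᵁ X.left.basicOpen f = (𝟙_ (Over (Spec (CommRingCat.of k)))).left.basicOpen
      (y.left.appTop f) := Scheme.preimage_basicOpen_top _ _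
  constructor
  · intro h
    have h5 : (𝟙_ (Over (Spec (CommRingCat.of k)))).left.basicOpen (y.left.appTop f) = ⊤ :=
      Scheme.basicOpen_of_isUnit _ h
    have h6 : (IsLocalRing.closedPoint k : (𝟙_ (Over (Spec (CommRingCat.of k)))).left) ∈
        y.left ⁻¹ᵁ X.left.basicOpen f := by
      rw [h4, h5]; trivial
    exact h6
  · intro h
    refine isUnit_of_basicOpen_eq_top ?_
    change (𝟙_ (Over (Spec (CommRingCat.of k)))).left.basicOpen (y.left.appTop f) = ⊤
    rw [← h4, eq_top_iff]
    intro z _
    have hz : z = IsLocalRing.closedPoint k := Subsingleton.elim (α := Spec (CommRingCat.of k)) _ _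
    rw [hz]
    exact h

variable [IsAlgClosed k]

theorem exists_pt_mem {X : Over (Spec (CommRingCat.of k))} [LocallyOfFiniteType X.hom] (U : X.left.Opens)
    (hU : (U : Set X.left).Nonempty) : ∃ y : Pt X, y.left (IsLocalRing.closedPoint k) ∈ U := by
  have : JacobsonSpace X.left := LocallyOfFiniteType.jacobsonSpace X.hom
  have h1 : Dense (closedPoints X.left) := by
    rw [dense_iff_closure_eq]; exact closure_closedPoints
  obtain ⟨x, hx, hxc⟩ := h1.inter_open_nonempty U U.isOpen hU
  obtain ⟨y, hy⟩ := K506.Transl.exists_point x hxc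
  exact ⟨y, by rw [show y.left (IsLocalRing.closedPoint k) = x from hy]; exact hx⟩

/-- Functions on a reduced scheme are determined by their values. -/
theorem fn_ext {X : Over (Spec (CommRingCat.of k))} [LocallyOfFiniteType X.hom] [IsReduced X.left]
    {f g : Γ(X.left, ⊤)} (h : ∀ y : Pt X, evk y f = evk y g) : f = g := by
  rw [← sub_eq_zero]
  by_contra hne
  have h1 : (X.left.basicOpen (f - g) : Set X.left).Nonempty := by
    by_contra hn
    rw [Set.not_nonempty_iff_eq_empty] at hn
    exact hne ((basicOpen_eq_bot_iff (f - g)).1 (Opens.ext hn))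
  obtain ⟨y, hy⟩ := exists_pt_mem _ h1
  rw [← evk_ne_zero_iff] at hy
  exact hy (by rw [map_sub, h y, sub_self])

theorem isUnit_of_evk {X : Over (Spec (CommRingCat.of k))} [LocallyOfFiniteType X.hom]
    {f : Γ(X.left, ⊤)} (h : ∀ y : Pt X, evk y f ≠ 0) : IsUnit f := by
  refine isUnit_of_basicOpen_eq_top ?_
  by_contra hne
  have : JacobsonSpace X.left := LocallyOfFiniteType.jacobsonSpace X.hom
  have h1 : ((X.left.basicOpen f : Set X.left)ᶜ).Nonempty := by
    by_contra hn
    rw [Set.not_nonempty_iff_eq_empty, Set.compl_empty_iff] at hn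
    exact hne (Opens.ext hn)
  obtain ⟨x, hx, hxc⟩ := nonempty_inter_closedPoints h1
    (X.left.basicOpen f).isOpen.isClosed_compl.isLocallyClosed
  obtain ⟨y, hy⟩ := K506.Transl.exists_point x hxc
  exact hx (by
    have := (evk_ne_zero_iff y f).1 (h y)
    rwa [show y.left (IsLocalRing.closedPoint k) = x from hy] at this)

end K414.AmpPts
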