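import Groth.Agent.AlgGrp.K414.AmpTau

/-!
# Eigensections of the pullback of an invertible module
-/

set_option autoImplicit false
set_option linter.unusedSectionVars false
universe u
open CategoryTheory MonoidalCategory CartesianMonoidalCategory MonObj GrpObj AlgebraicGeometry Limits TopologicalSpace

namespace K414.AmpSec

open Groth.Agent K410.LocSec K410.FnLaw K410.FnVal K410.LocSys K410.LocTrans K414.AmpPts K414.AmpTau
open Groth.Agent.Fdesc.LocGen

variable {k : Type u} [Field k] {N G A : Over (Spec (CommRingCat.of k))} [GrpObj N] [GrpObj G] [GrpObj A]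
  [IsCommMonObj G] (i : N ⟶ G) {q : G ⟶ A} [IsMonHom i] [IsMonHom q] (hk : AlgGrp.IsKernel i q)
  {M : A.left.Modules}

/-- `f` is the coefficient of `σ` with respect to `e`. -/
def Coef (σ : Γ((Scheme.Modules.pullback q.left).obj M, ⊤)) {W : A.left.Opens} (e : Γ(M, W))
    (f : Γ(G.left, q.left ⁻¹ᵁ W)) : Prop :=
  res ((Scheme.Modules.pullback q.left).obj M) (le_top : q.left ⁻¹ᵁ W ≤ ⊤) σ = f • pullSec q.left e

theorem exists_coef (σ : Γ((Scheme.Modules.pullback q.left).obj M, ⊤)) {W : A.left.Opens} {e : Γ(M, W)}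
    (he : IsGen e) : ∃ f, Coef σ e f := (he.pullSec q.left).exists_eq _

theorem Coef.unique {σ : Γ((Scheme.Modules.pullback q.left).obj M, ⊤)} {W : A.left.Opens} {e : Γ(M, W)}
    (he : IsGen e) {f g : Γ(G.left, q.left ⁻¹ᵁ W)} (hf : Coef σ e f) (hg : Coef σ e g) : f = g :=
  (he.pullSec q.left).ext (hf.symm.trans hg)

theorem Coef.res {σ : Γ((Scheme.Modules.pullback q.left).obj M, ⊤)} {V W : A.left.Opens} {e : Γ(M, V)}
    {f : Γ(G.left, q.left ⁻¹ᵁ V)} (hf : Coef σ e f) (h : W ≤ V) :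
    Coef σ (Fdesc.LocGen.res M h e) (ores (q.left.preimage_mono h) f) := by
  have h1 := congrArg (Fdesc.LocGen.res _ (q.left.preimage_mono h)) hf
  rw [res_res, res_smul, res_pullSec q.left h] at h1
  exact h1

theorem Coef.change {σ : Γ((Scheme.Modules.pullback q.left).obj M, ⊤)} {W : A.left.Opens} {e e' : Γ(M, W)}
    (g : Γ(A.left, W)) (hg : e = g • e') {f : Γ(G.left, q.left ⁻¹ᵁ W)} (hf : Coef σ e f) :
    Coef σ e' (f * (q.left.app W).hom g) := by
  unfold Coef at hf ⊢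
  rw [hf, hg, pullSec_smul, smul_smul]

theorem iSup_gen (hM : PicF.IsInvertible M) :
    ⨆ j : (Σ W : A.left.Opens, {e : Γ(M, W) // IsGen e}), q.left ⁻¹ᵁ j.1 = ⊤ := by
  rw [eq_top_iff]
  intro x _
  obtain ⟨V, f, hx, hf⟩ := (isInvertible_iff M).mp hM (q.left x)
  exact Opens.mem_iSup.2 ⟨⟨V, f, hf⟩, hx⟩

/-- **Translation of sections** by the points of the kernel. -/
theorem exists_translate (hM : PicF.IsInvertible M) (n : Pt N) (σ : Γ((Scheme.Modules.pullback q.left).obj M, ⊤)) :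
    ∃ σ' : Γ((Scheme.Modules.pullback q.left).obj M, ⊤), ∀ (W : A.left.Opens) (e : Γ(M, W)) (_ : IsGen e)
      (f : Γ(G.left, q.left ⁻¹ᵁ W)), Coef σ e f → Coef σ' e (tau i hk n W f) := by
  choose f hf using fun j : (Σ W : A.left.Opens, {e : Γ(M, W) // IsGen e}) => exists_coef σ j.2.2
  obtain ⟨σ', hσ'⟩ := res_glue ((Scheme.Modules.pullback q.left).obj M) (V := ⊤)
    (fun j : (Σ W : A.left.Opens, {e : Γ(M, W) // IsGen e}) => q.left ⁻¹ᵁ j.1) (fun _ => le_top)
    (iSup_gen hM).ge (fun j => tau i hk n j.1 (f j) • pullSec q.left j.2.1) (fun j j' => by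
      obtain ⟨g, hg⟩ := (j'.2.2.res (inf_le_right : j.1 ⊓ j'.1 ≤ j'.1)).exists_eq
        (Fdesc.LocGen.res M (inf_le_left : j.1 ⊓ j'.1 ≤ j.1) j.2.1)
      have h1 := ((hf j).res (inf_le_left : j.1 ⊓ j'.1 ≤ j.1)).change g hg
      have h2 := (hf j').res (inf_le_right : j.1 ⊓ j'.1 ≤ j'.1)
      have h3 := h1.unique (j'.2.2.res _) h2
      have e1 : Fdesc.LocGen.res ((Scheme.Modules.pullback q.left).obj M)
          (q.left.preimage_mono (inf_le_left : j.1 ⊓ j'.1 ≤ j.1)) (tau i hk n j.1 (f j) • pullSec q.left j.2.1) =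
          Fdesc.LocGen.res ((Scheme.Modules.pullback q.left).obj M)
          (q.left.preimage_mono (inf_le_right : j.1 ⊓ j'.1 ≤ j'.1)) (tau i hk n j'.1 (f j') • pullSec q.left j'.2.1) := by
        rw [res_smul, res_smul, res_pullSec q.left (inf_le_left : j.1 ⊓ j'.1 ≤ j.1),
          res_pullSec q.left (inf_le_right : j.1 ⊓ j'.1 ≤ j'.1), hg, pullSec_smul, smul_smul,
          ores_tau i hk n (inf_le_left : j.1 ⊓ j'.1 ≤ j.1), ores_tau i hk n (inf_le_right : j.1 ⊓ j'.1 ≤ j'.1),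
          ← h3, map_mul, tau_app]
      exact e1)
  refine ⟨σ', fun W e he g hg => ?_⟩
  have h4 := hσ' ⟨W, e, he⟩
  have h5 := hg.unique he (hf ⟨W, e, he⟩)
  rw [h5]
  exact h4

theorem ores_kc (X : Over (Spec (CommRingCat.of k))) {V W : X.left.Opens} (h : W ≤ V) (c : k) :
    ores h (kc X V c) = kc X W c := by
  have h1 : ∀ (U : X.left.Opens), kc X U c = val ((Scheme.ΓSpecIso (CommRingCat.of k)).inv.hom c)
      (N := 𝟙_ (Over (Spec (CommRingCat.of k)))) (toUnit (ov X U)) := fun U => rfl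
  rw [h1, h1, ← val_res _ h (toUnit (ov X V)) (by simpa using h)]
  congr 1
  exact toUnit_unique _ _

/-- A section is zero if it is zero over a nonempty open subscheme. -/
theorem eq_zero_of_coef [IsIntegral G.left] [Surjective q.left] (hM : PicF.IsInvertible M)
    (σ : Γ((Scheme.Modules.pullback q.left).obj M, ⊤)) {W : A.left.Opens} (e : Γ(M, W)) (hW : Nonempty W)
    (h : Coef σ e 0) : σ = 0 := by
  refine res_ext _ (V := ⊤) (fun j : (Σ W : A.left.Opens, {e : Γ(M, W) // IsGen e}) => q.left ⁻¹ᵁ j.1)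
    (fun _ => le_top) (iSup_gen hM).ge (fun j => ?_)
  obtain ⟨f, hf⟩ := exists_coef σ j.2.2
  rw [map_zero]
  have h0 : f = 0 := by
    rcases isEmpty_or_nonempty j.1 with hj | hj
    · have hbot : j.1 = ⊥ := by
        rw [← Opens.not_nonempty_iff_eq_bot]
        exact fun ⟨x, hx⟩ => hj.elim ⟨x, hx⟩
      have h2 : q.left ⁻¹ᵁ j.1 = ⊥ := by rw [hbot]; rfl
      have : Subsingleton Γ(G.left, q.left ⁻¹ᵁ j.1) := by
        rw [h2]; infer_instance
      exact Subsingleton.elim _ _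
    · have hirr : IrreducibleSpace A.left := q.left.surjective.irreducibleSpace q.left.continuous
      obtain ⟨x, hx⟩ := hW
      obtain ⟨y, hy⟩ := hj
      obtain ⟨z, hz1, hz2⟩ := nonempty_preirreducible_inter W.isOpen j.1.isOpen ⟨x, hx⟩ ⟨y, hy⟩
      obtain ⟨z', rfl⟩ := q.left.surjective z
      obtain ⟨g, hg⟩ := (j.2.2.res (inf_le_right : W ⊓ j.1 ≤ j.1)).exists_eq
        (Fdesc.LocGen.res M (inf_le_left : W ⊓ j.1 ≤ W) e)
      have h1 := (hf.res (inf_le_right : W ⊓ j.1 ≤ j.1))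
      have h2 := ((h.res (inf_le_left : W ⊓ j.1 ≤ W)).change g hg)
      rw [map_zero, zero_mul] at h2
      have h3 := h1.unique (j.2.2.res _) h2
      have hne : Nonempty (q.left ⁻¹ᵁ (W ⊓ j.1) : G.left.Opens) := ⟨⟨z', hz1, hz2⟩⟩
      exact (map_injective_of_isIntegral G.left (homOfLE (q.left.preimage_mono (inf_le_right : W ⊓ j.1 ≤ j.1)))) (by
        rw [map_zero]; exact h3)
  have h4 := hf
  rw [h0] at h4
  unfold Coef at h4
  rw [h4, zero_smul]

theorem Coef.add {σ τ : Γ((Scheme.Modules.pullback q.left).obj M, ⊤)} {W : A.left.Opens} {e : Γ(M, W)}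
    {f g : Γ(G.left, q.left ⁻¹ᵁ W)} (hf : Coef σ e f) (hg : Coef τ e g) : Coef (σ + τ) e (f + g) := by
  unfold Coef at hf hg ⊢
  rw [map_add, hf, hg, add_smul]

theorem Coef.smul {σ : Γ((Scheme.Modules.pullback q.left).obj M, ⊤)} {W : A.left.Opens} {e : Γ(M, W)}
    {f : Γ(G.left, q.left ⁻¹ᵁ W)} (c : k) (hf : Coef σ e f) : Coef (kc G ⊤ c • σ) e (kc G _ c * f) := by
  unfold Coef at hf ⊢
  rw [res_smul, hf, smul_smul, ores_kc]

/-- **Eigensections.** -/
theorem exists_eigensection [IsAlgClosed k] [IsCommMonObj N] [IsAffineHom N.hom] [IsIntegral G.left]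
    [Surjective q.left] [IsAffineHom q.left] (hM : PicF.IsInvertible M)
    (σ : Γ((Scheme.Modules.pullback q.left).obj M, ⊤)) (hσ : σ ≠ 0) :
    ∃ (τ : Γ((Scheme.Modules.pullback q.left).obj M, ⊤)) (χ : Pt N → k), τ ≠ 0 ∧
      ∀ (n : Pt N) (W : A.left.Opens) (e : Γ(M, W)) (_ : IsGen e) (f : Γ(G.left, q.left ⁻¹ᵁ W)), Coef τ e f →
        tau i hk n W f = kc G _ (χ n) * f := by
  -- an affine open subscheme over which `M` is trivial
  obtain ⟨x⟩ : Nonempty A.left := ⟨q.left (genericPoint G.left)⟩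
  obtain ⟨V, e', hx, he'⟩ := (isInvertible_iff M).mp hM x
  obtain ⟨W, hWaff, hxW, hWV⟩ := exists_isAffineOpen_mem_and_subset hx
  have hWV' : W ≤ V := hWV
  let e : Γ(M, W) := Fdesc.LocGen.res M hWV' e'
  have he : IsGen e := he'.res hWV'
  have hne : Nonempty W := ⟨⟨x, hxW⟩⟩
  have hU : IsAffineOpen (q.left ⁻¹ᵁ W) := hWaff.preimage q.left
  obtain ⟨f, hf⟩ := exists_coef σ he
  have hf0 : f ≠ 0 := by
    rintro rfl
    exact hσ (eq_zero_of_coef hM σ e hne hf)
  obtain ⟨g, ⟨τ, hτ⟩, hg0, hg⟩ := exists_eigen i hk W hU {f | ∃ σ, Coef σ e f}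
    (fun f ⟨σ, hσ⟩ g ⟨τ, hτ⟩ => ⟨σ + τ, hσ.add hτ⟩) (fun c f ⟨σ, hσ⟩ => ⟨_, hσ.smul c⟩)
    (fun f ⟨σ, hσ⟩ n => by
      obtain ⟨σ', h⟩ := exists_translate i hk hM n σ
      exact ⟨σ', h W e he f hσ⟩) f ⟨σ, hf⟩ hf0
  choose χ hχ using hg
  refine ⟨τ, χ, ?_, fun n W' e₁ he₁ f₁ hf₁ => ?_⟩
  · rintro rfl
    refine hg0 (hτ.unique he ?_)
    unfold Coef
    rw [map_zero, zero_smul]
  · have hneg : ∀ (U : G.left.Opens) (a : Γ(G.left, U)), kc G U (-1) * a = -a := fun U a => by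
      rw [map_neg, map_one, neg_one_mul]
    obtain ⟨τ', h⟩ := exists_translate i hk hM n τ
    have h1 : τ' + kc G ⊤ (-1) • (kc G ⊤ (χ n) • τ) = 0 := by
      refine eq_zero_of_coef hM _ e hne ?_
      have h2 := (h W e he g hτ).add ((hτ.smul (χ n)).smul (-1))
      rwa [hχ n, hneg, add_neg_cancel] at h2
    have h3 := (h W' e₁ he₁ f₁ hf₁).add ((hf₁.smul (χ n)).smul (-1))
    rw [h1] at h3
    have h4 : Coef (0 : Γ((Scheme.Modules.pullback q.left).obj M, ⊤)) e₁ (0 : Γ(G.left, q.left ⁻¹ᵁ W')) := by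
      unfold Coef
      rw [map_zero, zero_smul]
    have h5 := h3.unique he₁ h4
    rw [hneg, add_neg_eq_zero] at h5
    exact h5

end K414.AmpSec
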