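import Groth.Agent.AlgGrp.K414.AmpPts
import Groth.Agent.AlgGrp.K400.TorsExt

/-!
# Translations of functions by the points of the kernel: local finiteness and eigenfunctions
-/

set_option autoImplicit false
set_option linter.unusedSectionVars false
universe u
open CategoryTheory MonoidalCategory CartesianMonoidalCategory MonObj GrpObj AlgebraicGeometry Limits TopologicalSpace

namespace K414.AmpTau

open Groth.Agent K410.LocSec K410.FnLaw K410.FnVal K410.LocSys K410.LocTrans K414.AmpPts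
open Groth.Agent.Fdesc.LocGen

/-- A nonzero space which is stable under a locally finite action of a commutative group contains an eigenvector. -/
theorem exists_eigen_alg {k R P : Type*} [Field k] [IsAlgClosed k] [AddCommGroup R] [Module k R] [CommMonoid P]
    (τ : P → R →ₗ[k] R) (hτ : ∀ n m f, τ n (τ m f) = τ (n * m) f) (hτ1 : ∀ f, τ 1 f = f) (J : Submodule k R)
    (hJ : ∀ n, ∀ f ∈ J, τ n f ∈ J) (f : R) (hf : f ∈ J) (hf0 : f ≠ 0) {m : ℕ} (b : Fin m → R)
    (hb : ∀ n, τ n f ∈ Submodule.span k (Set.range b)) :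
    ∃ g ∈ J, g ≠ 0 ∧ ∀ n, ∃ c : k, τ n g = c • g := by
  let V : Submodule k R := Submodule.span k (Set.range fun n => τ n f)
  have hVJ : V ≤ J := by
    rw [Submodule.span_le]
    rintro _ ⟨n, rfl⟩
    exact hJ n f hf
  have h3 : FiniteDimensional k (Submodule.span k (Set.range b)) :=
    FiniteDimensional.span_of_finite k (Set.finite_range b)
  have hVfin : FiniteDimensional k V := by
    have h1 : V ≤ Submodule.span k (Set.range b) := by
      rw [Submodule.span_le]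
      rintro _ ⟨n, rfl⟩
      exact hb n
    exact Submodule.finiteDimensional_of_le h1
  have hfV : f ∈ V := Submodule.subset_span ⟨1, hτ1 f⟩
  have hnt : Nontrivial V := ⟨⟨⟨f, hfV⟩, 0, fun h => hf0 (congrArg Subtype.val h)⟩⟩
  have hmap : ∀ n, ∀ g ∈ V, τ n g ∈ V := by
    intro n g hg
    have h2 : V ≤ V.comap (τ n) := by
      rw [Submodule.span_le]
      rintro _ ⟨m, rfl⟩
      change τ n (τ m f) ∈ V
      rw [hτ]
      exact Submodule.subset_span ⟨n * m, rfl⟩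
    exact h2 hg
  obtain ⟨v, hv, hvT⟩ := Sga7.H733.Eig.exists_common_eigenvector (k := k) (Module.finrank k V) V rfl
    (fun n => (τ n).restrict (hmap n)) (fun n m => by
      apply LinearMap.ext
      intro g
      apply Subtype.ext
      change τ n (τ m g.1) = τ m (τ n g.1)
      rw [hτ, hτ, mul_comm])
  refine ⟨v.1, hVJ v.2, fun h => hv (Subtype.ext h), fun n => ?_⟩
  obtain ⟨c, hc⟩ := hvT n
  exact ⟨c, congrArg Subtype.val hc⟩

section lift

variable {B : Scheme.{u}}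

/-- Lifting a morphism to the inverse image of an open subscheme. -/
theorem exists_lift_ov {T G A : Over B} (q : G ⟶ A) (W : A.left.Opens) (f : T ⟶ G) (g : T ⟶ ov A W)
    (h : f ≫ q = g ≫ inc A W) : ∃ l : T ⟶ ov G (q.left ⁻¹ᵁ W), l ≫ inc G _ = f := by
  have h1 : Set.range f.left ⊆ Set.range (q.left ⁻¹ᵁ W).ι := by
    rintro _ ⟨t, rfl⟩
    rw [Scheme.Opens.range_ι]
    change q.left (f.left t) ∈ W
    have h2 : q.left (f.left t) = W.ι (g.left t) := by
      rw [← Scheme.Hom.comp_apply, ← Over.comp_left, h]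
      rfl
    rw [h2]
    exact (g.left t).2
  refine ⟨Over.homMk (IsOpenImmersion.lift (q.left ⁻¹ᵁ W).ι f.left h1) ?_, ?_⟩
  · change IsOpenImmersion.lift (q.left ⁻¹ᵁ W).ι f.left h1 ≫ (q.left ⁻¹ᵁ W).ι ≫ G.hom = _
    rw [IsOpenImmersion.lift_fac_assoc, Over.w]
  · ext1
    exact IsOpenImmersion.lift_fac _ _ _

/-- a function on an open subscheme as a function on the scheme -/
noncomputable abbrev tf {X : Over B} (W : X.left.Opens) (f : Γ(X.left, W)) : Γ((ov X W).left, ⊤) := W.topIso.inv.hom f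

theorem val_tf {X : Over B} (W : X.left.Opens) (f : Γ(X.left, W)) : val (tf W f) (𝟙 (ov X W)) = f := by
  rw [val]
  have h1 : (𝟙 (ov X W) : ov X W ⟶ ov X W).left.appTop = 𝟙 _ := by
    rw [Over.id_left]
    exact Scheme.Hom.id_app _
  rw [h1]
  exact congr($(W.topIso.inv_hom_id) f)

theorem val_tf_rs {X Y : Over B} (f : X ⟶ Y) {W : X.left.Opens} {V : Y.left.Opens} (e : W ≤ f.left ⁻¹ᵁ V)
    (c : Γ(Y.left, V)) : val (tf V c) (rs f e) = (f.left.appLE V W e).hom c := by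
  have h := val_rs (tf V c) f e (𝟙 (ov Y V))
  rw [Category.comp_id, val_tf] at h
  exact h

end lift

variable {k : Type u} [Field k] {N G A : Over (Spec (CommRingCat.of k))} [GrpObj N] [GrpObj G] [GrpObj A]
  [IsCommMonObj G] (i : N ⟶ G) {q : G ⟶ A} [IsMonHom i] [IsMonHom q] (hk : AlgGrp.IsKernel i q)

/-- translation of functions by a point of the kernel -/
noncomputable def tau (n : Pt N) (W : A.left.Opens) : Γ(G.left, q.left ⁻¹ᵁ W) →+* Γ(G.left, q.left ⁻¹ᵁ W) :=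
  ((tr (n ≫ i)).left.appLE _ _ (ker_le i hk n W)).hom

theorem tau_eq_val (n : Pt N) (W : A.left.Opens) (f : Γ(G.left, q.left ⁻¹ᵁ W)) :
    tau i hk n W f = val (tf _ f) (rs (tr (n ≫ i)) (ker_le i hk n W)) := (val_tf_rs _ _ _).symm

theorem tau_app (n : Pt N) (W : A.left.Opens) (a : Γ(A.left, W)) :
    tau i hk n W ((q.left.app W).hom a) = (q.left.app W).hom a :=
  app_appLE _ _ (tr_ker_comp i n hk.w) W _ a

theorem ores_tau (n : Pt N) {V W : A.left.Opens} (h : W ≤ V) (f : Γ(G.left, q.left ⁻¹ᵁ V)) :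
    ores (q.left.preimage_mono h) (tau i hk n V f) = tau i hk n W (ores (q.left.preimage_mono h) f) := by
  have h1 := (tr (n ≫ i)).left.appLE_map (ker_le i hk n V) (homOfLE (q.left.preimage_mono h)).op
  have h2 := (tr (n ≫ i)).left.map_appLE (ker_le i hk n W) (homOfLE (q.left.preimage_mono h)).op
  have h3 := h1.trans h2.symm
  exact congr($h3 f)

theorem tau_kc (n : Pt N) (W : A.left.Opens) (c : k) : tau i hk n W (kc G _ c) = kc G _ c := by
  rw [tau_eq_val]
  have h1 : (tf (q.left ⁻¹ᵁ W) (kc G (q.left ⁻¹ᵁ W) c)) =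
      (toUnit (ov G (q.left ⁻¹ᵁ W))).left.appTop.hom ((Scheme.ΓSpecIso (CommRingCat.of k)).inv.hom c) :=
    congr($((q.left ⁻¹ᵁ W).topIso.hom_inv_id) ((toUnit (ov G (q.left ⁻¹ᵁ W))).left.appTop.hom
      ((Scheme.ΓSpecIso (CommRingCat.of k)).inv.hom c)))
  rw [h1, val]
  change (q.left ⁻¹ᵁ W).topIso.hom.hom (((toUnit (ov G (q.left ⁻¹ᵁ W))).left.appTop ≫
    (rs (tr (n ≫ i)) (ker_le i hk n W)).left.appTop).hom _) = _
  rw [← Scheme.Hom.comp_appTop, ← Over.comp_left, toUnit_unique (rs (tr (n ≫ i)) (ker_le i hk n W) ≫ toUnit _) (toUnit _)]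
  rfl

theorem rs_mul (n m : Pt N) (W : A.left.Opens) : rs (tr (n ≫ i)) (ker_le i hk n W) ≫ rs (tr (m ≫ i)) (ker_le i hk m W) =
    rs (tr ((n * m) ≫ i)) (ker_le i hk (n * m) W) := by
  apply K410.LocSec.hom_ext
  rw [Category.assoc, rs_inc, rs_inc_assoc, rs_inc]
  congr 1
  rw [comp_tr, tr, tr, MonObj.mul_comp, MonObj.comp_mul, _root_.mul_assoc]

theorem tau_tau (n m : Pt N) (W : A.left.Opens) (f : Γ(G.left, q.left ⁻¹ᵁ W)) :
    tau i hk n W (tau i hk m W f) = tau i hk (n * m) W f := by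
  rw [tau_eq_val i hk m, tau_eq_val i hk (n * m), ← rs_mul i hk, val_rs]
  rfl

theorem tau_one (W : A.left.Opens) (f : Γ(G.left, q.left ⁻¹ᵁ W)) : tau i hk 1 W f = f := by
  have h1 : rs (tr ((1 : Pt N) ≫ i)) (ker_le i hk 1 W) = 𝟙 (ov G (q.left ⁻¹ᵁ W)) := by
    apply K410.LocSec.hom_ext
    rw [rs_inc, Category.id_comp, MonObj.one_comp, tr, MonObj.comp_one, _root_.mul_one, Category.comp_id]
  rw [tau_eq_val, h1, val_tf]

include hk in
/-- The action of the kernel on the inverse image of an open subscheme. -/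
theorem exists_act (W : A.left.Opens) : ∃ m : N ⊗ ov G (q.left ⁻¹ᵁ W) ⟶ ov G (q.left ⁻¹ᵁ W),
    m ≫ inc G _ = (snd _ _ ≫ inc G _) * (fst _ _ ≫ i) := by
  refine exists_lift_ov q W _ (snd _ _ ≫ rs q le_rfl) ?_
  rw [MonObj.mul_comp, Category.assoc, Category.assoc, Category.assoc, ker_comp hk, MonObj.comp_one,
    _root_.mul_one, rs_inc]

/-- **Local finiteness.** -/
theorem exists_finite [IsAffineHom N.hom] (W : A.left.Opens) (hW : IsAffineOpen (q.left ⁻¹ᵁ W))
    (f : Γ(G.left, q.left ⁻¹ᵁ W)) : ∃ (m : ℕ) (a : Fin m → Γ(N.left, ⊤)) (b : Fin m → Γ(G.left, q.left ⁻¹ᵁ W)),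
      ∀ n : Pt N, tau i hk n W f = ∑ l, kc G _ (evk n (a l)) * b l := by
  obtain ⟨m, hm⟩ := exists_act i hk W
  have : IsAffine (ov G (q.left ⁻¹ᵁ W)).left := hW
  have h1 : IsAffineHom (ov G (q.left ⁻¹ᵁ W)).hom := inferInstance
  obtain ⟨r, a, b, hab⟩ := Sga3B.RadOpen.exists_sum_fst_snd N (ov G (q.left ⁻¹ᵁ W)) (m.left.appTop.hom (tf _ f))
  refine ⟨r, a, fun l => val (b l) (𝟙 _), fun n => ?_⟩
  have h2 : rs (tr (n ≫ i)) (ker_le i hk n W) = lift (toUnit _ ≫ n) (𝟙 _) ≫ m := by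
    apply K410.LocSec.hom_ext
    rw [rs_inc, comp_tr, Category.assoc, hm, MonObj.comp_mul, lift_fst_assoc, lift_snd_assoc, Category.id_comp,
      Category.assoc]
  rw [tau_eq_val, h2, val, Over.comp_left, Scheme.Hom.comp_appTop]
  change (q.left ⁻¹ᵁ W).topIso.hom.hom ((lift (toUnit (ov G (q.left ⁻¹ᵁ W)) ≫ n)
    (𝟙 (ov G (q.left ⁻¹ᵁ W)))).left.appTop.hom (m.left.appTop.hom (tf _ f))) = _
  rw [hab, map_sum, map_sum]
  refine Finset.sum_congr rfl fun l _ => ?_
  rw [map_mul, map_mul]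
  congr 1
  · rw [← val_toUnit]
    change _ = (q.left ⁻¹ᵁ W).topIso.hom.hom ((toUnit (ov G (q.left ⁻¹ᵁ W)) ≫ n).left.appTop.hom (a l))
    rw [← lift_fst (toUnit (ov G (q.left ⁻¹ᵁ W)) ≫ n) (𝟙 (ov G (q.left ⁻¹ᵁ W))), Over.comp_left,
      Scheme.Hom.comp_appTop]
    rw [lift_fst]
    rfl
  · change _ = (q.left ⁻¹ᵁ W).topIso.hom.hom ((𝟙 (ov G (q.left ⁻¹ᵁ W)) : ov G (q.left ⁻¹ᵁ W) ⟶ _).left.appTop.hom (b l))
    rw [← lift_snd (toUnit (ov G (q.left ⁻¹ᵁ W)) ≫ n) (𝟙 (ov G (q.left ⁻¹ᵁ W))), Over.comp_left,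
      Scheme.Hom.comp_appTop]
    rw [lift_snd]
    rfl

/-- Translation as a linear map. -/
noncomputable def tauL (n : Pt N) (W : A.left.Opens) :
    letI : Algebra k Γ(G.left, q.left ⁻¹ᵁ W) := (kc G _).toAlgebra
    Γ(G.left, q.left ⁻¹ᵁ W) →ₗ[k] Γ(G.left, q.left ⁻¹ᵁ W) :=
  letI : Algebra k Γ(G.left, q.left ⁻¹ᵁ W) := (kc G _).toAlgebra
  { toFun := tau i hk n W
    map_add' := map_add _
    map_smul' := fun c f => by
      rw [Algebra.smul_def, Algebra.smul_def, map_mul]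
      congr 1
      exact tau_kc i hk n W c }

/-- **Eigenfunctions.** A nonzero space of functions which is stable under the translations by the points of the kernel
contains an eigenfunction. -/
theorem exists_eigen [IsAlgClosed k] [IsCommMonObj N] [IsAffineHom N.hom] (W : A.left.Opens)
    (hW : IsAffineOpen (q.left ⁻¹ᵁ W)) (I : Set Γ(G.left, q.left ⁻¹ᵁ W)) (hadd : ∀ f ∈ I, ∀ g ∈ I, f + g ∈ I)
    (hsmul : ∀ (c : k), ∀ f ∈ I, kc G _ c * f ∈ I) (hI : ∀ f ∈ I, ∀ n : Pt N, tau i hk n W f ∈ I)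
    (f : Γ(G.left, q.left ⁻¹ᵁ W)) (hf : f ∈ I) (hf0 : f ≠ 0) :
    ∃ g ∈ I, g ≠ 0 ∧ ∀ n : Pt N, ∃ c : k, tau i hk n W g = kc G _ c * g := by
  let _ : Algebra k Γ(G.left, q.left ⁻¹ᵁ W) := (kc G _).toAlgebra
  have hsm : ∀ (c : k) (g : Γ(G.left, q.left ⁻¹ᵁ W)), c • g = kc G _ c * g := fun c g => Algebra.smul_def c g
  obtain ⟨r, a, b, hab⟩ := exists_finite i hk W hW f
  obtain ⟨g, h1, h2, h3⟩ := exists_eigen_alg (tauL i hk · W)
    (fun n m g => tau_tau i hk n m W g) (fun g => tau_one i hk W g)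
    { carrier := I
      add_mem' := fun {a b} ha hb => hadd a ha b hb
      zero_mem' := by
        have := hsmul 0 f hf
        rwa [map_zero, zero_mul] at this
      smul_mem' := fun c g hg => by
        rw [hsm]
        exact hsmul c g hg } (fun n g hg => hI g hg n) f hf hf0 b (fun n => by
      change tau i hk n W f ∈ _
      rw [hab n]
      refine Submodule.sum_mem _ fun l _ => ?_
      rw [← hsm]
      exact Submodule.smul_mem _ _ (Submodule.subset_span ⟨l, rfl⟩))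
  refine ⟨g, h1, h2, fun n => ?_⟩
  obtain ⟨c, hc⟩ := h3 n
  exact ⟨c, hc.trans (hsm c g)⟩

end K414.AmpTau
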