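import Groth.Agent.Sga5.H858.AbsFrob
import Groth.Agent.Sga3B.DSPts
import Groth.Agent.AlgGrp.K395.Pts
import Mathlib.FieldTheory.Finite.Basic

/-!
# The Frobenius endomorphism of a scheme over a finite field

`k` a field of characteristic `p`, `n` with `a ^ p ^ n = a` on `k`. `FrK hn X : X ⟶ X` is the `p ^ n`-Frobenius, an
endomorphism of the `k`-scheme `X`. It is natural, a homomorphism for group schemes, and the `p ^ n`-th power on
diagonalizable groups and their forms split over a field `L` on which `a ^ p ^ n = a`.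
-/

set_option autoImplicit false
universe u
open CategoryTheory MonoidalCategory CartesianMonoidalCategory MonObj GrpObj AlgebraicGeometry Limits
open Groth.Agent Groth.Agent.Sga5.H858.AbsFrob

namespace K414.FrobK

variable {k : Type u} [Field k] {p : ℕ} [hp : Fact p.Prime] [CharP k p] {n : ℕ}

theorem charZero (k : Type u) [Field k] (p : ℕ) [CharP k p] (X : Over (Spec (CommRingCat.of k))) (U : X.left.Opens) :
    ((p : ℕ) : Γ(X.left, U)) = 0 :=
  char_zero_of_hom X.hom (char_zero_spec (CommRingCat.of k) (p := p) (CharP.cast_eq_zero k p)) U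

/-- The `p ^ n`-Frobenius over `k`. -/
noncomputable def FrK (hn : ∀ a : k, a ^ p ^ n = a) (X : Over (Spec (CommRingCat.of k))) : X ⟶ X :=
  Over.homMk (frob X.left p hp.out (charZero k p X) n) (by
    have h1 : frob (Spec (CommRingCat.of k)) p hp.out
        (char_zero_spec (CommRingCat.of k) (CharP.cast_eq_zero k p)) n = 𝟙 _ := by
      rw [frob_spec (CommRingCat.of k) p hp.out (CharP.cast_eq_zero k p) n (RingHom.id k) (fun a => (hn a).symm)]
      exact Spec.map_id _
    rw [frob_comp X.hom p hp.out _ (char_zero_spec (CommRingCat.of k) (CharP.cast_eq_zero k p)) n, h1,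
      Category.comp_id])

variable (hn : ∀ a : k, a ^ p ^ n = a)

theorem FrK_left (X : Over (Spec (CommRingCat.of k))) :
    (FrK hn X).left = frob X.left p hp.out (charZero k p X) n := rfl

theorem FrK_comp {X Y : Over (Spec (CommRingCat.of k))} (f : X ⟶ Y) : FrK hn X ≫ f = f ≫ FrK hn Y := by
  ext1
  exact frob_comp f.left p hp.out _ _ n

theorem mul_FrK {G : Over (Spec (CommRingCat.of k))} [GrpObj G] {T : Over (Spec (CommRingCat.of k))} (x y : T ⟶ G) :
    (x * y) ≫ FrK hn G = (x ≫ FrK hn G) * (y ≫ FrK hn G) := by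
  rw [← FrK_comp, ← FrK_comp, ← FrK_comp, MonObj.comp_mul]

instance isMonHom_FrK (G : Over (Spec (CommRingCat.of k))) [GrpObj G] : IsMonHom (FrK hn G) :=
  K395.Pts.isMonHom_of_pts _ fun _ x y => mul_FrK hn x y

/-- Frobenius on diagonalizable groups is a power. -/
theorem FrK_DS {M : Type} [AddCommGroup M] {T : Over (Spec (CommRingCat.of k))}
    (x : T ⟶ Red.DS (Spec (CommRingCat.of k)) M) : x ≫ FrK hn _ = x ^ p ^ n := by
  rw [← FrK_comp]
  apply (Sga3B.DSPts.dsEquiv T M).symm.injective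
  rw [map_pow]
  change Sga3B.DSPts.dsChar (FrK hn T ≫ x) = Sga3B.DSPts.dsChar x ^ p ^ n
  rw [Sga3B.DSPts.dsChar_comp]
  refine MonoidHom.ext fun m => ?_
  rfl

theorem FrK_eq_pow_of_iso {G H : Over (Spec (CommRingCat.of k))} [GrpObj G] [GrpObj H] (e : G ≅ H) [IsMonHom e.hom]
    (h : FrK hn H = (𝟙 H) ^ p ^ n) : FrK hn G = (𝟙 G) ^ p ^ n := by
  rw [← cancel_mono e.hom, FrK_comp, h, MonObj.comp_pow, MonObj.pow_comp]
  simp

theorem FrK_DS_eq (M : Type) [AddCommGroup M] :
    FrK hn (Red.DS (Spec (CommRingCat.of k)) M) = (𝟙 _) ^ p ^ n := by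
  rw [← FrK_DS hn (𝟙 _), Category.id_comp]

/-- Descent: a group which becomes diagonalizable over `L ⊇ k` with `x ^ p ^ n = x` on `L`. -/
theorem FrK_eq_pow_of_split {L : Type u} [Field L] [Algebra k L] (hL : ∀ x : L, x ^ p ^ n = x)
    {C : Over (Spec (CommRingCat.of k))} [GrpObj C] {M : Type} [AddCommGroup M]
    (e : Grp.mk (Red.bc (Spec.map (CommRingCat.ofHom (algebraMap k L))) C) ≅
      Grp.mk (Red.DS (Spec (CommRingCat.of L)) M)) : FrK hn C = (𝟙 C) ^ p ^ n := by
  have hch : CharP L p := charP_of_injective_algebraMap (algebraMap k L).injective p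
  let f : Spec (CommRingCat.of L) ⟶ Spec (CommRingCat.of k) := Spec.map (CommRingCat.ofHom (algebraMap k L))
  let e' : Red.bc f C ≅ Red.DS (Spec (CommRingCat.of L)) M := (Grp.forget _).mapIso e
  have h0 : IsMonHom e'.hom := inferInstanceAs (IsMonHom e.hom.hom.hom)
  have h1 : FrK hL (Red.bc f C) = (𝟙 _) ^ p ^ n := FrK_eq_pow_of_iso hL e' (FrK_DS_eq hL M)
  have h2 : (Over.pullback f).map ((𝟙 C) ^ p ^ n) = (𝟙 (Red.bc f C)) ^ p ^ n := by
    have h3 := (Functor.homMonoidHom (X := C) (M := C) (Over.pullback f)).map_pow (𝟙 C) (p ^ n)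
    have h4 : (Functor.homMonoidHom (X := C) (M := C) (Over.pullback f)) (𝟙 C) = 𝟙 (Red.bc f C) :=
      (Over.pullback f).map_id C
    rw [h4] at h3
    exact h3
  let pr : (Red.bc f C).left ⟶ C.left := pullback.fst C.hom f
  have hff : (algebraMap k L).FaithfullyFlat := RingHom.faithfullyFlat_algebraMap_iff.mpr inferInstance
  have hff' : Flat f ∧ Surjective f := by
    have h := flat_and_surjective_SpecMap_iff (f := CommRingCat.ofHom (algebraMap k L))
    exact h.mpr hff
  have := hff'.1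
  have := hff'.2
  have hpr1 : Flat pr := inferInstanceAs (Flat (pullback.fst C.hom f))
  have hpr2 : Surjective pr := inferInstanceAs (Surjective (pullback.fst C.hom f))
  ext1
  have hepi : Epi pr := Flat.epi_of_flat_of_surjective pr
  rw [← cancel_epi pr]
  have h5 : pr ≫ (FrK hn C).left = (FrK hL (Red.bc f C)).left ≫ pr := (frob_comp pr p hp.out _ _ n).symm
  have h6 : ((Over.pullback f).map ((𝟙 C) ^ p ^ n)).left ≫ pr = pr ≫ ((𝟙 C) ^ p ^ n).left :=
    pullback.lift_fst _ _ _
  rw [h5, h1, ← h2, h6]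

end K414.FrobK
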