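import Groth.Agent.S2969
import Groth.Agent.Sga3A.FibMain
import Groth.Agent.Sga3.H829.MultConv
import Groth.Agent.AlgGrp.K414.Unip
import Groth.Agent.AlgGrp.K414.FrobK

/-!
# Groups of multiplicative type over a field split over a finite separable extension (scheme form)

`exists_finite_split`, and over a finite field: some Frobenius is a power of the identity (`exists_frob_pow`).
-/

set_option autoImplicit false
universe u
open CategoryTheory MonoidalCategory CartesianMonoidalCategory MonObj GrpObj AlgebraicGeometry Limits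
open scoped TensorProduct
open Groth.Agent Groth.Agent.Sga3B Groth.Agent.Sga3B.TorusAlgClosed Groth.Agent.Books.AffBridge
  Groth.Agent.Books.AffBridge2

namespace K414.FinSplit

variable {k : Type u} [Field k]

theorem exists_finite_split {C : Over (Spec (CommRingCat.of k))} [GrpObj C] [LocallyOfFiniteType C.hom]
    (hC : SGA3x.IsMultTypeFT C) :
    ∃ (L : Type u) (_ : Field L) (_ : Algebra k L) (_ : Module.Finite k L) (_ : Algebra.IsSeparable k L)
      (M : Type) (_ : AddCommGroup M), AddGroup.FG M ∧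
      Nonempty (Grp.mk (Red.bc (Spec.map (CommRingCat.ofHom (algebraMap k L))) C) ≅
        Grp.mk (Red.DS (Spec (CommRingCat.of L)) M)) := by
  have h1 : IsAffineHom C.hom := Groth.Agent.Sga3.H829.MultConv.isAffineHom_of_isMultTypeFT hC
  have h2 : IsAffine C.left := isAffine_of_isAffineHom C.hom
  obtain ⟨B, _, _, e, he⟩ := exists_hopf k C
  have hft : Algebra.FiniteType k B := Unip.finiteType_of_iso e
  have hB : SGA3b.IsMultTypeConst k B := Groth.Agent.Sga3.H829.MultConv.isMultTypeConst_of_isMultTypeFT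
    (Groth.Agent.Sga3.H829.Central.isMultTypeFT_of_iso' e hC)
  obtain ⟨L, _, _, hL1, hL2, M, _, hM, ⟨φ'⟩⟩ :=
    Groth.Agent.S2969.result k B hft (Groth.Agent.Sga3A.FibMain.isMultType_of_const hB)
  obtain ⟨M₀, _, hM₀, ⟨e₀⟩⟩ := Groth.Agent.Sga3.H829.MultConv.exists_type_equiv M
  let φ : MonoidAlgebra L (Multiplicative M₀) ≃ₐc[L] L ⊗[k] B :=
    ((Sga3A.MTBasis.GBasis.ofBialgEquiv φ').reindex e₀).bialgEquiv
  obtain ⟨e₁, he₁⟩ := BcSpec892.exists_iso k L B
  let e₂ : Red.DS (Spec (CommRingCat.of L)) M₀ ≅ SpecOver L (MonoidAlgebra L (Multiplicative M₀)) :=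
    ⟨DSAff.dsTo L M₀, DSAff.dsFrom L M₀, DSAff.dsTo_dsFrom, DSAff.dsFrom_dsTo⟩
  let e₃ : SpecOver L (L ⊗[k] B) ≅ SpecOver L (MonoidAlgebra L (Multiplicative M₀)) :=
    ⟨specMap L ((φ : MonoidAlgebra L (Multiplicative M₀) →ₐc[L] L ⊗[k] B) : _ →ₐ[L] _),
      specMap L ((φ.symm : L ⊗[k] B →ₐc[L] MonoidAlgebra L (Multiplicative M₀)) : _ →ₐ[L] _), by
        rw [← specMap_comp, ← specMap_id]
        congr 1
        apply AlgHom.ext
        intro x
        exact φ.apply_symm_apply x, by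
        rw [← specMap_comp, ← specMap_id]
        congr 1
        apply AlgHom.ext
        intro x
        exact φ.symm_apply_apply x⟩
  have i3 : IsMonHom e₃.hom := isMonHom_specMap L (φ : MonoidAlgebra L (Multiplicative M₀) →ₐc[L] L ⊗[k] B)
  have i2 : IsMonHom e₂.inv := inferInstanceAs (IsMonHom (DSAff.dsFrom L M₀))
  let f : Spec (CommRingCat.of L) ⟶ Spec (CommRingCat.of k) := Spec.map (CommRingCat.ofHom (algebraMap k L))
  let e₀' : Red.bc f C ≅ Red.bc f (SpecOver k B) := (Over.pullback f).mapIso e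
  have i0 : IsMonHom e₀'.hom := inferInstanceAs (IsMonHom ((Over.pullback f).map e.hom))
  let ε := e₀' ≪≫ e₁ ≪≫ e₃ ≪≫ e₂.symm
  have he : IsMonHom ε.hom := inferInstanceAs (IsMonHom (e₀'.hom ≫ e₁.hom ≫ e₃.hom ≫ e₂.inv))
  exact ⟨L, inferInstance, inferInstance, hL1, hL2, M₀, inferInstance, hM₀,
    ⟨Grp.mkIso ε (IsMonHom.one_hom ε.hom) (IsMonHom.mul_hom ε.hom)⟩⟩

theorem exists_frob_pow [Finite k] (p : ℕ) [Fact p.Prime] [CharP k p] {C : Over (Spec (CommRingCat.of k))}
    [GrpObj C] [LocallyOfFiniteType C.hom] (hC : SGA3x.IsMultTypeFT C) :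
    ∃ (n : ℕ) (_ : 0 < n) (hn : ∀ a : k, a ^ p ^ n = a), FrobK.FrK hn C = (𝟙 C) ^ p ^ n := by
  obtain ⟨L, _, _, hL, -, M, _, -, ⟨e⟩⟩ := exists_finite_split hC
  have hfin : Finite L := Module.finite_of_finite k
  have hch : CharP L p := charP_of_injective_algebraMap (algebraMap k L).injective p
  have := Fintype.ofFinite L
  obtain ⟨n, hp, hcard⟩ := FiniteField.card L p
  have h1 : ∀ x : L, x ^ p ^ (n : ℕ) = x := fun x => by rw [← hcard]; exact FiniteField.pow_card x
  have h2 : ∀ x : k, x ^ p ^ (n : ℕ) = x := fun x => by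
    apply (algebraMap k L).injective
    rw [map_pow, h1]
  exact ⟨n, n.2, h2, FrobK.FrK_eq_pow_of_split h2 h1 e⟩

end K414.FinSplit
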