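import Groth.Agent.Grpsch.FinrankGen
import Groth.Agent.VarietyB.DimSch
import Groth.Agent.AbVar.K505.FrobDeg
import Groth.Agent.Sga5.H858.AbsFrob

/-!
# The rank of the Frobenius of a variety over a perfect field
-/

set_option autoImplicit false
universe u
open CategoryTheory AlgebraicGeometry Limits
open Groth.Agent Groth.Agent.Sga5.H858.AbsFrob Groth.Agent.VarietyB.DimSch

namespace K414.FrobRank

attribute [local instance] Curv2.stalkAlgebra Curv2.resAlgebra

variable (k : Type u) [Field k] (X : Scheme.{u}) [X.Over (Spec (CommRingCat.of k))]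
  [LocallyOfFiniteType (X ↘ Spec (CommRingCat.of k))] [IsIntegral X]

theorem essFiniteType_stalk : Algebra.EssFiniteType k (X.presheaf.stalk (genericPoint X)) := by
  obtain ⟨U, hU, hx, -⟩ := exists_isAffineOpen_mem_and_subset (X := X) (U := ⊤) (x := genericPoint X) trivial
  let : Algebra k Γ(X, U) := (toSections k X U).toAlgebra
  have h1 : Algebra.FiniteType k Γ(X, U) := toSections_finiteType k X hU
  let : Algebra Γ(X, U) (X.presheaf.stalk (genericPoint X)) :=
    TopCat.Presheaf.algebra_section_stalk X.presheaf ⟨genericPoint X, hx⟩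
  have : IsLocalization.AtPrime (X.presheaf.stalk (genericPoint X)) (hU.primeIdealOf ⟨genericPoint X, hx⟩).asIdeal :=
    hU.isLocalization_stalk ⟨genericPoint X, hx⟩
  have : IsScalarTower k Γ(X, U) (X.presheaf.stalk (genericPoint X)) :=
    IsScalarTower.of_algebraMap_eq fun c => (germ_toSections k X U (genericPoint X) hx c).symm
  have h2 : Algebra.EssFiniteType Γ(X, U) (X.presheaf.stalk (genericPoint X)) :=
    Algebra.EssFiniteType.of_isLocalization _ (hU.primeIdealOf ⟨genericPoint X, hx⟩).asIdeal.primeCompl
  exact Algebra.EssFiniteType.comp k Γ(X, U) _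

theorem trdeg_stalk : Cardinal.toNat (Algebra.trdeg k (X.presheaf.stalk (genericPoint X))) =
    trd k X (genericPoint X) := by
  have h1 : Function.Bijective (X.residue (genericPoint X)).hom := by
    refine ⟨?_, X.residue_surjective _⟩
    exact RingHom.injective (R := X.functionField) (X.residue (genericPoint X)).hom
  let e : X.presheaf.stalk (genericPoint X) ≃ₐ[k] X.residueField (genericPoint X) :=
    { RingEquiv.ofBijective (X.residue (genericPoint X)).hom h1 with
      commutes' := fun c => rfl }
  rw [trd, e.trdeg_eq]

/-- The rank of the absolute Frobenius. -/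
theorem finrank_frob [PerfectField k] (p : ℕ) [hp : Fact p.Prime] [CharP k p]
    (hX : ∀ U : X.Opens, ((p : ℕ) : Γ(X, U)) = 0) (n : ℕ) [IsFinite (frob X p hp.out hX n)]
    [Flat (frob X p hp.out hX n)] (g : ℕ) (hg : topologicalKrullDim X = g) (y : X) :
    (frob X p hp.out hX n).finrank y = (p ^ n) ^ g := by
  have hgen : frob X p hp.out hX n (genericPoint X) = genericPoint X := rfl
  rw [Grpsch.FinrankGen.finrank_eq_stalk (frob X p hp.out hX n) hgen y]
  have h0 : topologicalKrullDim X = trd k X (genericPoint X) := topologicalKrullDim_eq_trd k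
  have h1 : g = Cardinal.toNat (Algebra.trdeg k (X.presheaf.stalk (genericPoint X))) := by
    rw [trdeg_stalk]
    rw [hg] at h0
    exact_mod_cast h0
  have h2 := essFiniteType_stalk k X
  let K := X.functionField
  let : Algebra k K := inferInstanceAs (Algebra k (X.presheaf.stalk (genericPoint X)))
  have h2' : Algebra.EssFiniteType k K := h2
  have hch : CharP K p := charP_of_injective_algebraMap (algebraMap k K).injective p
  have h3 := K505.FrobDeg.deg_iterateFrobenius k K p n
  rw [h1]
  refine Eq.trans ?_ h3
  have h4 : ((frob X p hp.out hX n).stalkMap (genericPoint X)).hom = (iterateFrobenius K p n : K →+* K) := by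
    refine RingHom.ext fun a => ?_
    exact (frobPre_stalkMap X p hp.out hX n (genericPoint X) a).trans (iterateFrobenius_def p n (R := K) a).symm
  unfold K505.FrobDeg.deg
  exact congrArg (fun (t : K →+* K) => @Module.finrank K K _ _ t.toAlgebra.toModule) h4

end K414.FrobRank
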