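import Groth.Agent.S1842
import Groth.Agent.AbVar.K514.GI
import Groth.Agent.Flat2B.SmoothGeom
import Groth.Agent.AlgGrp.K414.FrobRank
import Groth.Agent.AlgGrp.K414.FrobK
import Groth.Agent.AlgGrp.K414.Kit
import Groth.Agent.AlgGrp.K399.Quot
import Mathlib.Topology.Separation.Connected

/-!
# On an abelian variety over a finite field, Frobenius minus its order is surjective

`F = FrK hn A` the `q = p ^ n`-Frobenius (`n > 0`) of an abelian variety over a finite field `k` (`a ^ q = a` on `k`).
* `dim_eq_zero`: if `F = [q]` on `D` then `D` has dimension `0` (degrees: `q ^ g = q ^ (2 * g)`);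
* `surjective_sub`: `F - [q]` is surjective;
* `surjective_pow`: `[m]` is surjective, `m ≠ 0` (any field).
-/

set_option autoImplicit false
universe u
open CategoryTheory Limits MonoidalCategory CartesianMonoidalCategory MonObj GrpObj AlgebraicGeometry
open Groth.Agent Groth.Agent.Sga5.H858.AbsFrob Groth.Agent.Sga3.H739.Fpqc K414.FrobK

namespace K414.FrobAV

variable {k : Type u} [Field k]

theorem geometricallyIntegral (D : Over (Spec (CommRingCat.of k))) [GrpObj D] [Smooth D.hom]
    [ConnectedSpace D.left] : GeometricallyIntegral D.hom :=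
  have : GeometricallyReduced D.hom := Flat2B.SmoothGeom.geometricallyReduced_of_smooth D.hom
  K514.GI.geometricallyIntegral D

/-- the dimension of a variety is a natural number -/
theorem exists_dim (D : Over (Spec (CommRingCat.of k))) [LocallyOfFiniteType D.hom] [IsIntegral D.left] :
    ∃ g : ℕ, topologicalKrullDim D.left = g := by
  let _ : D.left.Over (Spec (CommRingCat.of k)) := ⟨D.hom⟩
  have : LocallyOfFiniteType (D.left ↘ Spec (CommRingCat.of k)) := ‹_›
  exact ⟨_, VarietyB.DimSch.topologicalKrullDim_eq_trd k⟩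

theorem surjective_pow (A : Over (Spec (CommRingCat.of k))) [GrpObj A] [IsProper A.hom] [Smooth A.hom]
    [ConnectedSpace A.left] (m : ℕ) (hm : m ≠ 0) : Surjective ((𝟙 A : A ⟶ A) ^ m).left := by
  have h1 := geometricallyIntegral A
  have h2 : IsIntegral A.left := GeometricallyIntegral.isIntegral_of_subsingleton A.hom
  obtain ⟨g, hg⟩ := exists_dim A
  obtain ⟨h3, h4, h5⟩ := S1842.result k A g hg m (by exact_mod_cast hm)
  rw [zpow_natCast] at h3 h4
  simp only [zpow_natCast] at h5
  rw [← Scheme.Hom.one_le_finrank_iff_surjective]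
  intro a
  rw [h5, Int.natAbs_natCast]
  exact Nat.one_le_pow _ _ (Nat.pos_of_ne_zero hm)

variable {p : ℕ} [hp : Fact p.Prime] [CharP k p] {n : ℕ} (hn : ∀ a : k, a ^ p ^ n = a)

theorem dim_eq_zero [PerfectField k] (hn0 : 0 < n) (D : Over (Spec (CommRingCat.of k))) [GrpObj D]
    [IsProper D.hom] [GeometricallyIntegral D.hom] (h : FrK hn D = (𝟙 D) ^ p ^ n) :
    topologicalKrullDim D.left = 0 := by
  have h2 : IsIntegral D.left := GeometricallyIntegral.isIntegral_of_subsingleton D.hom
  obtain ⟨g, hg⟩ := exists_dim D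
  have hq : 1 < p ^ n := Nat.one_lt_pow hn0.ne' hp.out.one_lt
  obtain ⟨h3, h4, h5⟩ := S1842.result k D g hg ((p ^ n : ℕ) : ℤ) (by
    have : p ^ n ≠ 0 := by omega
    exact_mod_cast this)
  rw [zpow_natCast, ← h] at h3 h4
  have h6 := h5 (genericPoint D.left)
  rw [zpow_natCast, ← h] at h6
  let _ : D.left.Over (Spec (CommRingCat.of k)) := ⟨D.hom⟩
  have : LocallyOfFiniteType (D.left ↘ Spec (CommRingCat.of k)) := inferInstanceAs (LocallyOfFiniteType D.hom)
  have h3' : IsFinite (frob D.left p hp.out (charZero k p D) n) := h3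
  have h4' : Flat (frob D.left p hp.out (charZero k p D) n) := h4
  have h7 := FrobRank.finrank_frob k D.left p (charZero k p D) n g hg (genericPoint D.left)
  have h8 : ((p ^ n : ℕ) : ℤ).natAbs ^ (2 * g) = (p ^ n) ^ g := h6.symm.trans h7
  rw [Int.natAbs_natCast] at h8
  have h9 := Nat.pow_right_injective hq h8
  have h10 : g = 0 := by omega
  rw [hg, h10]; rfl

theorem isMonHom_sub (A : Over (Spec (CommRingCat.of k))) [GrpObj A] [IsCommMonObj A] :
    IsMonHom (FrK hn A * ((𝟙 A) ^ p ^ n)⁻¹) := by
  refine K395.Pts.isMonHom_of_pts _ fun T x y => ?_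
  simp only [MonObj.comp_mul, GrpObj.comp_inv, MonObj.comp_pow, Category.comp_id, mul_FrK, mul_pow, _root_.mul_inv]
  exact mul_mul_mul_comm _ _ _ _

/-- `F - [q]` is surjective on an abelian variety. -/
theorem surjective_sub [PerfectField k] (hn0 : 0 < n) (A : Over (Spec (CommRingCat.of k))) [GrpObj A]
    [IsCommMonObj A] [IsProper A.hom] [Smooth A.hom] [ConnectedSpace A.left] :
    Surjective (FrK hn A * ((𝟙 A) ^ p ^ n)⁻¹).left := by
  have hθ : IsMonHom (FrK hn A * ((𝟙 A) ^ p ^ n)⁻¹) := isMonHom_sub hn A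
  obtain ⟨C, _, r, c, hr, hc, hrc, hrcov, hcc⟩ := Kit.exists_image (FrK hn A * ((𝟙 A) ^ p ^ n)⁻¹)
  have hNC : AlgGrp.IsNormalHom c := K399.Quot.isNormalHom_of_comm c
  obtain ⟨D, _, q, hq, hqf, hqs, hqk, hqc, hDs, hDf, hDq, hDsm⟩ := Kit.exists_quot c hNC
  have hDsm : Smooth D.hom := hDsm inferInstance
  have hDp : IsProper D.hom := Kit.isProper_target q
  have hDc : ConnectedSpace D.left := Kit.connectedSpace_of_surjective q
  have hDi := geometricallyIntegral D
  have h1 : (FrK hn A * ((𝟙 A) ^ p ^ n)⁻¹) ≫ q = 1 := by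
    rw [← hrc, Category.assoc]
    have : c ≫ q = 1 := by
      have := K395.Pts.comp_eq_one hqk (𝟙 C)
      rwa [Category.id_comp] at this
    rw [this, MonObj.comp_one]
  have h2 : FrK hn D = (𝟙 D) ^ p ^ n := by
    refine hqc.cancel ?_
    rw [MonObj.mul_comp, GrpObj.inv_comp, mul_inv_eq_one, MonObj.pow_comp, Category.id_comp, FrK_comp] at h1
    rw [h1, MonObj.comp_pow, Category.comp_id]
  have h3 := dim_eq_zero hn hn0 D h2
  have h4 : DiscreteTopology D.left := by
    have : IsLocallyNoetherian D.left := LocallyOfFiniteType.isLocallyNoetherian D.hom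
    have := IsLocallyArtinian.of_topologicalKrullDim_le_zero (X := D.left) h3.le
    infer_instance
  have h5 : Subsingleton D.left := PreconnectedSpace.trivial_of_discrete
  have h6 : Surjective η[D].left := by
    refine ⟨fun d => ⟨IsLocalRing.closedPoint k, Subsingleton.elim _ _⟩⟩
  have h7 : Surjective c.left :=
    MorphismProperty.of_isPullback (P := @Surjective) (hqk.map (Over.forget _)).flip h6
  have h8 : Surjective r.left := hrcov.surj
  have h9 : Surjective (r.left ≫ c.left) := inferInstance
  rw [← Over.comp_left, hrc] at h9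
  exact h9

end K414.FrobAV
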