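import Groth.Agent.AlgGrp.K414.PropCore
import Groth.Agent.AlgGrp.K414.FinSplit
import Groth.Agent.AlgGrp.K414.FrobAV
import Groth.Agent.PRed.K543.UnipPts
import Groth.Agent.S4141

/-!
# Anti-affine groups over finite fields are proper

`isProper_of_finite`: a group scheme of finite type over a finite field whose only global functions are the constants
is proper (an abelian variety).
-/

set_option autoImplicit false
universe u
open CategoryTheory Limits MonoidalCategory CartesianMonoidalCategory MonObj GrpObj AlgebraicGeometry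
open Groth.Agent Groth.Agent.Sga3.H739.Fpqc K414.FrobK

namespace K414.FinAnti

variable {k : Type u} [Field k]

theorem exists_pow_eq_one (p : ℕ) [Fact p.Prime] [CharP k p] {U : Over (Spec (CommRingCat.of k))} [GrpObj U]
    [LocallyOfFiniteType U.hom] (hU : Unip.IsUnip U) :
    ∃ m : ℕ, ∀ (X : Over (Spec (CommRingCat.of k))) (g : X ⟶ U), g ^ p ^ m = 1 := by
  obtain ⟨A, _, _, e, he, hA⟩ := hU
  have hft : Algebra.FiniteType k A := Unip.finiteType_of_iso e
  exact K543.UnipPts.pow_eq_one_of_isUnipotent p hA e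

/-- A commutative affine group of finite type is an extension of a unipotent group of finite type by a group of
multiplicative type. -/
theorem exists_quot (G : Over (Spec (CommRingCat.of k))) [GrpObj G] [IsCommMonObj G] [IsAffine G.left]
    [LocallyOfFiniteType G.hom] :
    ∃ (C : Over (Spec (CommRingCat.of k))) (_ : GrpObj C) (c : C ⟶ G) (U : Over (Spec (CommRingCat.of k))) (_ : GrpObj U)
      (π : G ⟶ U), IsMonHom c ∧ IsClosedImmersion c.left ∧ SGA3x.IsMultTypeFT C ∧ IsMonHom π ∧ Flat π.left ∧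
      Surjective π.left ∧ AlgGrp.IsKernel c π ∧ Unip.IsUnip U ∧ Cov π ∧ LocallyOfFiniteType U.hom ∧
      QuasiCompact U.hom ∧ IsAffine U.left := by
  obtain ⟨C, _, c, U, _, r, hc, hcc, hC, hr, hrf, hrs, hrk, hU⟩ := Unip.exists_quot G
  have hGq : QuasiCompact G.hom := Sga3.H821.AffProper.quasiCompact_of_affine k G
  obtain ⟨Q, _, q, hq, hqf, hqs, hqk, hqc, hQs, hQf, hQq, -⟩ :=
    Kit.exists_quot c (K399.Quot.isNormalHom_of_comm c)
  have hUa : IsAffine U.left := by
    obtain ⟨B, _, _, e, he, hB⟩ := hU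
    have : IsIso e.hom.left := inferInstanceAs (IsIso ((Over.forget _).map e.hom))
    exact .of_isIso e.hom.left
  have hrq : QuasiCompact r.left := inferInstance
  have hrc : Cov r := ⟨hrf, hrs, hrq⟩
  have hcr : c ≫ r = 1 := by
    have := K395.Pts.comp_eq_one hrk (𝟙 C)
    rwa [Category.id_comp] at this
  have hcq : c ≫ q = 1 := by
    have := K395.Pts.comp_eq_one hqk (𝟙 C)
    rwa [Category.id_comp] at this
  obtain ⟨a, ha, hqa⟩ := Kit.exists_desc c q hqc hqk r hcr
  obtain ⟨b, hb, hrb⟩ := Kit.exists_desc c r hrc hrk q hcq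
  have hab : a ≫ b = 𝟙 Q := hqc.cancel (by rw [← Category.assoc, hqa, hrb, Category.comp_id])
  have hba : b ≫ a = 𝟙 U := hrc.cancel (by rw [← Category.assoc, hrb, hqa, Category.comp_id])
  have hb' : IsIso b := ⟨a, hba, hab⟩
  have hbi : IsIso b.left := inferInstanceAs (IsIso ((Over.forget _).map b))
  refine ⟨C, inferInstance, c, U, inferInstance, r, hc, hcc, hC, hr, hrf, hrs, hrk, hU, hrc, ?_, ?_, hUa⟩
  · rw [← Over.w b]; infer_instance
  · rw [← Over.w b]; infer_instance

variable {p : ℕ} [hp : Fact p.Prime] [CharP k p] {n : ℕ} (hn : ∀ a : k, a ^ p ^ n = a)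

theorem isCommMonObj_of_mono {C : Type*} [Category C] [CartesianMonoidalCategory C] [BraidedCategory C]
    {N G : C} [GrpObj N] [GrpObj G] [IsCommMonObj G] (i : N ⟶ G) [IsMonHom i] [Mono i] : IsCommMonObj N := by
  refine ⟨?_⟩
  rw [← cancel_mono i, Category.assoc, IsMonHom.mul_hom, ← BraidedCategory.braiding_naturality_assoc,
    IsCommMonObj.mul_comm]

theorem isMonHom_pow {S : Scheme.{u}} {G : Over S} [GrpObj G] [IsCommMonObj G] (m : ℕ) :
    IsMonHom ((𝟙 G : G ⟶ G) ^ m) := by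
  refine K395.Pts.isMonHom_of_pts _ fun T x y => ?_
  simp only [MonObj.comp_pow, Category.comp_id]
  exact mul_pow x y m

/-- `F - [q]` -/
noncomputable abbrev psi (X : Over (Spec (CommRingCat.of k))) [GrpObj X] : X ⟶ X :=
  FrK hn X * ((𝟙 X) ^ p ^ n)⁻¹

theorem comp_psi {X Y : Over (Spec (CommRingCat.of k))} [GrpObj X] [GrpObj Y] (f : X ⟶ Y) [IsMonHom f] :
    f ≫ psi hn Y = psi hn X ≫ f := by
  rw [MonObj.comp_mul, MonObj.mul_comp, FrK_comp, GrpObj.comp_inv, GrpObj.inv_comp, MonObj.comp_pow,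
    MonObj.pow_comp, Category.comp_id, Category.id_comp]

theorem isProper_of_finite [Finite k] (M : Over (Spec (CommRingCat.of k))) [GrpObj M]
    [LocallyOfFiniteType M.hom] [QuasiCompact M.hom] [IsIso M.hom.appTop] : IsProper M.hom := by
  obtain ⟨p, hp0⟩ := CharP.exists k
  have hpp : Fact p.Prime := ⟨CharP.char_is_prime k p⟩
  have hbij := K398.AntiAff.bijective_of_isIso (G := M) inferInstance
  obtain ⟨hcon, hcomm⟩ := Groth.Agent.S3293.result k M hbij
  have hMs : Smooth M.hom := Groth.Agent.S3026.result k M hbij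
  obtain ⟨N, _, i, A, _, π, hi, hic, hNa, hNs, hNcon, hNn, hπ, hπs, hπf, hK, hAp, hAs, hAc, -⟩ :=
    Groth.Agent.S4141.result k M
  have mi : Mono i := Kit.mono_of_closed i
  have hNcomm : IsCommMonObj N := isCommMonObj_of_mono i
  have hAcomm : IsCommMonObj A := K399.Quot.isCommMonObj_of_quotient π
  obtain ⟨C, _, c, U, _, r, hc, hcc, hC, hr, hrf, hrs, hrk, hU, hrc, hUf, hUq, hUa⟩ := exists_quot N
  have hCf : LocallyOfFiniteType C.hom := Kit.locallyOfFiniteType_of_closed c
  obtain ⟨n, hn0, hn, hCn⟩ := FinSplit.exists_frob_pow p hC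
  obtain ⟨m, hm⟩ := exists_pow_eq_one p hU
  -- `ψ_N ^ (p ^ m) = 1`
  have h1 : c ≫ psi hn N = 1 := by
    rw [comp_psi, psi, hCn, mul_inv_cancel, MonObj.one_comp]
  have i1 : IsMonHom (psi hn N) := FrobAV.isMonHom_sub hn N
  obtain ⟨ρ, hρ, hrρ⟩ := Kit.exists_desc c r hrc hrk (psi hn N) h1
  have h2 : (psi hn N) ^ p ^ m = 1 := by
    rw [← hrρ, ← MonObj.pow_comp, hm, MonObj.one_comp]
  -- the endomorphism `φ`
  have i2 : IsMonHom (psi hn M) := FrobAV.isMonHom_sub hn M
  have i3 : IsMonHom ((𝟙 M : M ⟶ M) ^ p ^ m) := isMonHom_pow _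
  have h3 : i ≫ psi hn M ≫ (𝟙 M) ^ p ^ m = 1 := by
    rw [MonObj.comp_pow, Category.comp_id, MonObj.comp_pow, comp_psi, ← MonObj.pow_comp, h2, MonObj.one_comp]
  have h4 : (psi hn M ≫ (𝟙 M) ^ p ^ m) ≫ π = π ≫ psi hn A ≫ (𝟙 A) ^ p ^ m := by
    rw [Category.assoc, MonObj.pow_comp, Category.id_comp, MonObj.comp_pow, MonObj.comp_pow, MonObj.comp_pow,
      Category.comp_id, comp_psi]
  have h5 : Surjective ((psi hn M ≫ (𝟙 M) ^ p ^ m) ≫ π).left := by
    have h6 : Surjective (psi hn A).left := FrobAV.surjective_sub hn hn0 A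
    have h7 : Surjective ((𝟙 A : A ⟶ A) ^ p ^ m).left :=
      FrobAV.surjective_pow A (p ^ m) (pow_ne_zero _ hpp.out.ne_zero)
    rw [h4, Over.comp_left, Over.comp_left]
    infer_instance
  exact PropCore.isProper_of_hom i π hK _ h3 h5

end K414.FinAnti
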