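import Groth.Agent.AlgGrp.K413.EqLocus

/-!
# The fixed locus of a family of maps preserving all open subschemes
-/

set_option autoImplicit false

universe u

open CategoryTheory MonoidalCategory CartesianMonoidalCategory AlgebraicGeometry Limits TopologicalSpace

namespace K414.FixLocus

open Groth.Agent.Sga3C.SchemImage

/-- An immersion with closed range is a closed immersion. -/
theorem isClosedImmersion_of_isImmersion {E P : Scheme.{u}} (e : E ⟶ P) [IsImmersion e]
    (h : IsClosed (Set.range e)) : IsClosedImmersion e := by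
  have h1 : e.coborderRange = ⊤ := by
    ext x
    simp only [Scheme.Hom.coborderRange, Opens.coe_top, Set.mem_univ, iff_true]
    change x ∈ coborder (Set.range e)
    rw [coborder, h.closure_eq]
    simp
  rw [← e.liftCoborder_ι]
  have : IsIso e.coborderRange.ι := by
    rw [h1]; exact inferInstanceAs (IsIso P.topIso.hom)
  infer_instance

/-- The equalizer of two morphisms `f, g : P ⟶ X` with `g⁻¹(U) ≤ f⁻¹(U)` for every open `U` of `X` is
closed. -/
theorem isClosedImmersion_equalizer {P X : Scheme.{u}} (f g : P ⟶ X)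
    (h : ∀ U : X.Opens, g ⁻¹ᵁ U ≤ f ⁻¹ᵁ U) : IsClosedImmersion (equalizer.ι f g) := by
  apply isClosedImmersion_of_isImmersion
  rw [← isOpen_compl_iff, isOpen_iff_forall_mem_open]
  intro z hz
  obtain ⟨U, hU, hzU⟩ : ∃ U : X.Opens, IsAffineOpen U ∧ g z ∈ U := by
    obtain ⟨_, ⟨U, hU, rfl⟩, hzU, -⟩ := X.isBasis_affineOpens.exists_subset_of_mem_open
      (Set.mem_univ (g z)) isOpen_univ
    exact ⟨U, hU, hzU⟩
  have hUaff : IsAffine U := hU
  let V : P.Opens := g ⁻¹ᵁ U
  have hV : V ≤ f ⁻¹ᵁ U := h U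
  let f' : (V : Scheme.{u}) ⟶ U := f.resLE U V hV
  let g' : (V : Scheme.{u}) ⟶ U := g.resLE U V le_rfl
  have hf' : f' ≫ U.ι = V.ι ≫ f := by simp [f']
  have hg' : g' ≫ U.ι = V.ι ≫ g := by simp [g']
  have hcl : IsClosed (Set.range (equalizer.ι f' g')) :=
    (equalizer.ι f' g').isClosedEmbedding.isClosed_range
  refine ⟨V.ι '' (Set.range (equalizer.ι f' g'))ᶜ, ?_, V.ι.isOpenEmbedding.isOpenMap _ hcl.isOpen_compl,
    ⟨⟨z, hzU⟩, ?_, rfl⟩⟩
  · rintro _ ⟨v, hv, rfl⟩ ⟨w, hw⟩
    apply hv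
    -- restrict the equalizer to the preimage of `V`
    let W : (equalizer f g).Opens := equalizer.ι f g ⁻¹ᵁ V
    have hwW : w ∈ W := by
      change (equalizer.ι f g) w ∈ V
      rw [hw]; exact v.2
    let r : (W : Scheme.{u}) ⟶ V := equalizer.ι f g ∣_ V
    have hr : r ≫ V.ι = W.ι ≫ equalizer.ι f g := morphismRestrict_ι _ _
    have hr2 : r ≫ f' = r ≫ g' := by
      rw [← cancel_mono U.ι, Category.assoc, Category.assoc, hf', hg', ← Category.assoc,
        ← Category.assoc, hr, Category.assoc, Category.assoc, equalizer.condition]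
    refine ⟨equalizer.lift r hr2 ⟨w, hwW⟩, ?_⟩
    rw [← Scheme.Hom.comp_apply, equalizer.lift_ι]
    apply V.ι.isOpenEmbedding.injective
    rw [← Scheme.Hom.comp_apply, hr, ← hw]
    rfl
  · rintro ⟨w, hw⟩
    apply hz
    have h1 : (equalizer.ι f' g' ≫ V.ι) ≫ f = (equalizer.ι f' g' ≫ V.ι) ≫ g := by
      rw [Category.assoc, Category.assoc, ← hf', ← hg', ← Category.assoc, ← Category.assoc,
        equalizer.condition]
    refine ⟨equalizer.lift _ h1 w, ?_⟩
    rw [← Scheme.Hom.comp_apply, equalizer.lift_ι, Scheme.Hom.comp_apply, hw]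
    rfl

/-- The locus of points `x` of `X` with `a (y, x) = x` for all `y` is closed, for `a : Y × X ⟶ X`
preserving all opens of `X`. -/
theorem exists_closed {k : Type u} [Field k] (X Y : Over (Spec (CommRingCat.of k)))
    (a : Y ⊗ X ⟶ X) (hstab : ∀ U : X.left.Opens, (snd Y X).left ⁻¹ᵁ U ≤ a.left ⁻¹ᵁ U) :
    ∃ (Z : Over (Spec (CommRingCat.of k))) (j : Z ⟶ X), IsClosedImmersion j.left ∧
      ∀ (T : Over (Spec (CommRingCat.of k))) (x : T ⟶ X),
        (∃ z : T ⟶ Z, z ≫ j = x) ↔ (Y ◁ x) ≫ a = (Y ◁ x) ≫ snd Y X := by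
  have hf : SGA3x.IsEssentiallyFree (snd Y X).left :=
    K413.EssFreeField.isEssentiallyFree_snd Y.hom X.hom
  have hci := isClosedImmersion_equalizer a.left (snd Y X).left hstab
  obtain ⟨Z₀, t, ht, h, -⟩ := Groth.Agent.S4101.result _ _ _ (snd Y X).left hf
    (equalizer.ι a.left (snd Y X).left)
  refine ⟨Over.mk (t ≫ X.hom), Over.homMk t, ht, fun T x => ?_⟩
  have h1 := h T.left x.left
  have hp := isPullback_whiskerLeft_left x Y
  rw [K413.EqLocus.isIso_pullback_snd_iff] at h1
  have e1 : (∃ z : T ⟶ Over.mk (t ≫ X.hom), z ≫ Over.homMk t = x) ↔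
      ∃ g' : T.left ⟶ Z₀, g' ≫ t = x.left := by
    constructor
    · rintro ⟨z, hz⟩
      exact ⟨z.left, by rw [← hz]; rfl⟩
    · rintro ⟨g', hg'⟩
      refine ⟨Over.homMk g' ?_, ?_⟩
      · change g' ≫ t ≫ X.hom = T.hom
        rw [← Category.assoc, hg', Over.w]
      · ext1
        exact hg'
  rw [e1, h1]
  have e2 : hp.isoPullback.hom ≫ pullback.fst (snd Y X).left x.left = (Y ◁ x).left :=
    hp.isoPullback_hom_fst
  constructor
  · rintro ⟨q, hq⟩
    have h2 : (hp.isoPullback.hom ≫ q) ≫ equalizer.ι a.left (snd Y X).left = (Y ◁ x).left := by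
      rw [Category.assoc, hq, e2]
    have h3 : equalizer.ι a.left (snd Y X).left ≫ a.left =
        equalizer.ι a.left (snd Y X).left ≫ (snd Y X).left := equalizer.condition _ _
    ext1
    rw [Over.comp_left, Over.comp_left, ← h2]
    simp only [Category.assoc, h3]
  · intro h2
    have h3 : (Y ◁ x).left ≫ a.left = (Y ◁ x).left ≫ (snd Y X).left := by
      rw [← Over.comp_left, ← Over.comp_left, h2]
    refine ⟨hp.isoPullback.inv ≫ equalizer.lift (Y ◁ x).left h3, ?_⟩
    rw [Category.assoc, equalizer.lift_ι]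
    exact hp.isoPullback_inv_fst

end K414.FixLocus
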