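import Groth.Agent.AlgGrp.K414.Unip
import Groth.Agent.AlgGrp.K399.Quot
import Groth.Agent.AlgGrp.K411.HomKit
import Groth.Agent.AlgGrp.K414.AntiAffBC

/-!
# Commutative groups with two anti-affine quotients

`main`: `G` smooth commutative, `T` of multiplicative type and `U` unipotent subgroups with `G / T` and `G / U`
anti-affine. Then `G` is anti-affine.
-/

set_option autoImplicit false
universe u
open CategoryTheory MonoidalCategory CartesianMonoidalCategory MonObj GrpObj AlgebraicGeometry Limits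
open Groth.Agent Groth.Agent.Sga3.H739.Fpqc

namespace K414.HullTriv

open Unip Kit

variable {k : Type u} [Field k]

theorem main {G T U Gu Gs : Over (Spec (CommRingCat.of k))} [GrpObj G] [GrpObj T] [GrpObj U] [GrpObj Gu] [GrpObj Gs]
    [IsCommMonObj G] [Smooth G.hom] [QuasiCompact G.hom] [LocallyOfFiniteType T.hom] [QuasiCompact T.hom]
    [LocallyOfFiniteType U.hom] [QuasiCompact U.hom] [LocallyOfFiniteType Gu.hom] [LocallyOfFiniteType Gs.hom]
    (hT : SGA3x.IsMultTypeFT T) (hU : IsUnip U) (t : T ⟶ G) [IsMonHom t] (u : U ⟶ G) [IsMonHom u]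
    (qs : G ⟶ Gs) [IsMonHom qs] [Surjective qs.left] [Flat qs.left] (hs : AlgGrp.IsKernel u qs)
    (qu : G ⟶ Gu) [IsMonHom qu] [Surjective qu.left] [Flat qu.left] (hu : AlgGrp.IsKernel t qu)
    [IsIso Gs.hom.appTop] [IsIso Gu.hom.appTop] : IsIso G.hom.appTop := by
  obtain ⟨Q, _, ρ, M, _, j, _, hQa, hQft, hρs, hρf, _, hjcl, hk, hMa, hMft, hMqc, -, -⟩ := Hull.exists_hull G
  have hQs : Smooth Q.hom := AlgGrp.K411.HomKit.smooth_of_flat_surjective ρ
  have hQr : IsReduced Q.left := Books.AlgPtsSmooth.isReduced_of_smooth Q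
  have h1 : Surjective (t ≫ ρ).left := K399.Quot.surjective_of_antiAffine_quotient t qu hu ρ
  have h2 : Surjective (u ≫ ρ).left := K399.Quot.surjective_of_antiAffine_quotient u qs hs ρ
  have q1 : QuasiCompact (t ≫ ρ).left := quasiCompact_left _
  have q2 : QuasiCompact (u ≫ ρ).left := quasiCompact_left _
  have f1 : Flat (t ≫ ρ).left := AlgGrp.K411.HomKit.flat_of_surjective _
  have f2 : Flat (u ≫ ρ).left := AlgGrp.K411.HomKit.flat_of_surjective _
  have hQU : IsUnip Q := isUnip_of_surjective hU (u ≫ ρ)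
  have h3 : t ≫ ρ = 1 := hom_eq_one hT hQU (t ≫ ρ)
  have c1 : Cov (t ≫ ρ) := ⟨f1, h1, q1⟩
  have h4 : 𝟙 Q = 1 := c1.cancel (by rw [Category.comp_id, MonObj.comp_one, h3])
  have h5 : ρ = 1 := by rw [← Category.comp_id ρ, h4, MonObj.comp_one]
  have h6 : IsIso j := K399.Quot.isIso_of_kernel_of_eq_one j ρ hk h5
  have h7 : IsIso j.left := inferInstanceAs (IsIso ((Over.forget _).map j))
  exact K399.Quot.isIso_appTop_of_flat_surjective j

end K414.HullTriv
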