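import Groth.Agent.AlgGrp.K414.QCompl

/-!
# Commutative groups over a perfect field: `G_ant × T × U ⟶ G`
-/

set_option autoImplicit false
universe u
open CategoryTheory MonoidalCategory CartesianMonoidalCategory MonObj GrpObj AlgebraicGeometry Limits
open Groth.Agent Groth.Agent.Sga3.H739.Fpqc

namespace K414.IsogComm

variable {k : Type u} [Field k]

theorem rearr {α : Type*} [CommGroup α] (m A1 B1 A2 B2 : α) :
    m * A1 * B1 * A2 * B2 = (A2 * A1) * (B2 * B1) * m := by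
  have := _root_.mul_comm m (A1 * B1 * (A2 * B2))
  calc m * A1 * B1 * A2 * B2 = m * (A1 * B1 * (A2 * B2)) := by group
    _ = (A1 * B1 * (A2 * B2)) * m := this
    _ = (A2 * A1) * (B2 * B1) * m := by
      rw [mul_mul_mul_comm A1 B1 A2 B2, _root_.mul_comm A1 A2, _root_.mul_comm B1 B2]

theorem rearr2 {α : Type*} [CommGroup α] (a a' b b' c c' : α) :
    (a * a') * (b * b') * (c * c') = (a * b * c) * (a' * b' * c') := by
  rw [_root_.mul_mul_mul_comm a, _root_.mul_mul_mul_comm (a * b)]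

theorem lft_tensor (X Y : Over (Spec (CommRingCat.of k))) [LocallyOfFiniteType X.hom] [LocallyOfFiniteType Y.hom] :
    LocallyOfFiniteType (X ⊗ Y).hom :=
  inferInstanceAs (LocallyOfFiniteType (pullback.fst X.hom Y.hom ≫ X.hom))

theorem qc_tensor (X Y : Over (Spec (CommRingCat.of k))) [QuasiCompact X.hom] [QuasiCompact Y.hom] :
    QuasiCompact (X ⊗ Y).hom :=
  inferInstanceAs (QuasiCompact (pullback.fst X.hom Y.hom ≫ X.hom))

theorem affine_tensor (X Y : Over (Spec (CommRingCat.of k))) [IsAffine X.left] [IsAffine Y.left] :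
    IsAffine (X ⊗ Y).left := by
  have h1 : IsAffineHom X.hom := isAffineHom_of_isAffine _
  have h2 : IsAffineHom Y.hom := isAffineHom_of_isAffine _
  have h3 : IsAffineHom (X ⊗ Y).hom := inferInstanceAs (IsAffineHom (pullback.fst X.hom Y.hom ≫ X.hom))
  exact isAffine_of_isAffineHom (X ⊗ Y).hom

theorem tensor_mul {G X Y : Over (Spec (CommRingCat.of k))} [GrpObj G] (f : X ⟶ G) (g : Y ⟶ G) :
    (f ⊗ₘ g) ≫ μ[G] = (fst X Y ≫ f) * (snd X Y ≫ g) := by
  rw [Hom.mul_def]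
  congr 1

/-- The affine part of an anti-affine group over a perfect field. -/
theorem antiAff_data [PerfectField k] (M : Over (Spec (CommRingCat.of k)))
    [GrpObj M] [LocallyOfFiniteType M.hom] [QuasiCompact M.hom] [IsIso M.hom.appTop] :
    ∃ (N : Over (Spec (CommRingCat.of k))) (_ : GrpObj N) (i : N ⟶ M) (A : Over (Spec (CommRingCat.of k)))
      (_ : GrpObj A) (π : M ⟶ A), IsMonHom i ∧ IsClosedImmersion i.left ∧ IsAffine N.left ∧ Smooth N.hom ∧
      ConnectedSpace N.left ∧ IsMonHom π ∧ Flat π.left ∧ Surjective π.left ∧ AlgGrp.IsKernel i π ∧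
      IsProper A.hom ∧ (CharZero k ∨ SGA3x.IsMultTypeFT N) := by
  obtain ⟨p, hp⟩ := CharP.exists k
  rcases CharP.char_is_prime_or_zero k p with h | h
  · have : Fact p.Prime := ⟨h⟩
    obtain ⟨N, _, i, A, _, π, hi, hic, hN, hNs, hNc, hπ, hπf, hπs, hk, hAp, -, -⟩ := SemiAb.exists_torus p M
    have h1 : SGA3x.IsMultTypeFT N := K543.MultSub.isMultTypeFT_of_isTorus hN
    have h2 : IsAffineHom N.hom := Groth.Agent.Sga3.H829.MultConv.isAffineHom_of_isMultTypeFT h1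
    exact ⟨N, inferInstance, i, A, inferInstance, π, hi, hic, isAffine_of_isAffineHom N.hom, hNs, hNc, hπ, hπf, hπs,
      hk, hAp, Or.inr h1⟩
  · subst h
    have h0 : CharZero k := CharP.charP_to_charZero k
    have hbij := K398.AntiAff.bijective_of_isIso (G := M) inferInstance
    obtain ⟨hcon, hcomm⟩ := Groth.Agent.S3293.result k M hbij
    have hMs : Smooth M.hom := Groth.Agent.S3026.result k M hbij
    obtain ⟨N, _, i, A, _, π, hi, hic, hNa, hNs, hNcon, hNn, hπ, hπs, hπf, hK, hAp, hAs, hAc, -⟩ :=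
      Groth.Agent.S4141.result k M
    exact ⟨N, inferInstance, i, A, inferInstance, π, hi, hic, hNa, hNs, hNcon, hπ, hπf, hπs, hK, hAp, Or.inl h0⟩

theorem main [PerfectField k]
    (G : Over (Spec (CommRingCat.of k))) [GrpObj G] [Smooth G.hom] [QuasiCompact G.hom] [ConnectedSpace ↥G.left]
    [IsCommMonObj G]
    (M : Over (Spec (CommRingCat.of k))) [GrpObj M] [LocallyOfFiniteType M.hom] [QuasiCompact M.hom] (j : M ⟶ G)
    [IsMonHom j] [IsClosedImmersion j.left] [IsIso M.hom.appTop]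
    (hMmax : ∀ (M₁ : Over (Spec (CommRingCat.of k))) [GrpObj M₁] [LocallyOfFiniteType M₁.hom] [QuasiCompact M₁.hom]
      (j₁ : M₁ ⟶ G) [IsMonHom j₁] [IsClosedImmersion j₁.left],
      Function.Bijective ((Scheme.ΓSpecIso (CommRingCat.of k)).inv ≫ M₁.hom.appTop).hom → ∃ g : M₁ ⟶ M, g ≫ j = j₁) :
    ∃ (T : Over (Spec (CommRingCat.of k))) (_ : GrpObj T) (t : T ⟶ G) (U : Over (Spec (CommRingCat.of k)))
      (_ : GrpObj U) (u : U ⟶ G),
      IsMonHom t ∧ IsClosedImmersion t.left ∧ Red.IsTorus T ∧ IsMonHom u ∧ IsClosedImmersion u.left ∧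
      Smooth U.hom ∧ IsAffine U.left ∧ ConnectedSpace ↥U.left ∧ Red.HasNoSubtorus k U ∧
      Surjective ((((j ⊗ₘ t) ≫ μ[G]) ⊗ₘ u) ≫ μ[G]).left ∧ IsFinite ((((j ⊗ₘ t) ≫ μ[G]) ⊗ₘ u) ≫ μ[G]).left := by
  have mj : Mono j := Kit.mono_of_closed j
  have hMcomm : IsCommMonObj M := FinAnti.isCommMonObj_of_mono j
  obtain ⟨N, _, i, A, _, q, hi, hic, hNa, hNs, hNcon, hNn, hq, hqs, hqf, hK, hAp, hAs, hAc, -⟩ :=
    Groth.Agent.S4141.result k G
  have mi : Mono i := Kit.mono_of_closed i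
  have hNcomm : IsCommMonObj N := FinAnti.isCommMonObj_of_mono i
  obtain ⟨N', _, i', B, _, ρ, hi', hic', hNa', hNs', hNcon', hρ, hρf, hρs, hK', hBp, hch⟩ := antiAff_data M
  have mi' : Mono i' := Kit.mono_of_closed i'
  have hNcomm' : IsCommMonObj N' := FinAnti.isCommMonObj_of_mono i'
  have h1 : (i' ≫ j) ≫ q = 1 := Sga3.H821.AffProper.hom_eq_one k N' A _
  obtain ⟨f, hf⟩ := K395.Pts.exists_of_comp_eq_one hK (i' ≫ j) h1
  have hfm : IsMonHom f := QCompl.isMonHom_comp_of_mono (p := i) (by rw [hf]; infer_instance)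
  have hfc : IsClosedImmersion f.left := by
    have h2 : IsClosedImmersion (f.left ≫ i.left) := by
      rw [← Over.comp_left, hf, Over.comp_left]; infer_instance
    exact IsClosedImmersion.of_comp f.left i.left
  obtain ⟨T₂, _, t₂, U₂, _, u₂, a₂, b₂, ht₂, htc₂, hT₂, hTs₂, hTc₂, hu₂, huc₂, hU₂, hUs₂, hUc₂, ha₂, hb₂, hta₂, hub₂,
    htb₂, hua₂, hsum₂⟩ := QCompl.exists_decomp N
  obtain ⟨T₁, _, t₁, U₁, _, u₁, a₁, b₁, ht₁, htc₁, hT₁, hTs₁, hTc₁, hu₁, huc₁, hU₁, hUs₁, hUc₁, ha₁, hb₁, hta₁, hub₁,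
    htb₁, hua₁, hsum₁⟩ := QCompl.exists_decomp N'
  have mt₁ : Mono t₁ := Kit.mono_of_closed t₁
  have mu₁ : Mono u₁ := Kit.mono_of_closed u₁
  have mt₂ : Mono t₂ := Kit.mono_of_closed t₂
  have mu₂ : Mono u₂ := Kit.mono_of_closed u₂
  have cT₂ : IsCommMonObj T₂ := FinAnti.isCommMonObj_of_mono t₂
  have cU₂ : IsCommMonObj U₂ := FinAnti.isCommMonObj_of_mono u₂
  have cT₁ : IsCommMonObj T₁ := FinAnti.isCommMonObj_of_mono t₁
  have cU₁ : IsCommMonObj U₁ := FinAnti.isCommMonObj_of_mono u₁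
  have qN : QuasiCompact N.hom := Kit.quasiCompact_of_closed i
  have qN' : QuasiCompact N'.hom := Kit.quasiCompact_of_closed i'
  have qU₁ : QuasiCompact U₁.hom := Kit.quasiCompact_of_closed u₁
  have qU₂ : QuasiCompact U₂.hom := Kit.quasiCompact_of_closed u₂
  have qT₁ : QuasiCompact T₁.hom := Kit.quasiCompact_of_closed t₁
  have qT₂ : QuasiCompact T₂.hom := Kit.quasiCompact_of_closed t₂
  have htb : t₁ ≫ f ≫ b₂ = 1 := Unip.hom_eq_one hT₁ hU₂ _
  have hua : u₁ ≫ f ≫ a₂ = 1 := QCompl.hom_mult_eq_one hU₁ hT₂ _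
  have hfT : t₁ ≫ f = (t₁ ≫ f ≫ a₂) ≫ t₂ := by
    calc t₁ ≫ f = (t₁ ≫ f) ≫ ((a₂ ≫ t₂) * (b₂ ≫ u₂)) := by rw [hsum₂, Category.comp_id]
      _ = ((t₁ ≫ f ≫ a₂) ≫ t₂) * ((t₁ ≫ f ≫ b₂) ≫ u₂) := by rw [MonObj.comp_mul]; simp only [Category.assoc]
      _ = _ := by rw [htb, MonObj.one_comp, _root_.mul_one]
  have hfU : u₁ ≫ f = (u₁ ≫ f ≫ b₂) ≫ u₂ := by
    calc u₁ ≫ f = (u₁ ≫ f) ≫ ((a₂ ≫ t₂) * (b₂ ≫ u₂)) := by rw [hsum₂, Category.comp_id]
      _ = ((u₁ ≫ f ≫ a₂) ≫ t₂) * ((u₁ ≫ f ≫ b₂) ≫ u₂) := by rw [MonObj.comp_mul]; simp only [Category.assoc]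
      _ = _ := by rw [hua, MonObj.one_comp, _root_.one_mul]
  obtain ⟨fT, hfTe⟩ : ∃ x, x = t₁ ≫ f ≫ a₂ := ⟨_, rfl⟩
  obtain ⟨fU, hfUe⟩ : ∃ x, x = u₁ ≫ f ≫ b₂ := ⟨_, rfl⟩
  rw [← hfTe] at hfT
  rw [← hfUe] at hfU
  have hfTm : IsMonHom fT := by rw [hfTe]; infer_instance
  have hfUm : IsMonHom fU := by rw [hfUe]; infer_instance
  have hfTc : IsClosedImmersion fT.left := by
    have h2 : IsClosedImmersion (fT.left ≫ t₂.left) := by
      rw [← Over.comp_left, ← hfT, Over.comp_left]; infer_instance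
    exact IsClosedImmersion.of_comp fT.left t₂.left
  have hfUc : IsClosedImmersion fU.left := by
    have h2 : IsClosedImmersion (fU.left ≫ u₂.left) := by
      rw [← Over.comp_left, ← hfU, Over.comp_left]; infer_instance
    exact IsClosedImmersion.of_comp fU.left u₂.left
  have mfT : Mono fT := Kit.mono_of_closed fT
  obtain ⟨rT, n, hn, hrT, hfrT⟩ := TorRetr.exists_retr hT₁ hT₂ fT
  obtain ⟨rU, hrU, hfrU⟩ : ∃ rU : U₂ ⟶ U₁, IsMonHom rU ∧ fU ≫ rU = 𝟙 U₁ := by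
    rcases hch with h0 | h0
    · exact VecRetr.exists_retr hU₁ hU₂ fU
    · have h2 : u₁ = 1 := QCompl.hom_mult_eq_one hU₁ h0 u₁
      have h3 : 𝟙 U₁ = 1 := by rw [← cancel_mono u₁, Category.id_comp, MonObj.one_comp, h2]
      refine ⟨1, ?_, by rw [MonObj.comp_one, h3]⟩
      refine K395.Pts.isMonHom_of_pts _ fun X x y => ?_
      rw [MonObj.comp_one, MonObj.comp_one, MonObj.comp_one, _root_.mul_one]
  obtain ⟨T, _, aT, bT, haT, hbT, haTc, hbTc, hTs, hTc, hbrT, hsT⟩ := QCompl.exists_image_compl fT rT n hfrT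
  obtain ⟨U, _, aU, bU, haU, hbU, haUc, hbUc, hUs, hUc, hbrU, hsU⟩ := QCompl.exists_image_compl fU rU 1
    (by rw [hfrU, pow_one])
  have mbT : Mono bT := Kit.mono_of_closed bT
  have mbU : Mono bU := Kit.mono_of_closed bU
  have cT : IsCommMonObj T := FinAnti.isCommMonObj_of_mono bT
  have hTm : SGA3x.IsMultTypeFT T := K543.MultSub.isMultTypeFT_of_closed hT₂ bT
  have hTt : Red.IsTorus T := TorConn.isTorus hTm
  have aU₂ : IsAffine U₂.left := Kit.isAffine_of_closed u₂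
  have aUa : IsAffine U.left := Kit.isAffine_of_closed bU
  have haUf := haUc.flat
  have haUs := haUc.surj
  have hU : Unip.IsUnip U := Unip.isUnip_of_surjective hU₂ aU
  have htm : IsMonHom (bT ≫ t₂ ≫ i) := inferInstance
  have hum : IsMonHom (bU ≫ u₂ ≫ i) := inferInstance
  have htc : IsClosedImmersion (bT ≫ t₂ ≫ i).left := by rw [Over.comp_left, Over.comp_left]; infer_instance
  have huc : IsClosedImmersion (bU ≫ u₂ ≫ i).left := by rw [Over.comp_left, Over.comp_left]; infer_instance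
  refine ⟨T, inferInstance, bT ≫ t₂ ≫ i, U, inferInstance, bU ≫ u₂ ≫ i, htm, htc, hTt, hum, huc, hUs, aUa, hUc,
    QCompl.hasNoSubtorus_of_isUnip hU, ?_, ?_⟩
  · -- surjectivity
    let X := (T₂ ⊗ U₂) ⊗ M
    let τ : X ⟶ T₂ := fst _ _ ≫ fst _ _
    let υ : X ⟶ U₂ := fst _ _ ≫ snd _ _
    let m : X ⟶ M := snd _ _
    let Ψ : X ⟶ (M ⊗ T) ⊗ U :=
      lift (lift (m * (τ ≫ rT ≫ t₁ ≫ i') * (υ ≫ rU ≫ u₁ ≫ i')) (τ ≫ aT)) (υ ≫ aU)
    let Φ : X ⟶ G := ((((𝟙 T₂) ^ n ⊗ₘ 𝟙 U₂) ≫ (t₂ ⊗ₘ u₂) ≫ μ[N]) ⊗ₘ 𝟙 M) ≫ (i ⊗ₘ j) ≫ μ[G]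
    have hΨ : Ψ ≫ (((j ⊗ₘ (bT ≫ t₂ ≫ i)) ≫ μ[G]) ⊗ₘ (bU ≫ u₂ ≫ i)) ≫ μ[G] =
        ((m * (τ ≫ rT ≫ t₁ ≫ i') * (υ ≫ rU ≫ u₁ ≫ i')) ≫ j) * ((τ ≫ aT) ≫ bT ≫ t₂ ≫ i) *
          ((υ ≫ aU) ≫ bU ≫ u₂ ≫ i) := by
      simp only [Ψ, Hom.mul_def, lift_map_assoc, lift_map, Category.assoc]
    have hΦ : Φ = ((((τ ^ n) ≫ t₂) * (υ ≫ u₂)) ≫ i) * (m ≫ j) := by
      simp only [Φ, tensor_mul, MonObj.comp_mul, MonObj.mul_comp, tensorHom_fst_assoc, tensorHom_snd_assoc,
        Category.id_comp, Category.assoc, τ, υ, m]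
      have e0 : (fst (T₂ ⊗ U₂) M ≫ fst T₂ U₂) ^ n = fst (T₂ ⊗ U₂) M ≫ fst T₂ U₂ ≫ (𝟙 T₂) ^ n := by
        rw [MonObj.comp_pow, Category.comp_id, MonObj.comp_pow]
      rw [e0]
      simp only [Category.assoc]
    have hΦΨ : Φ = Ψ ≫ (((j ⊗ₘ (bT ≫ t₂ ≫ i)) ≫ μ[G]) ⊗ₘ (bU ≫ u₂ ≫ i)) ≫ μ[G] := by
      rw [hΦ, hΨ]
      have e1 : (τ ≫ rT ≫ t₁ ≫ i') ≫ j = (τ ≫ rT ≫ fT) ≫ t₂ ≫ i := by
        simp only [Category.assoc]
        rw [← hf, reassoc_of% hfT]
      have e2 : (υ ≫ rU ≫ u₁ ≫ i') ≫ j = (υ ≫ rU ≫ fU) ≫ u₂ ≫ i := by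
        simp only [Category.assoc]
        rw [← hf, reassoc_of% hfU]
      have e3 : ((τ ^ n) ≫ t₂) ≫ i = ((τ ≫ aT) ≫ bT ≫ t₂ ≫ i) * ((τ ≫ rT ≫ fT) ≫ t₂ ≫ i) := by
        have e4 : τ ^ n = τ ≫ ((aT ≫ bT) * (rT ≫ fT)) := by rw [hsT, MonObj.comp_pow, Category.comp_id]
        rw [e4, MonObj.comp_mul, MonObj.mul_comp, MonObj.mul_comp]
        simp only [Category.assoc]
      have e5 : (υ ≫ u₂) ≫ i = ((υ ≫ aU) ≫ bU ≫ u₂ ≫ i) * ((υ ≫ rU ≫ fU) ≫ u₂ ≫ i) := by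
        have e4 : υ = υ ≫ ((aU ≫ bU) * (rU ≫ fU)) := by rw [hsU, pow_one, Category.comp_id]
        conv_lhs => rw [e4]
        rw [MonObj.comp_mul, MonObj.mul_comp, MonObj.mul_comp]
        simp only [Category.assoc]
      rw [MonObj.mul_comp, e3, e5, MonObj.mul_comp, MonObj.mul_comp, e1, e2]
      exact (rearr _ _ _ _ _).symm
    have hs : Surjective Φ.left := by
      have s1 : Surjective ((𝟙 T₂ : T₂ ⟶ T₂) ^ n).left := TorPow.surjective_pow hT₂ hn
      have s2 : Surjective (𝟙 U₂ : U₂ ⟶ U₂).left := by rw [Over.id_left]; infer_instance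
      have s3 : Surjective (((𝟙 T₂ : T₂ ⟶ T₂) ^ n) ⊗ₘ (𝟙 U₂ : U₂ ⟶ U₂)).left :=
        AlgGrp.K411.IsogWord.surjective_tensor _ _
      have s4 : Surjective ((t₂ ⊗ₘ u₂) ≫ μ[N]).left := by
        have s5 : Surjective ((lift a₂ b₂).left ≫ ((t₂ ⊗ₘ u₂) ≫ μ[N]).left) := by
          rw [← Over.comp_left, lift_map_assoc, ← Hom.mul_def, hsum₂, Over.id_left]; infer_instance
        exact Surjective.of_comp (lift a₂ b₂).left _
      have s6 : Surjective ((((𝟙 T₂ : T₂ ⟶ T₂) ^ n) ⊗ₘ (𝟙 U₂ : U₂ ⟶ U₂)) ≫ (t₂ ⊗ₘ u₂) ≫ μ[N]).left := by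
        rw [Over.comp_left]; infer_instance
      have s7 : Surjective (𝟙 M : M ⟶ M).left := by rw [Over.id_left]; infer_instance
      have s8 := AlgGrp.K411.IsogWord.surjective_tensor
        ((((𝟙 T₂ : T₂ ⟶ T₂) ^ n) ⊗ₘ (𝟙 U₂ : U₂ ⟶ U₂)) ≫ (t₂ ⊗ₘ u₂) ≫ μ[N]) (𝟙 M)
      obtain ⟨M₀, _, j₀, hj₀, hjc₀, hMf₀, hMq₀, hM₀, hs₀⟩ := RosQ.exists_antiAffine_surjective q
      obtain ⟨g, hg⟩ := hMmax M₀ j₀ (K398.AntiAff.bijective_of_isIso (G := M₀) hM₀)
      have s9 : Surjective (j ≫ q).left := by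
        have : Surjective (g.left ≫ (j ≫ q).left) := by
          rw [← Over.comp_left, ← Category.assoc, hg]; exact hs₀
        exact Surjective.of_comp g.left _
      have s10 : Surjective ((i ⊗ₘ j) ≫ μ[G]).left := RosQ.surjective_mul i q hK j s9
      change Surjective (_ ≫ _ : X ⟶ G).left
      rw [Over.comp_left]
      infer_instance
    rw [hΦΨ, Over.comp_left] at hs
    exact Surjective.of_comp Ψ.left _
  · -- finiteness
    obtain ⟨F, hF⟩ : ∃ F, F = (((j ⊗ₘ (bT ≫ t₂ ≫ i)) ≫ μ[G]) ⊗ₘ (bU ≫ u₂ ≫ i)) ≫ μ[G] := ⟨_, rfl⟩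
    rw [← hF]
    have hF1 : ∀ {Y : Over (Spec (CommRingCat.of k))} (x : Y ⟶ (M ⊗ T) ⊗ U),
        x ≫ F = ((x ≫ fst _ _ ≫ fst _ _) ≫ j) * ((x ≫ fst _ _ ≫ snd _ _) ≫ bT ≫ t₂ ≫ i) *
          ((x ≫ snd _ _) ≫ bU ≫ u₂ ≫ i) := by
      intro Y x
      rw [hF, tensor_mul, tensor_mul]
      simp only [MonObj.comp_mul, Category.assoc]
    have hFm : IsMonHom F := by
      refine K395.Pts.isMonHom_of_pts _ fun Y x y => ?_
      have r1 : (x * y) ≫ fst (M ⊗ T) U = (x ≫ fst _ _) * (y ≫ fst _ _) := MonObj.mul_comp _ _ _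
      have r2 : (x * y) ≫ snd (M ⊗ T) U = (x ≫ snd _ _) * (y ≫ snd _ _) := MonObj.mul_comp _ _ _
      have r3 : ((x ≫ fst (M ⊗ T) U) * (y ≫ fst (M ⊗ T) U)) ≫ fst M T =
          (x ≫ fst _ _ ≫ fst _ _) * (y ≫ fst _ _ ≫ fst _ _) := by
        rw [MonObj.mul_comp, Category.assoc, Category.assoc]
      have r4 : ((x ≫ fst (M ⊗ T) U) * (y ≫ fst (M ⊗ T) U)) ≫ snd M T =
          (x ≫ fst _ _ ≫ snd _ _) * (y ≫ fst _ _ ≫ snd _ _) := by
        rw [MonObj.mul_comp, Category.assoc, Category.assoc]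
      rw [hF1, hF1, hF1, ← Category.assoc (x * y) _ (fst M T), ← Category.assoc (x * y) _ (snd M T), r1, r2, r3, r4,
        MonObj.mul_comp _ _ j, MonObj.mul_comp _ _ (bT ≫ t₂ ≫ i), MonObj.mul_comp _ _ (bU ≫ u₂ ≫ i)]
      exact rearr2 _ _ _ _ _ _
    have qT : QuasiCompact T.hom := Kit.quasiCompact_of_closed bT
    have qU : QuasiCompact U.hom := Kit.quasiCompact_of_closed bU
    have l1 := lft_tensor M T
    have l2 := lft_tensor (M ⊗ T) U
    have l3 := qc_tensor M T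
    have l4 := qc_tensor (M ⊗ T) U
    obtain ⟨K, _, κ, hκ, hκc, hκk, -⟩ := Kit.exists_ker F
    have mκ : Mono κ := Kit.mono_of_closed κ
    have hκF : κ ≫ F = 1 := SemiAb.comp_ker hκk
    obtain ⟨χ, hχ⟩ : ∃ χ, χ = κ ≫ fst (M ⊗ T) U ≫ fst M T ≫ ρ := ⟨_, rfl⟩
    have hχm : IsMonHom χ := by
      refine K395.Pts.isMonHom_of_pts _ fun Y x y => ?_
      rw [hχ]
      simp only [MonObj.mul_comp]
    obtain ⟨K', _, κ', hκ', hκc', hκk', -⟩ := Kit.exists_ker χ
    have mκ' : Mono κ' := Kit.mono_of_closed κ'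
    have hκχ : κ' ≫ χ = 1 := SemiAb.comp_ker hκk'
    have hKf : LocallyOfFiniteType K.hom := Kit.locallyOfFiniteType_of_closed κ
    have hKq : QuasiCompact K.hom := Kit.quasiCompact_of_closed κ
    have hKf' : LocallyOfFiniteType K'.hom := Kit.locallyOfFiniteType_of_closed κ'
    have hKq' : QuasiCompact K'.hom := Kit.quasiCompact_of_closed κ'
    -- coordinates on `K'`
    obtain ⟨y, hy⟩ : ∃ y, y = κ' ≫ κ := ⟨_, rfl⟩
    have hyF : y ≫ F = 1 := by rw [hy, Category.assoc, hκF, MonObj.comp_one]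
    obtain ⟨m, hm⟩ : ∃ m, m = y ≫ fst _ _ ≫ fst _ _ := ⟨_, rfl⟩
    obtain ⟨tt, htt⟩ : ∃ tt, tt = y ≫ fst _ _ ≫ snd _ _ := ⟨_, rfl⟩
    obtain ⟨uu, huu⟩ : ∃ uu, uu = y ≫ snd _ _ := ⟨_, rfl⟩
    have hmρ : m ≫ ρ = 1 := by
      rw [hm, hy, ← hκχ, hχ]
      simp only [Category.assoc]
    obtain ⟨m', hm'⟩ := K395.Pts.exists_of_comp_eq_one hK' m hmρ
    have hrel : (m' ≫ f) * (tt ≫ bT ≫ t₂) * (uu ≫ bU ≫ u₂) = 1 := by
      rw [← cancel_mono i, MonObj.mul_comp, MonObj.mul_comp, MonObj.one_comp, ← hyF, hF1, ← hm, ← htt, ← huu, ← hm']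
      simp only [Category.assoc, hf]
    obtain ⟨x, hx⟩ : ∃ x, x = m' ≫ a₁ := ⟨_, rfl⟩
    obtain ⟨z, hz⟩ : ∃ z, z = m' ≫ b₁ := ⟨_, rfl⟩
    have hm'' : m' = (x ≫ t₁) * (z ≫ u₁) := by
      rw [hx, hz, Category.assoc, Category.assoc, ← MonObj.comp_mul, hsum₁, Category.comp_id]
    have hm'f : m' ≫ f = (x ≫ fT ≫ t₂) * (z ≫ fU ≫ u₂) := by
      rw [hm'', MonObj.mul_comp, Category.assoc, Category.assoc, hfT, hfU]
    have c1 : (x ≫ fT) * (tt ≫ bT) = 1 := by
      have e1 := congrArg (fun w => w ≫ a₂) hrel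
      rw [MonObj.one_comp, MonObj.mul_comp, MonObj.mul_comp, hm'f, MonObj.mul_comp] at e1
      simp only [Category.assoc, hta₂, hua₂, MonObj.comp_one, Category.comp_id, _root_.mul_one] at e1
      exact e1
    have c2 : (z ≫ fU) * (uu ≫ bU) = 1 := by
      have e1 := congrArg (fun w => w ≫ b₂) hrel
      rw [MonObj.one_comp, MonObj.mul_comp, MonObj.mul_comp, hm'f, MonObj.mul_comp] at e1
      simp only [Category.assoc, htb₂, hub₂, MonObj.comp_one, Category.comp_id, _root_.mul_one,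
        _root_.one_mul] at e1
      exact e1
    have c3 : x ^ n = 1 := by
      have e1 := congrArg (fun w => w ≫ rT) c1
      rw [MonObj.one_comp, MonObj.mul_comp, Category.assoc, Category.assoc, hbrT, hfrT, MonObj.comp_one,
        _root_.mul_one, MonObj.comp_pow, Category.comp_id] at e1
      exact e1
    have c4 : z = 1 := by
      have e1 := congrArg (fun w => w ≫ rU) c2
      rw [MonObj.one_comp, MonObj.mul_comp, Category.assoc, Category.assoc, hbrU, hfrU, MonObj.comp_one,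
        _root_.mul_one, Category.comp_id] at e1
      exact e1
    have c5 : uu = 1 := by
      rw [c4, MonObj.one_comp, _root_.one_mul] at c2
      rw [← cancel_mono bU, c2, MonObj.one_comp]
    have mx : Mono x := by
      refine ⟨fun {Y} v w hvw => ?_⟩
      have d1 : v ≫ m' = w ≫ m' := by
        rw [hm'', c4, MonObj.one_comp, _root_.mul_one, ← Category.assoc, hvw, Category.assoc]
      have d2 : v ≫ tt = w ≫ tt := by
        rw [← cancel_mono bT, Category.assoc, Category.assoc, eq_inv_of_mul_eq_one_right c1, GrpObj.comp_inv,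
          GrpObj.comp_inv, ← Category.assoc, hvw, Category.assoc]
      have d3 : v ≫ y = w ≫ y := by
        apply CartesianMonoidalCategory.hom_ext
        · apply CartesianMonoidalCategory.hom_ext
          · have : y ≫ fst _ _ ≫ fst _ _ = m' ≫ i' := by rw [← hm, hm']
            simp only [Category.assoc, this]
            rw [← Category.assoc, d1, Category.assoc]
          · simp only [Category.assoc, ← htt]
            exact d2
        · simp only [Category.assoc, ← huu]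
          rw [c5, MonObj.comp_one, MonObj.comp_one]
      rw [hy, ← Category.assoc, ← Category.assoc, cancel_mono, cancel_mono] at d3
      exact d3
    have hK'fin : IsFinite K'.hom := TorPow.isFinite_of_pow hT₁ x hn c3
    -- `K` is proper
    have hBf : IsSeparated B.hom := inferInstance
    have hχq : QuasiCompact χ.left := by
      have : QuasiCompact (χ.left ≫ B.hom) := by rw [Over.w]; infer_instance
      exact QuasiCompact.of_comp χ.left B.hom
    have hχf : IsFinite χ.left := Sga7.H758.FieldHom.isFinite_of_isFinite_ker χ κ' hκk'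
    have hKp : IsProper K.hom := by rw [← Over.w χ]; infer_instance
    -- `K` is affine
    have aTa : IsAffine T.left := by
      have := Groth.Agent.Sga3.H829.MultConv.isAffineHom_of_isMultTypeFT hTm
      exact isAffine_of_isAffineHom T.hom
    have l5 := lft_tensor T U
    have l6 := affine_tensor T U
    obtain ⟨ω, hω⟩ : ∃ ω : K ⟶ T ⊗ U, ω = lift (κ ≫ fst _ _ ≫ snd _ _) (κ ≫ snd _ _) := ⟨_, rfl⟩
    have hωm : IsMonHom ω := by
      refine K395.Pts.isMonHom_of_pts _ fun Y x y => ?_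
      rw [hω]
      apply CartesianMonoidalCategory.hom_ext
      · simp only [Category.assoc, lift_fst, MonObj.mul_comp]
      · simp only [Category.assoc, lift_snd, MonObj.mul_comp]
    have mω : Mono ω := by
      refine ⟨fun {Y} v w hvw => ?_⟩
      have d1 : v ≫ κ ≫ fst _ _ ≫ snd _ _ = w ≫ κ ≫ fst _ _ ≫ snd _ _ := by
        have := congrArg (fun a => a ≫ fst _ _) hvw
        simpa only [hω, Category.assoc, lift_fst] using this
      have d2 : v ≫ κ ≫ snd _ _ = w ≫ κ ≫ snd _ _ := by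
        have := congrArg (fun a => a ≫ snd _ _) hvw
        simpa only [hω, Category.assoc, lift_snd] using this
      have d3 : v ≫ κ ≫ fst _ _ ≫ fst _ _ = w ≫ κ ≫ fst _ _ ≫ fst _ _ := by
        rw [← cancel_mono j]
        have e1 : (v ≫ κ) ≫ F = (w ≫ κ) ≫ F := by
          rw [Category.assoc, Category.assoc, hκF, MonObj.comp_one, MonObj.comp_one]
        rw [hF1, hF1] at e1
        simp only [Category.assoc] at e1 d1 d2 ⊢
        simp only [reassoc_of% d1, reassoc_of% d2] at e1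
        exact mul_right_cancel (mul_right_cancel e1)
      rw [← cancel_mono κ]
      apply CartesianMonoidalCategory.hom_ext
      · apply CartesianMonoidalCategory.hom_ext
        · simpa only [Category.assoc] using d3
        · simpa only [Category.assoc] using d1
      · simpa only [Category.assoc] using d2
    have hωc : IsClosedImmersion ω.left := Sga7.H783.GmSub.isClosedImmersion_of_mono ω
    have hKa : IsAffine K.left := Kit.isAffine_of_closed ω
    have hKah : IsAffineHom K.hom := isAffineHom_of_isAffine _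
    have hKfin : IsFinite K.hom := (IsFinite.iff_isProper_and_isAffineHom (f := K.hom)).2 ⟨hKp, hKah⟩
    have hGsep : IsSeparated G.hom := Books.AntiAffine.isSeparated_hom G
    have hFq : QuasiCompact F.left := by
      have : QuasiCompact (F.left ≫ G.hom) := by rw [Over.w]; infer_instance
      exact QuasiCompact.of_comp F.left G.hom
    exact Sga7.H758.FieldHom.isFinite_of_isFinite_ker F κ hκk

end K414.IsogComm
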