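import Groth.Agent.Books.BorelOrb2
import Groth.Agent.CharCyc.K716.Td

/-!
# Orbits over an algebraically closed field are locally closed; minimal orbits are closed
-/

set_option autoImplicit false
universe u
open CategoryTheory MonoidalCategory CartesianMonoidalCategory MonObj GrpObj AlgebraicGeometry
open Groth.Agent Groth.Agent.Books.BorelOrb Groth.Agent.Books.BorelOrb2 TopologicalSpace

namespace K414.OrbitLC

variable {k : Type u} [Field k] [IsAlgClosed k]

variable {G X : Over (Spec (CommRingCat.of k))} [GrpObj G] (a : AlgGrp.Action G X)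
  (y : 𝟙_ (Over (Spec (CommRingCat.of k))) ⟶ X)
  [LocallyOfFiniteType G.hom] [QuasiCompact G.hom] [LocallyOfFiniteType X.hom]

omit [IsAlgClosed k] [LocallyOfFiniteType X.hom] in
lemma quasiCompact_orbitMap : QuasiCompact (a.orbitMap y).left := by
  have hGcpt : CompactSpace G.left := QuasiCompact.compactSpace_of_compactSpace G.hom
  have hGnoeth : IsLocallyNoetherian G.left := LocallyOfFiniteType.isLocallyNoetherian G.hom
  have : IsNoetherian G.left := {}
  infer_instance

omit [LocallyOfFiniteType X.hom] in
lemma quasiCompact_p : QuasiCompact (p a y) := by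
  have hGcpt : CompactSpace G.left := QuasiCompact.compactSpace_of_compactSpace G.hom
  have hGnoeth : IsLocallyNoetherian G.left := LocallyOfFiniteType.isLocallyNoetherian G.hom
  have : IsNoetherian G.left := {}
  infer_instance

omit [QuasiCompact G.hom] [LocallyOfFiniteType X.hom] in
lemma locallyOfFiniteType_p : LocallyOfFiniteType (p a y) := by
  have : LocallyOfFiniteType (p a y ≫ inc a y ≫ X.hom) := by
    rw [← Category.assoc, p_inc, Over.w]
    infer_instance
  exact locallyOfFiniteType_of_comp _ (inc a y ≫ X.hom)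

omit [LocallyOfFiniteType X.hom] in
lemma isReduced_Y [IsReduced G.left] : IsReduced (Y a y) := by
  have := quasiCompact_p a y
  exact IsSchemeTheoreticallyDominant.isReduced (p a y)

omit [LocallyOfFiniteType X.hom] in
theorem flat_p [IsReduced G.left] : Flat (p a y) := by
  have h1 := quasiCompact_p a y
  have h2 := locallyOfFiniteType_p a y
  have h3 := isReduced_Y a y
  obtain ⟨U, hU1, hU2, -⟩ := Groth.Agent.S0414.result (p a y)
  have : Nonempty G.left := ⟨(η[G] : 𝟙_ _ ⟶ G).left (IsLocalRing.closedPoint k)⟩
  let W : G.left.Opens := p a y ⁻¹ᵁ U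
  have hW : (W : Set G.left).Nonempty := by
    obtain ⟨_, hz1, ⟨z, rfl⟩⟩ := (p a y).denseRange.inter_open_nonempty U U.isOpen (by
      have : Nonempty (Y a y) := ⟨p a y (Classical.arbitrary _)⟩
      exact hU1.nonempty)
    exact ⟨z, hz1⟩
  have hWf : Flat (W.ι ≫ p a y) := by
    have : (p a y ∣_ U) ≫ U.ι = W.ι ≫ p a y := morphismRestrict_ι _ _
    rw [← this]
    infer_instance
  refine IsZariskiLocalAtSource.of_iSup_eq_top
    (fun g : 𝟙_ (Over (Spec (CommRingCat.of k))) ⟶ G => (ltr g).left ⁻¹ᵁ W) ?_ ?_
  · rw [eq_top_iff]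
    intro x _
    obtain ⟨g, hg⟩ := exists_translate W hW x
    exact Opens.mem_iSup.2 ⟨g, hg⟩
  · intro g
    have e : ((ltr g).left ⁻¹ᵁ W).ι ≫ p a y =
        (((ltr g).left ∣_ W) ≫ (W.ι ≫ p a y)) ≫ psi a y g⁻¹ := by
      conv_lhs => rw [p_eq a y g]
      simp only [← Category.assoc]
      rw [morphismRestrict_ι]
    rw [e]
    have : IsIso (ltr g).left := by
      have : IsIso (ltr g) := (trIso (leftAct G) g).isIso_hom
      exact inferInstanceAs (IsIso ((Over.forget _).map (ltr g)))
    infer_instance

/-- The image of the orbit map is locally closed. -/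
theorem isLocallyClosed_range [IsReduced G.left] :
    IsLocallyClosed (Set.range (a.orbitMap y).left) := by
  have h1 := flat_p a y
  have h2 := locallyOfFiniteType_p a y
  have hYn : IsLocallyNoetherian (Y a y) := by
    have : LocallyOfFiniteType (inc a y ≫ X.hom) := inferInstance
    exact LocallyOfFiniteType.isLocallyNoetherian (inc a y ≫ X.hom)
  have h3 : LocallyOfFinitePresentation (p a y) := inferInstance
  have h4 : IsOpenMap (p a y) := Scheme.Hom.isOpenMap _
  have h5 : IsOpen (Set.range (p a y)) := h4.isOpen_range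
  have h6 : Set.range (a.orbitMap y).left = inc a y '' Set.range (p a y) := by
    rw [← Set.range_comp, ← p_inc a y]
    rfl
  rw [h6]
  have h7 : Topology.IsClosedEmbedding (inc a y) := (inc a y).isClosedEmbedding
  obtain ⟨V, hV, hV'⟩ := h7.isInducing.isOpen_iff.mp h5
  rw [← hV', Set.image_preimage_eq_inter_range]
  exact hV.isLocallyClosed.inter h7.isClosed_range.isLocallyClosed

omit [IsAlgClosed k] in
/-- A point in the closure of the image of a Noetherian scheme is a specialization of a point of
the image. -/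
theorem exists_specializes {T Z : Scheme.{u}} (f : T ⟶ Z) [IsNoetherian T] {z : Z}
    (hz : z ∈ closure (Set.range f)) : ∃ t : T, f t ⤳ z := by
  have hfin : (irreducibleComponents T).Finite := NoetherianSpace.finite_irreducibleComponents
  have hsub : Set.range f ⊆ ⋃ C ∈ irreducibleComponents T, closure (f '' C) := by
    rintro _ ⟨t, rfl⟩
    refine Set.mem_iUnion₂.mpr ⟨irreducibleComponent t,
      irreducibleComponent_mem_irreducibleComponents t,
      subset_closure ⟨t, mem_irreducibleComponent, rfl⟩⟩
  have hcl : IsClosed (⋃ C ∈ irreducibleComponents T, closure (f '' C)) :=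
    hfin.isClosed_biUnion fun _ _ => isClosed_closure
  obtain ⟨C, hC, hzC⟩ := Set.mem_iUnion₂.mp (closure_minimal hsub hcl hz)
  obtain ⟨t, ht⟩ := QuasiSober.sober hC.1 (isClosed_of_mem_irreducibleComponents C hC)
  refine ⟨t, ?_⟩
  rw [specializes_iff_mem_closure]
  have h1 : f '' C ⊆ closure {f t} := by
    rintro _ ⟨c, hc, rfl⟩
    have h2 : t ⤳ c := ht.specializes hc
    exact (h2.map f.continuous).mem_closure
  exact closure_minimal h1 isClosed_closure hzC

omit [IsAlgClosed k] in
/-- The transcendence degrees at points of the image are bounded, and the bound is attained. -/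
theorem exists_max {T Z : Scheme.{u}} (q : Z ⟶ Spec (CommRingCat.of k))
    [LocallyOfFiniteType q] (f : T ⟶ Z) [IsNoetherian T] [Nonempty T] :
    ∃ t₀ : T, ∀ t : T, K716.Td.td q (f t) ≤ K716.Td.td q (f t₀) := by
  have hfin : (irreducibleComponents T).Finite := NoetherianSpace.finite_irreducibleComponents
  have hbd : BddAbove (Set.range fun t : T => K716.Td.td q (f t)) := by
    have h1 : ∀ C ∈ irreducibleComponents T, ∃ n : ℕ, ∀ t ∈ C, K716.Td.td q (f t) ≤ n := by
      intro C hC
      obtain ⟨e, he⟩ := QuasiSober.sober hC.1 (isClosed_of_mem_irreducibleComponents C hC)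
      refine ⟨K716.Td.td q (f e), fun t ht => ?_⟩
      exact K716.Td.td_le_of_specializes q ((he.specializes ht).map f.continuous)
        (Subsingleton.elim _ _)
    choose! N hN using h1
    obtain ⟨M, hM⟩ := (hfin.image N).bddAbove
    refine ⟨M, ?_⟩
    rintro _ ⟨t, rfl⟩
    exact (hN _ (irreducibleComponent_mem_irreducibleComponents t) t mem_irreducibleComponent).trans
      (hM ⟨_, irreducibleComponent_mem_irreducibleComponents t, rfl⟩)
  obtain ⟨t₀, ht₀⟩ := Nat.sSup_mem (Set.range_nonempty _) hbd
  refine ⟨t₀, fun t => ?_⟩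
  refine le_trans (le_csSup hbd ⟨t, rfl⟩) (le_of_eq ht₀.symm)

omit [IsAlgClosed k] in
/-- The boundary of the image of a morphism with locally closed image has smaller dimension. -/
theorem dim_boundary_lt {T Z : Scheme.{u}} (q : Z ⟶ Spec (CommRingCat.of k))
    [LocallyOfFiniteType q] (f : T ⟶ Z) [IsNoetherian T] [Nonempty T]
    (hlc : IsLocallyClosed (Set.range f)) :
    topologicalKrullDim (closure (Set.range f) \ Set.range f : Set Z) <
      topologicalKrullDim (Set.range f : Set Z) := by
  obtain ⟨t₀, ht₀⟩ := exists_max q f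
  have h1 : ((K716.Td.td q (f t₀) : ℕ) : WithBot ℕ∞) ≤
      topologicalKrullDim (Set.range f : Set Z) := K716.Td.le_dim_sub q hlc ⟨t₀, rfl⟩
  refine lt_of_lt_of_le ?_ h1
  have hcl : IsClosed (closure (Set.range f) \ Set.range f : Set Z) :=
    isOpen_compl_iff.mp (isLocallyClosed_iff_isOpen_coborder.mp hlc)
  have h2 : ∀ z ∈ (closure (Set.range f) \ Set.range f : Set Z),
      K716.Td.td q z < K716.Td.td q (f t₀) := by
    rintro z ⟨hz1, hz2⟩
    obtain ⟨t, ht⟩ := exists_specializes f hz1
    refine lt_of_lt_of_le ?_ (ht₀ t)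
    refine K716.Td.td_lt_of_specializes q ht ?_ (Subsingleton.elim _ _)
    rintro rfl
    exact hz2 ⟨t, rfl⟩
  by_cases hB : ∃ z, z ∈ (closure (Set.range f) \ Set.range f : Set Z)
  · obtain ⟨z, hz⟩ := hB
    obtain ⟨n, hn⟩ : ∃ n, K716.Td.td q (f t₀) = n + 1 := by
      have := h2 z hz
      exact ⟨K716.Td.td q (f t₀) - 1, by omega⟩
    rw [hn]
    refine lt_of_le_of_lt ((K716.Td.dim_sub_le_iff q hcl.isLocallyClosed n).mpr ?_) ?_
    · intro z hz
      have := h2 z hz
      omega
    · exact_mod_cast Nat.lt_succ_self n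
  · push Not at hB
    rw [K716.Td.eq_bot_iff.mpr hB]
    exact WithBot.bot_lt_coe _

omit [LocallyOfFiniteType G.hom] [QuasiCompact G.hom] [LocallyOfFiniteType X.hom] in
theorem tr_mem_range (g : 𝟙_ (Over (Spec (CommRingCat.of k))) ⟶ G) {z : X.left}
    (hz : z ∈ Set.range (a.orbitMap y).left) : (tr a g).left z ∈ Set.range (a.orbitMap y).left := by
  obtain ⟨w, rfl⟩ := hz
  refine ⟨(ltr g).left w, ?_⟩
  have h := ltr_orbitMap a g y
  exact congrArg (fun f => f.left w) h

omit [LocallyOfFiniteType G.hom] [QuasiCompact G.hom] [LocallyOfFiniteType X.hom] in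
theorem tr_mem_boundary (g : 𝟙_ (Over (Spec (CommRingCat.of k))) ⟶ G) {z : X.left}
    (hz : z ∈ closure (Set.range (a.orbitMap y).left) \ Set.range (a.orbitMap y).left) :
    (tr a g).left z ∈ closure (Set.range (a.orbitMap y).left) \ Set.range (a.orbitMap y).left := by
  refine ⟨?_, fun h => hz.2 ?_⟩
  · have h1 : (tr a g).left '' closure (Set.range (a.orbitMap y).left) ⊆
        closure ((tr a g).left '' Set.range (a.orbitMap y).left) :=
      image_closure_subset_closure_image (tr a g).left.continuous
    refine closure_mono ?_ (h1 ⟨z, hz.1, rfl⟩)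
    rintro _ ⟨w, hw, rfl⟩
    exact tr_mem_range a y g hw
  · have h2 := tr_mem_range a y g⁻¹ h
    rwa [tr_inv_tr] at h2

/-- An orbit of minimal dimension is closed. -/
theorem isClosed_range_of_min [IsReduced G.left]
    (hmin : ∀ z : 𝟙_ (Over (Spec (CommRingCat.of k))) ⟶ X,
      topologicalKrullDim (Set.range (a.orbitMap y).left) ≤
        topologicalKrullDim (Set.range (a.orbitMap z).left)) :
    IsClosed (Set.range (a.orbitMap y).left) := by
  have hlc := isLocallyClosed_range a y
  have hGcpt : CompactSpace G.left := QuasiCompact.compactSpace_of_compactSpace G.hom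
  have hGnoeth : IsLocallyNoetherian G.left := LocallyOfFiniteType.isLocallyNoetherian G.hom
  have : IsNoetherian G.left := {}
  have : Nonempty G.left := ⟨(η[G] : 𝟙_ _ ⟶ G).left (IsLocalRing.closedPoint k)⟩
  have hJ : JacobsonSpace X.left := LocallyOfFiniteType.jacobsonSpace X.hom
  have hJG : JacobsonSpace G.left := LocallyOfFiniteType.jacobsonSpace G.hom
  by_contra hncl
  set B : Set X.left := closure (Set.range (a.orbitMap y).left) \ Set.range (a.orbitMap y).left
    with hB
  have hBcl : IsClosed B := isOpen_compl_iff.mp (isLocallyClosed_iff_isOpen_coborder.mp hlc)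
  have hBne : B.Nonempty := by
    rw [Set.nonempty_iff_ne_empty]
    intro h
    rw [hB, Set.sdiff_eq_empty] at h
    exact hncl (closure_subset_iff_isClosed.mp h)
  obtain ⟨z, hzB, hz⟩ := nonempty_inter_closedPoints hBne hBcl.isLocallyClosed
  obtain ⟨z', hz'⟩ := exists_section X z hz
  have hsub : Set.range (a.orbitMap z').left ⊆ B := by
    have h1 : (a.orbitMap z').left ⁻¹' B = Set.univ := by
      rw [Set.eq_univ_iff_forall]
      by_contra hcon
      push Not at hcon
      obtain ⟨w, hw⟩ := hcon
      have hop : IsOpen ((a.orbitMap z').left ⁻¹' B)ᶜ :=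
        (hBcl.preimage (a.orbitMap z').left.continuous).isOpen_compl
      obtain ⟨v, hv, hvc⟩ := nonempty_inter_closedPoints ⟨w, hw⟩ hop.isLocallyClosed
      obtain ⟨g, hg⟩ := exists_section G v hvc
      apply hv
      change (a.orbitMap z').left v ∈ B
      have h2 : g ≫ a.orbitMap z' = z' ≫ tr a g := by
        rw [comp_orbitMap, comp_tr, toUnit_unique (toUnit _) (𝟙 _), Category.id_comp,
          Category.id_comp]
      have h3 : (a.orbitMap z').left v = (tr a g).left z := by
        rw [← hg, ← hz']
        exact congrArg (fun f => f.left (IsLocalRing.closedPoint k)) h2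
      rw [h3]
      exact tr_mem_boundary a y g hzB
    rintro _ ⟨w, rfl⟩
    have : w ∈ (a.orbitMap z').left ⁻¹' B := by rw [h1]; trivial
    exact this
  have hlt := dim_boundary_lt X.hom (a.orbitMap y).left hlc
  have hle : topologicalKrullDim (Set.range (a.orbitMap z').left) ≤ topologicalKrullDim B :=
    (Topology.IsEmbedding.inclusion hsub).isInducing.topologicalKrullDim_le
  exact absurd (((hmin z').trans hle).trans_lt hlt) (lt_irrefl _)

end K414.OrbitLC
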