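import Groth.Agent.AlgGrp.K414.RosQ
import Groth.Agent.AlgGrp.K399.Quot

/-!
# A criterion for an anti-affine group to be proper

`M` anti-affine, `i : N ⟶ M` affine, closed, the kernel of a surjective homomorphism `π : M ⟶ A` to a proper group.
If some endomorphism `φ` of `M` kills `N` and `φ ≫ π` is surjective, then `M` is proper (`isProper_of_hom`).
-/

set_option autoImplicit false
universe u
open CategoryTheory Limits MonoidalCategory CartesianMonoidalCategory MonObj GrpObj AlgebraicGeometry
open Groth.Agent Groth.Agent.Sga3.H739.Fpqc Groth.Agent.Sga3B.KerGrp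

namespace K414.PropCore

variable {k : Type u} [Field k]

theorem isProper_of_hom {M N A : Over (Spec (CommRingCat.of k))} [GrpObj M] [GrpObj N] [GrpObj A]
    [LocallyOfFiniteType M.hom] [QuasiCompact M.hom] [IsIso M.hom.appTop] [IsAffine N.left] [IsProper A.hom]
    (i : N ⟶ M) [IsMonHom i] [IsClosedImmersion i.left] (π : M ⟶ A) [IsMonHom π] [Flat π.left]
    [Surjective π.left] (hK : AlgGrp.IsKernel i π) (φ : M ⟶ M) [IsMonHom φ] (h1 : i ≫ φ = 1)
    (h2 : Surjective (φ ≫ π).left) : IsProper M.hom := by
  have hcomm : IsCommMonObj M := (Groth.Agent.S3293.result k M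
    (K398.AntiAff.bijective_of_isIso inferInstance)).2
  have hMs : Smooth M.hom := Groth.Agent.S3026.result k M
    (K398.AntiAff.bijective_of_isIso inferInstance)
  have hπc : Cov π := K395.CovKit.cov_of π
  obtain ⟨s, hs, hπs⟩ := Kit.exists_desc i π hπc hK φ h1
  obtain ⟨B, _, p, b, hp, hb, hpb, hpc, hbc⟩ := Kit.exists_image s
  have hNB : AlgGrp.IsNormalHom b := K399.Quot.isNormalHom_of_comm b
  obtain ⟨Q, _, q, hq, hqf, hqs, hqk, hqc, hQs, hQf, hQq, hQsm⟩ := Kit.exists_quot b hNB
  have hQsm : Smooth Q.hom := hQsm hMs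
  have hQred : IsReduced Q.left := Etcore.SmoothRed.isReduced_of_smooth Q.hom
  have hB : IsProper B.hom := by
    have := hpc.surj
    have h4 : LocallyOfFiniteType B.hom := Kit.locallyOfFiniteType_of_closed b
    have h5 : IsSeparated B.hom := Books.AntiAffine.isSeparated_hom B
    exact Kit.isProper_target p
  have hQM : IsIso Q.hom.appTop := K399.Quot.isIso_appTop_of_flat_surjective q
  -- `N ⟶ M ⟶ Q` is surjective
  have hsπ : Surjective (s ≫ π).left := by
    have h3 : Surjective (π.left ≫ (s ≫ π).left) := by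
      rw [← Over.comp_left, ← Category.assoc, hπs]; exact h2
    exact Surjective.of_comp π.left _
  have hsurj : Surjective (b ≫ π).left := by
    have h3 : Surjective (p.left ≫ (b ≫ π).left) := by
      rw [← Over.comp_left, ← Category.assoc, hpb]; exact hsπ
    exact Surjective.of_comp p.left _
  have hmul := RosQ.surjective_mul i π hK b hsurj
  have hiq : Surjective (i ≫ q).left := by
    have h3 : ((i ⊗ₘ b) ≫ μ[M]) ≫ q = fst N B ≫ i ≫ q := by
      have h4 : (i ⊗ₘ b) ≫ μ[M] = (fst N B ≫ i) * (snd N B ≫ b) := by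
        rw [Hom.mul_def]; congr 1
      have h5 : snd N B ≫ b ≫ q = 1 := by
        rw [← Category.assoc]; exact K395.Pts.comp_eq_one hqk (snd N B)
      rw [h4, MonObj.mul_comp, Category.assoc, Category.assoc, h5, _root_.mul_one]
    have h5 : Surjective ((fst N B).left ≫ (i ≫ q).left) := by
      rw [← Over.comp_left, ← h3, Over.comp_left]; infer_instance
    exact Surjective.of_comp (fst N B).left _
  have hNf : LocallyOfFiniteType N.hom := Kit.locallyOfFiniteType_of_closed i
  have hQa : IsAffine Q.left := Kit.isAffine_of_surjective (i ≫ q)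
  -- hence `q` is trivial
  have hq1 : q = 1 := by
    rw [K398.AntiAff.eq_const η[M] q, IsMonHom.one_hom]
    exact (Hom.one_def).symm
  have hbi : IsIso b := K399.Quot.isIso_of_kernel_of_eq_one b q hqk hq1
  have hbi' : IsIso b.left := inferInstanceAs (IsIso ((Over.forget _).map b))
  have h6 : M.hom = inv b.left ≫ B.hom := by rw [IsIso.eq_inv_comp, Over.w]
  rw [h6]; infer_instance

end K414.PropCore
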