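import Groth.Agent.AlgGrp.K414.UnipTor
import Groth.Agent.PRed.K543.MultSub
import Groth.Agent.SGA3x.K18.MTDesc
import Groth.Agent.Agf.H614.FieldGlue
import Groth.Agent.S8099

/-!
# Smooth connected groups of multiplicative type over a perfect field are tori
-/

set_option autoImplicit false
universe u
open CategoryTheory MonoidalCategory CartesianMonoidalCategory MonObj GrpObj AlgebraicGeometry Limits
open Groth.Agent

namespace K414.TorConn

theorem isSolvableGrp_of_comm {S : Scheme.{u}} (C : Over S) [GrpObj C] [IsCommMonObj C] : Red.IsSolvableGrp C := by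
  refine ⟨1, fun X => ?_⟩
  rw [derivedSeries_one, commutator_def, Subgroup.commutator_eq_bot_iff_le_centralizer]
  intro x _ y _
  exact _root_.mul_comm _ _

variable {k : Type u} [Field k]

/-- A smooth connected affine group of multiplicative type which has no subtori is trivial. -/
theorem isIso_hom_of_noSub {U : Over (Spec (CommRingCat.of k))} [GrpObj U] [Smooth U.hom] [ConnectedSpace U.left]
    (hU : SGA3x.IsMultTypeFT U) (h : Red.HasNoSubtorus k U) : IsIso U.hom := by
  have h1 : IsAffineHom U.hom := Sga3.H829.MultConv.isAffineHom_of_isMultTypeFT hU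
  have h2 : IsAffine U.left := isAffine_of_isAffineHom U.hom
  have h3 : Unip.IsUnip U := UnipTor.isUnip_of_hasNoSubtorus U h
  have h4 : 𝟙 U = 1 := Unip.hom_eq_one hU h3 (𝟙 U)
  have h5 : 𝟙 U = toUnit U ≫ η[U] := by rw [h4, Hom.one_def]
  have h6 : IsIso (toUnit U) := ⟨η[U], h5.symm, toUnit_unique _ _⟩
  have h7 : IsIso (toUnit U).left := inferInstanceAs (IsIso ((Over.forget _).map (toUnit U)))
  have h8 : (toUnit U).left ≫ (𝟙_ (Over (Spec (CommRingCat.of k)))).hom = U.hom := Over.w _
  have h9 : IsIso (𝟙_ (Over (Spec (CommRingCat.of k)))).hom :=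
    inferInstanceAs (IsIso (𝟙 (Spec (CommRingCat.of k))))
  rw [← h8]
  infer_instance

theorem isTorus [PerfectField k] {C : Over (Spec (CommRingCat.of k))} [GrpObj C] [IsCommMonObj C] [Smooth C.hom]
    [ConnectedSpace C.left] (hC : SGA3x.IsMultTypeFT C) : Red.IsTorus C := by
  have h1 : IsAffineHom C.hom := Sga3.H829.MultConv.isAffineHom_of_isMultTypeFT hC
  have h2 : IsAffine C.left := isAffine_of_isAffineHom C.hom
  have hcl : IsClosedImmersion (𝟙 C : C ⟶ C).left := by rw [Over.id_left]; infer_instance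
  have hn : AlgGrp.IsNormalHom (𝟙 C : C ⟶ C) :=
    fun T g n => ⟨g * n * g⁻¹, by rw [Category.comp_id, Category.comp_id]⟩
  refine (S8099.result k C C (𝟙 C) hcl (isSolvableGrp_of_comm C) hn
    (fun R' _ r' _ _ _ _ _ _ => ⟨r', Category.comp_id _⟩)).mp ?_
  refine ⟨h1, inferInstance, fun s => ⟨?_, ?_, ?_, ?_⟩⟩
  · have : IsAffineHom (Red.geomFibre s C).hom :=
      inferInstanceAs (IsAffineHom (pullback.snd C.hom (Red.geomPt s)))
    exact isAffine_of_isAffineHom (Red.geomFibre s C).hom
  · exact inferInstanceAs (Smooth (pullback.snd C.hom (Red.geomPt s)))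
  · exact Agf.H614.FieldGlue.connectedSpace_bc C (Red.geomPt s)
  · intro U _ i _ hicl hUs hUc _ hns
    have h3 : SGA3x.IsMultTypeFT (Red.geomFibre s C) := K18.MTDesc.isMultTypeFT_bc (Red.geomPt s) hC
    exact isIso_hom_of_noSub (K543.MultSub.isMultTypeFT_of_closed h3 i) hns

end K414.TorConn
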