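import Groth.Agent.AlgGrp.K414.FinAnti
import Groth.Agent.AlgGrp.K414.TorConn
import Groth.Agent.AlgGrp.K411.HomKit

/-!
# Anti-affine groups in positive characteristic are semi-abelian

`exists_torus`: over a perfect field of characteristic `p > 0` an anti-affine group is an extension of an abelian
variety by a torus.
-/

set_option autoImplicit false
universe u
open CategoryTheory Limits MonoidalCategory CartesianMonoidalCategory MonObj GrpObj AlgebraicGeometry
open Groth.Agent Groth.Agent.Sga3.H739.Fpqc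

namespace K414.SemiAb

variable {k : Type u} [Field k]

theorem comp_ker {N G Q : Over (Spec (CommRingCat.of k))} [GrpObj Q] {i : N ⟶ G} {q : G ⟶ Q}
    (h : AlgGrp.IsKernel i q) : i ≫ q = 1 := by
  have := K395.Pts.comp_eq_one h (𝟙 N)
  rwa [Category.id_comp] at this

theorem exists_torus [PerfectField k] (p : ℕ) [hp : Fact p.Prime] [CharP k p] (M : Over (Spec (CommRingCat.of k)))
    [GrpObj M] [LocallyOfFiniteType M.hom] [QuasiCompact M.hom] [IsIso M.hom.appTop] :
    ∃ (N : Over (Spec (CommRingCat.of k))) (_ : GrpObj N) (i : N ⟶ M) (A : Over (Spec (CommRingCat.of k)))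
      (_ : GrpObj A) (π : M ⟶ A), IsMonHom i ∧ IsClosedImmersion i.left ∧ Red.IsTorus N ∧ Smooth N.hom ∧
      ConnectedSpace N.left ∧ IsMonHom π ∧ Flat π.left ∧ Surjective π.left ∧ AlgGrp.IsKernel i π ∧
      IsProper A.hom ∧ Smooth A.hom ∧ ConnectedSpace A.left := by
  have hbij := K398.AntiAff.bijective_of_isIso (G := M) inferInstance
  obtain ⟨hcon, hcomm⟩ := Groth.Agent.S3293.result k M hbij
  have hMs : Smooth M.hom := Groth.Agent.S3026.result k M hbij
  obtain ⟨N, _, i, A, _, π, hi, hic, hNa, hNs, hNcon, hNn, hπ, hπs, hπf, hK, hAp, hAs, hAc, -⟩ :=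
    Groth.Agent.S4141.result k M
  have mi : Mono i := Kit.mono_of_closed i
  have hNcomm : IsCommMonObj N := FinAnti.isCommMonObj_of_mono i
  have hNq : QuasiCompact N.hom := Kit.quasiCompact_of_closed i
  obtain ⟨C, _, c, U, _, r, hc, hcc, hC, hr, hrf, hrs, hrk, hU, hrc, hUf, hUq, hUa⟩ := FinAnti.exists_quot N
  have mc : Mono c := Kit.mono_of_closed c
  have hci : IsClosedImmersion (c ≫ i).left := by rw [Over.comp_left]; infer_instance
  obtain ⟨M₁, _, x, hx, hxf, hxs, hxk, hxc, hM₁s, hM₁f, hM₁q, hM₁sm⟩ :=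
    Kit.exists_quot (c ≫ i) (K399.Quot.isNormalHom_of_comm _)
  have hM₁sm : Smooth M₁.hom := hM₁sm hMs
  have hM₁iso : IsIso M₁.hom.appTop := K399.Quot.isIso_appTop_of_flat_surjective x
  have hM₁comm : IsCommMonObj M₁ := K399.Quot.isCommMonObj_of_quotient x
  obtain ⟨U₁, _, a, b, ha, hb, hab, hac, hbc⟩ := Kit.exists_image (i ≫ x)
  have mb : Mono b := Kit.mono_of_closed b
  have hca : c ≫ a = 1 := by
    rw [← cancel_mono b, Category.assoc, hab, MonObj.one_comp, ← Category.assoc, comp_ker hxk]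
  obtain ⟨ψ, hψ, hrψ⟩ := Kit.exists_desc c r hrc hrk a hca
  have hψc : Cov ψ := hrc.of_comp (by rw [hrψ]; exact hac)
  have hψf := hψc.flat
  have hψs := hψc.surj
  have haf := hac.flat
  have has := hac.surj
  have hU₁f : LocallyOfFiniteType U₁.hom := Kit.locallyOfFiniteType_of_closed b
  have hU₁q : QuasiCompact U₁.hom := Kit.quasiCompact_of_closed b
  have hU₁sep : IsSeparated U₁.hom := Books.AntiAffine.isSeparated_hom U₁
  have hU₁a : IsAffine U₁.left := Sga3.H821.AffProper.isAffine_of_flat_surjective k N U₁ a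
  have hU₁s : Smooth U₁.hom := AlgGrp.K411.HomKit.smooth_of_flat_surjective a
  have hU₁con : ConnectedSpace U₁.left := Kit.connectedSpace_of_surjective a
  have hU₁ : Unip.IsUnip U₁ := Unip.isUnip_of_surjective hU ψ
  obtain ⟨m, hm⟩ := FinAnti.exists_pow_eq_one p hU₁
  -- the quotient `A₁` of `M₁` by `U₁`
  obtain ⟨A₁, _, y, hy, hyf, hys, hyk, hyc, hA₁s, hA₁f, hA₁q, hA₁sm⟩ :=
    Kit.exists_quot b (K399.Quot.isNormalHom_of_comm _)
  have hA₁sm : Smooth A₁.hom := hA₁sm hM₁sm
  have hπc : Cov π := K395.CovKit.cov_of π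
  obtain ⟨ρ, hρ, hπρ⟩ := Kit.exists_desc i π hπc hK (x ≫ y) (by
    rw [← Category.assoc, ← hab, Category.assoc, comp_ker hyk, MonObj.comp_one])
  have hρs : Surjective ρ.left := by
    have h1 : Surjective (π.left ≫ ρ.left) := by
      rw [← Over.comp_left, hπρ, Over.comp_left]; infer_instance
    exact Surjective.of_comp π.left ρ.left
  have hA₁p : IsProper A₁.hom := Kit.isProper_target ρ
  have hA₁con : ConnectedSpace A₁.left := Kit.connectedSpace_of_surjective ρ
  have i3 : IsMonHom ((𝟙 M₁ : M₁ ⟶ M₁) ^ p ^ m) := FinAnti.isMonHom_pow _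
  have hM₁p : IsProper M₁.hom := by
    refine PropCore.isProper_of_hom b y hyk ((𝟙 M₁) ^ p ^ m) ?_ ?_
    · rw [MonObj.comp_pow, Category.comp_id, ← Category.id_comp b, ← MonObj.pow_comp, hm, MonObj.one_comp]
    · have h2 : ((𝟙 M₁ : M₁ ⟶ M₁) ^ p ^ m) ≫ y = y ≫ (𝟙 A₁) ^ p ^ m := by
        rw [MonObj.pow_comp, Category.id_comp, MonObj.comp_pow, Category.comp_id]
      have h3 : Surjective ((𝟙 A₁ : A₁ ⟶ A₁) ^ p ^ m).left :=
        FrobAV.surjective_pow A₁ (p ^ m) (pow_ne_zero _ hp.out.ne_zero)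
      rw [h2, Over.comp_left]
      infer_instance
  -- hence `U₁` is trivial
  have hU₁p : IsProper U₁.hom := Kit.isProper_of_closed b
  have h4 : 𝟙 U₁ = 1 := Sga3.H821.AffProper.hom_eq_one k U₁ U₁ (𝟙 U₁)
  have h5 : i ≫ x = 1 := by
    rw [← hab, ← Category.id_comp b, h4, MonObj.one_comp, MonObj.comp_one]
  obtain ⟨s, hs⟩ := K395.Pts.exists_of_comp_eq_one hxk i h5
  have h6 : s ≫ c = 𝟙 N := by
    rw [← cancel_mono i, Category.assoc, hs, Category.id_comp]
  have h7 : c ≫ s = 𝟙 C := by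
    rw [← cancel_mono c, Category.assoc, h6, Category.comp_id, Category.id_comp]
  let e : C ≅ N := ⟨c, s, h7, h6⟩
  have he : IsMonHom e.hom := hc
  have hN : SGA3x.IsMultTypeFT N := Sga3.H829.Central.isMultTypeFT_of_iso' e hC
  exact ⟨N, inferInstance, i, A, inferInstance, π, hi, hic, TorConn.isTorus hN, hNs, hNcon, hπ, hπf, hπs, hK, hAp,
    hAs, hAc⟩

end K414.SemiAb
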