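import Groth.Agent.AlgGrp.K414.TorRetr
import Groth.Agent.AlgGrp.K414.Kit
import Groth.Agent.Sga7.H758.FieldHom
import Groth.Agent.Sga7.H734.FinKer
import Mathlib.RingTheory.RootsOfUnity.Basic

/-!
# Powers on groups of multiplicative type over a field

* `isFinite_of_pow` : a scheme with a monomorphism to a group of multiplicative type killed by `n` is finite;
* `surjective_pow` : the `n`-th power is surjective on smooth connected groups of multiplicative type.
-/

set_option autoImplicit false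
universe u
open CategoryTheory MonoidalCategory CartesianMonoidalCategory MonObj GrpObj AlgebraicGeometry Limits
open Groth.Agent

namespace K414.TorPow

variable {k : Type u} [Field k]

open K965.Pts

theorem finite_hom {M : Type} [AddCommGroup M] [hM : AddGroup.FG M] {Ω : Type u} [Field Ω] {n : ℕ} (hn : 0 < n) :
    Finite {χ : M →+ Additive Ωˣ // ∀ m, n • χ m = 0} := by
  obtain ⟨S, hS⟩ := hM.out
  have : NeZero n := ⟨hn.ne'⟩
  have h1 : Finite (rootsOfUnity n Ω) := inferInstance
  have h2 : ∀ (χ : {χ : M →+ Additive Ωˣ // ∀ m, n • χ m = 0}) (m : M), (χ.1 m).toMul ∈ rootsOfUnity n Ω := by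
    intro χ m
    rw [mem_rootsOfUnity]
    exact congrArg Additive.toMul (χ.2 m)
  refine Finite.of_injective (β := S → rootsOfUnity n Ω) (fun χ s => ⟨(χ.1 s).toMul, h2 χ s⟩) ?_
  intro χ χ' h
  apply Subtype.ext
  refine AddMonoidHom.eq_of_eqOn_dense (s := (S : Set M)) hS fun m hm => ?_
  have h3 := congrFun h ⟨m, hm⟩
  exact congrArg (fun z : rootsOfUnity n Ω => Additive.ofMul (z : Ωˣ)) h3

theorem isFinite_of_pow {C X : Over (Spec (CommRingCat.of k))} [GrpObj C] [LocallyOfFiniteType C.hom]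
    (hC : SGA3x.IsMultTypeFT C) [LocallyOfFiniteType X.hom] [QuasiCompact X.hom] (ξ : X ⟶ C) [Mono ξ] {n : ℕ}
    (hn : 0 < n) (h : ξ ^ n = 1) : IsFinite X.hom := by
  obtain ⟨L, _, _, _, _, M, _, hM, ⟨e⟩⟩ := FinSplit.exists_finite_split hC
  let s : L →+* AlgebraicClosure L := algebraMap L (AlgebraicClosure L)
  let φ : k →+* AlgebraicClosure L := s.comp (algebraMap k L)
  refine Sga7.H734.FinKer.isFinite_of_points (Spec.map (CommRingCat.ofHom φ)) X.hom ?_
  have h1 := finite_hom (M := M) (Ω := AlgebraicClosure L) hn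
  have hpow : ∀ (m : ℕ) (x : sp φ ⟶ C) (z : M),
      K965.Pts.ch (algebraMap k L) e s rfl (x ^ m) z = m • K965.Pts.ch (algebraMap k L) e s rfl x z := by
    intro m x z
    induction m with
    | zero => rw [pow_zero, zero_smul, TorRetr.ch_one]; rfl
    | succ m ih => rw [pow_succ, K965.Pts.ch_mul, AddMonoidHom.add_apply, ih, succ_nsmul]
  let x : {p : Spec (CommRingCat.of (AlgebraicClosure L)) ⟶ X.left // p ≫ X.hom = Spec.map (CommRingCat.ofHom φ)} →
      (sp φ ⟶ X) := fun p => Over.homMk p.1 p.2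
  refine Finite.of_injective (β := {χ : M →+ Additive (AlgebraicClosure L)ˣ // ∀ m, n • χ m = 0})
    (fun p => ⟨K965.Pts.ch (algebraMap k L) e s rfl (x p ≫ ξ), fun m => ?_⟩) ?_
  · rw [← hpow, ← MonObj.comp_pow, h, MonObj.comp_one, TorRetr.ch_one]
    rfl
  · intro p q hpq
    have h2 := congrArg Subtype.val hpq
    have h3 := K965.Pts.ch_injective (algebraMap k L) e s rfl h2
    rw [cancel_mono] at h3
    apply Subtype.ext
    exact congrArg (fun z => z.left) h3

theorem surjective_pow {C : Over (Spec (CommRingCat.of k))} [GrpObj C] [IsCommMonObj C] [Smooth C.hom]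
    [ConnectedSpace C.left] (hC : SGA3x.IsMultTypeFT C) {n : ℕ} (hn : 0 < n) :
    Surjective ((𝟙 C : C ⟶ C) ^ n).left := by
  have h1 : IsAffineHom C.hom := Groth.Agent.Sga3.H829.MultConv.isAffineHom_of_isMultTypeFT hC
  have h2 : IsAffine C.left := isAffine_of_isAffineHom C.hom
  have i1 : IsMonHom ((𝟙 C : C ⟶ C) ^ n) := by
    refine K395.Pts.isMonHom_of_pts _ fun T x y => ?_
    simp only [MonObj.comp_pow, Category.comp_id]
    exact mul_pow x y n
  obtain ⟨K, _, κ, hκ, hκc, hκk, -⟩ := Kit.exists_ker ((𝟙 C : C ⟶ C) ^ n)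
  have h3 : Mono κ := Kit.mono_of_closed κ
  have h4 : κ ^ n = 1 := by
    have h5 := K395.Pts.comp_eq_one hκk (𝟙 K)
    rwa [Category.id_comp, MonObj.comp_pow, Category.comp_id] at h5
  have h5 : LocallyOfFiniteType K.hom := Kit.locallyOfFiniteType_of_closed κ
  have h6 : QuasiCompact K.hom := Kit.quasiCompact_of_closed κ
  have h7 : IsFinite K.hom := isFinite_of_pow hC κ hn h4
  have h8 : QuasiCompact ((𝟙 C : C ⟶ C) ^ n).left := inferInstance
  exact (Sga7.H758.FieldHom.surjective_flat_of_isFinite_ker ((𝟙 C : C ⟶ C) ^ n) κ hκk).2.1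

end K414.TorPow
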