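import Groth.Agent.AlgGrp.K414.Unip
import Groth.Agent.Books.CharZeroUnip3

/-!
# Retractions of commutative unipotent groups in characteristic zero
-/

set_option autoImplicit false
universe u
open CategoryTheory MonoidalCategory CartesianMonoidalCategory MonObj GrpObj AlgebraicGeometry Limits
open scoped TensorProduct
open Groth.Agent Groth.Agent.Books.AffBridge Groth.Agent.Books.AffBridge2 Groth.Agent.Sga3A.ComodUnip
  Groth.Agent.Sga3A.ComodBasic

namespace K414.VecRetr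

variable {k : Type u} [Field k]

open Groth.Agent.Books.CharZeroUnip2 in
/-- A surjection of commutative unipotent Hopf algebras in characteristic zero has a section. -/
theorem exists_bialg_sect [CharZero k] {A₁ A₂ : Type u} [CommRing A₁] [HopfAlgebra k A₁] [CommRing A₂]
    [HopfAlgebra k A₂] [Coalgebra.IsCocomm k A₂] [Algebra.FiniteType k A₂] (h₁ : ∀ a : A₁, ∃ n, a ∈ Books.ComodSocle.soc k A₁ A₁ n)
    (h₂ : ∀ a : A₂, ∃ n, a ∈ Books.ComodSocle.soc k A₂ A₂ n) (φ : A₂ →ₐc[k] A₁) (hφ : Function.Surjective φ) :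
    ∃ ψ : A₁ →ₐc[k] A₂, ∀ a, φ (ψ a) = a := by
  obtain ⟨n, x, -, hx, hprim⟩ := Books.CharZeroUnip3.exists_primitive_generators h₂
  obtain ⟨s, hs, hspan, hli⟩ := exists_linearIndependent k (Set.range (φ ∘ x))
  have hj : ∀ b : s, ∃ j, φ (x j) = b := fun b => hs b.2
  choose j hj using hj
  let w : s → A₁ := fun b => b
  let z : s → A₂ := fun b => x (j b)
  have hwz : ∀ b, φ (z b) = w b := hj
  have hwp : ∀ b, IsPrim k (w b) := by
    intro b
    rw [← hwz]
    have h1 := hprim (j b)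
    have h2 := CoalgHomClass.map_comp_comul_apply φ (x (j b))
    change CoalgebraStruct.comul (R := k) (φ (x (j b))) = φ (x (j b)) ⊗ₜ[k] 1 + 1 ⊗ₜ[k] φ (x (j b))
    rw [← h2, h1, map_add, TensorProduct.map_tmul, TensorProduct.map_tmul]
    simp
  have hwi : AlgebraicIndependent k w := Books.CharZeroUnip3.algebraicIndependent_of_isPrim h₁ w hwp hli
  have hwt : Algebra.adjoin k (Set.range w) = ⊤ := by
    have h1 : Algebra.adjoin k (Set.range (φ ∘ x)) = ⊤ := by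
      have h2 : Algebra.adjoin k (Set.range (φ ∘ x)) = (Algebra.adjoin k (Set.range x)).map (φ : A₂ →ₐ[k] A₁) := by
        rw [AlgHom.map_adjoin, Set.range_comp]
        rfl
      rw [h2, hx, Algebra.map_top, AlgHom.range_eq_top]
      exact hφ
    rw [eq_top_iff, ← h1]
    apply Algebra.adjoin_le
    have h3 : Set.range (φ ∘ x) ⊆ (Submodule.span k s : Set A₁) := by
      rw [hspan]
      exact Submodule.subset_span
    refine h3.trans ?_
    have h4 : Set.range w = s := Subtype.range_coe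
    rw [h4]
    exact Algebra.span_le_adjoin k s
  let e : MvPolynomial s k ≃ₐ[k] A₁ := AlgEquiv.ofBijective (MvPolynomial.aeval w) ⟨hwi, by
    rw [← AlgHom.range_eq_top, ← Algebra.adjoin_range_eq_range_aeval, hwt]⟩
  have he : ∀ b, e.symm (w b) = MvPolynomial.X b := by
    intro b
    rw [AlgEquiv.symm_apply_eq]
    exact (MvPolynomial.aeval_X w b).symm
  let ψ₀ : A₁ →ₐ[k] A₂ := (MvPolynomial.aeval z).comp (e.symm : A₁ →ₐ[k] MvPolynomial s k)
  have hψ₀ : ∀ b, ψ₀ (w b) = z b := by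
    intro b
    change MvPolynomial.aeval z (e.symm (w b)) = z b
    rw [he, MvPolynomial.aeval_X]
  let ψ : A₁ →ₐc[k] A₂ := BialgHom.ofAlgHom ψ₀
    (by
      refine AlgHom.ext_of_adjoin_eq_top hwt ?_
      rintro _ ⟨b, rfl⟩
      change Coalgebra.counit (R := k) (ψ₀ (w b)) = Coalgebra.counit (R := k) (w b)
      rw [hψ₀]
      exact (hprim (j b)).counit.trans (hwp b).counit.symm)
    (by
      refine AlgHom.ext_of_adjoin_eq_top hwt ?_
      rintro _ ⟨b, rfl⟩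
      change Algebra.TensorProduct.map ψ₀ ψ₀ (CoalgebraStruct.comul (R := k) (w b)) =
        CoalgebraStruct.comul (R := k) (ψ₀ (w b))
      rw [hψ₀, hwp b, hprim (j b), map_add, Algebra.TensorProduct.map_tmul, Algebra.TensorProduct.map_tmul, hψ₀,
        map_one])
  refine ⟨ψ, fun a => ?_⟩
  have h5 : (φ : A₂ →ₐ[k] A₁).comp ψ₀ = AlgHom.id k A₁ := by
    refine AlgHom.ext_of_adjoin_eq_top hwt ?_
    rintro _ ⟨b, rfl⟩
    change φ (ψ₀ (w b)) = w b
    rw [hψ₀, hwz]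
  exact congrArg (fun f : A₁ →ₐ[k] A₁ => f a) h5

theorem exists_retr [CharZero k] {U₁ U₂ : Over (Spec (CommRingCat.of k))} [GrpObj U₁] [GrpObj U₂]
    [IsCommMonObj U₂] [LocallyOfFiniteType U₂.hom] (h₁ : Unip.IsUnip U₁) (h₂ : Unip.IsUnip U₂) (i : U₁ ⟶ U₂)
    [IsMonHom i] [IsClosedImmersion i.left] : ∃ r : U₂ ⟶ U₁, IsMonHom r ∧ i ≫ r = 𝟙 U₁ := by
  obtain ⟨A₁, _, _, e₁, he₁, hA₁⟩ := h₁
  obtain ⟨A₂, _, _, e₂, he₂, hA₂⟩ := h₂
  have hft : Algebra.FiniteType k A₂ := Unip.finiteType_of_iso e₂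
  have hco : Coalgebra.IsCocomm k A₂ := by
    refine Groth.Agent.Sga3.H829.Largest.isCocomm_of_points fun X x y => ?_
    have h1 : (x ≫ e₂.inv) * (y ≫ e₂.inv) = (y ≫ e₂.inv) * (x ≫ e₂.inv) := _root_.mul_comm _ _
    rw [← MonObj.mul_comp, ← MonObj.mul_comp, cancel_mono] at h1
    exact h1
  have hA₁ := Books.ComodSocle.isUnipotent_iff.1 hA₁
  have hA₂ := Books.ComodSocle.isUnipotent_iff.1 hA₂
  have i1 : IsMonHom (e₁.inv ≫ i ≫ e₂.hom) := inferInstance
  obtain ⟨φ, hφ⟩ := exists_bialgHom_of_isMonHom k (e₁.inv ≫ i ≫ e₂.hom)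
  have j1 : IsIso e₁.inv.left := inferInstanceAs (IsIso ((Over.forget _).map e₁.inv))
  have j2 : IsIso e₂.hom.left := inferInstanceAs (IsIso ((Over.forget _).map e₂.hom))
  have h3 : Function.Surjective φ := by
    have h4 : IsClosedImmersion (specMap k (φ : A₂ →ₐ[k] A₁)).left := by
      rw [hφ, Over.comp_left, Over.comp_left]
      infer_instance
    exact (isClosedImmersion_specMap_iff k (φ : A₂ →ₐ[k] A₁)).1 h4
  obtain ⟨ψ, hψ⟩ := exists_bialg_sect hA₁ hA₂ φ h3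
  have i2 : IsMonHom (specMap k (ψ : A₁ →ₐ[k] A₂)) := isMonHom_specMap k ψ
  refine ⟨e₂.hom ≫ specMap k (ψ : A₁ →ₐ[k] A₂) ≫ e₁.inv, inferInstance, ?_⟩
  have h5 : specMap k (φ : A₂ →ₐ[k] A₁) ≫ specMap k (ψ : A₁ →ₐ[k] A₂) = 𝟙 _ := by
    rw [← specMap_comp]
    have h6 : (φ : A₂ →ₐ[k] A₁).comp (ψ : A₁ →ₐ[k] A₂) = AlgHom.id k A₁ := AlgHom.ext hψ
    rw [h6, specMap_id]
  have h7 : i ≫ e₂.hom = e₁.hom ≫ specMap k (φ : A₂ →ₐ[k] A₁) := by rw [hφ]; simp
  rw [reassoc_of% h7, reassoc_of% h5]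
  simp

end K414.VecRetr
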