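import Groth.Agent.AlgGrp.K414.Split
import Groth.Agent.AlgGrp.K414.SemiAb
import Groth.Agent.AlgGrp.K414.TorPow
import Groth.Agent.AlgGrp.K414.VecRetr
import Groth.Agent.Sga7.H783.GmSub
import Groth.Agent.AlgGrp.K411.IsogWord

/-!
# Quasi-complements in commutative smooth connected affine groups over a perfect field
-/

set_option autoImplicit false
universe u
open CategoryTheory MonoidalCategory CartesianMonoidalCategory MonObj GrpObj AlgebraicGeometry Limits
open Groth.Agent Groth.Agent.Sga3.H739.Fpqc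

namespace K414.QCompl

variable {k : Type u} [Field k]

theorem isMonHom_comp_of_mono {A B C : Over (Spec (CommRingCat.of k))} [GrpObj A] [GrpObj B] [GrpObj C] {u : A ⟶ B}
    {p : B ⟶ C} [IsMonHom p] [Mono p] (h : IsMonHom (u ≫ p)) : IsMonHom u := by
  refine K395.Pts.isMonHom_of_pts _ fun T x y => ?_
  rw [← cancel_mono p, Category.assoc, MonObj.mul_comp, MonObj.mul_comp, Category.assoc, Category.assoc]

theorem isMonHom_mul_inv {A B : Over (Spec (CommRingCat.of k))} [GrpObj A] [GrpObj B] [IsCommMonObj B] (f g : A ⟶ B)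
    [IsMonHom f] [IsMonHom g] : IsMonHom (f * g⁻¹) := by
  refine K395.Pts.isMonHom_of_pts _ fun T x y => ?_
  simp only [MonObj.comp_mul, GrpObj.comp_inv, MonObj.mul_comp, _root_.mul_inv]
  exact mul_mul_mul_comm _ _ _ _

theorem hasNoSubtorus_of_isUnip {U : Over (Spec (CommRingCat.of k))} [GrpObj U] (hU : Unip.IsUnip U) :
    Red.HasNoSubtorus k U := by
  intro T _ j _ _ hT
  have h1 : SGA3x.IsMultTypeFT T := K543.MultSub.isMultTypeFT_of_isTorus hT
  have h2 : j = 1 := Unip.hom_eq_one h1 hU j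
  have h3 : 𝟙 T = 1 := by rw [← cancel_mono j, Category.id_comp, MonObj.one_comp, h2]
  have h5 : 𝟙 T = toUnit T ≫ η[T] := by rw [h3, Hom.one_def]
  have h6 : IsIso (toUnit T) := ⟨η[T], h5.symm, toUnit_unique _ _⟩
  have h7 : IsIso (toUnit T).left := inferInstanceAs (IsIso ((Over.forget _).map (toUnit T)))
  have h8 : (toUnit T).left ≫ (𝟙_ (Over (Spec (CommRingCat.of k)))).hom = T.hom := Over.w _
  have h9 : IsIso (𝟙_ (Over (Spec (CommRingCat.of k)))).hom :=
    inferInstanceAs (IsIso (𝟙 (Spec (CommRingCat.of k))))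
  change IsIso T.hom
  rw [← h8]
  infer_instance

/-- Homomorphisms from a unipotent group to a group of multiplicative type (in a commutative smooth situation)
are trivial. -/
theorem hom_mult_eq_one {U M : Over (Spec (CommRingCat.of k))} [GrpObj U] [GrpObj M] [LocallyOfFiniteType U.hom]
    [QuasiCompact U.hom] [LocallyOfFiniteType M.hom] (hU : Unip.IsUnip U) (hM : SGA3x.IsMultTypeFT M) (f : U ⟶ M)
    [IsMonHom f] : f = 1 := by
  have h1 : IsAffineHom M.hom := Groth.Agent.Sga3.H829.MultConv.isAffineHom_of_isMultTypeFT hM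
  have h2 : IsAffine M.left := isAffine_of_isAffineHom M.hom
  obtain ⟨I, _, a, b, ha, hb, hab, hac, hbc⟩ := Kit.exists_image f
  have haf := hac.flat
  have has := hac.surj
  have hIa : IsAffine I.left := Kit.isAffine_of_closed b
  have h3 : Unip.IsUnip I := Unip.isUnip_of_surjective hU a
  have h4 : SGA3x.IsMultTypeFT I := K543.MultSub.isMultTypeFT_of_closed hM b
  have h5 : 𝟙 I = 1 := Unip.hom_eq_one h4 h3 (𝟙 I)
  rw [← hab, ← Category.id_comp b, h5, MonObj.one_comp, MonObj.comp_one]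

/-- Over a perfect field a commutative smooth connected affine group is the product of a torus and a unipotent group. -/
theorem exists_decomp [PerfectField k] (G : Over (Spec (CommRingCat.of k))) [GrpObj G] [IsCommMonObj G]
    [IsAffine G.left] [Smooth G.hom] [ConnectedSpace G.left] :
    ∃ (T : Over (Spec (CommRingCat.of k))) (_ : GrpObj T) (t : T ⟶ G) (U : Over (Spec (CommRingCat.of k))) (_ : GrpObj U)
      (u : U ⟶ G) (a : G ⟶ T) (b : G ⟶ U),
      IsMonHom t ∧ IsClosedImmersion t.left ∧ SGA3x.IsMultTypeFT T ∧ Smooth T.hom ∧ ConnectedSpace T.left ∧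
      IsMonHom u ∧ IsClosedImmersion u.left ∧ Unip.IsUnip U ∧ Smooth U.hom ∧ ConnectedSpace U.left ∧
      IsMonHom a ∧ IsMonHom b ∧ t ≫ a = 𝟙 T ∧ u ≫ b = 𝟙 U ∧ t ≫ b = 1 ∧ u ≫ a = 1 ∧
      (a ≫ t) * (b ≫ u) = 𝟙 G := by
  obtain ⟨C, _, c, U, _, π, σ, hc, hcc, hC, hπ, hπf, hπs, hπk, hU, hUs, hσ, hσπ⟩ := Split.exists_section G
  have mc : Mono c := Kit.mono_of_closed c
  have hUc : ConnectedSpace U.left := Kit.connectedSpace_of_surjective π
  have hcπ : c ≫ π = 1 := SemiAb.comp_ker hπk
  have hx : (𝟙 G * (π ≫ σ)⁻¹) ≫ π = 1 := by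
    rw [MonObj.mul_comp, GrpObj.inv_comp, Category.assoc, hσπ, Category.id_comp, Category.comp_id, mul_inv_cancel]
  have hxm : IsMonHom (𝟙 G * (π ≫ σ)⁻¹) := isMonHom_mul_inv _ _
  obtain ⟨a, ha⟩ := K395.Pts.exists_of_comp_eq_one hπk (𝟙 G * (π ≫ σ)⁻¹) hx
  have ham : IsMonHom a := isMonHom_comp_of_mono (p := c) (by rw [ha]; exact hxm)
  have hca : c ≫ a = 𝟙 C := by
    rw [← cancel_mono c, Category.assoc, ha, MonObj.comp_mul, GrpObj.comp_inv, ← Category.assoc, hcπ,
      MonObj.one_comp, inv_one, _root_.mul_one, Category.comp_id, Category.id_comp]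
  have hua : σ ≫ a = 1 := by
    rw [← cancel_mono c, Category.assoc, ha, MonObj.comp_mul, GrpObj.comp_inv, Category.comp_id, ← Category.assoc,
      hσπ, Category.id_comp, mul_inv_cancel, MonObj.one_comp]
  have hsum : (a ≫ c) * (π ≫ σ) = 𝟙 G := by rw [ha, inv_mul_cancel_right]
  have hσc : IsClosedImmersion σ.left := by
    have h1 : IsClosedImmersion (σ.left ≫ π.left) := by
      rw [← Over.comp_left, hσπ, Over.id_left]; infer_instance
    exact IsClosedImmersion.of_comp σ.left π.left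
  -- flatness of `a`
  have hiso : IsIso (lift a π) := by
    refine ⟨(c ⊗ₘ σ) ≫ μ[G], ?_, ?_⟩
    · rw [← Category.assoc, lift_map, ← Hom.mul_def, hsum]
    · have h1 : (c ⊗ₘ σ) ≫ μ[G] = (fst C U ≫ c) * (snd C U ≫ σ) := by
        rw [Hom.mul_def]
        congr 1
      rw [h1]
      ext
      · rw [Category.assoc, lift_fst, MonObj.mul_comp, Category.assoc, Category.assoc, hca, hua, MonObj.comp_one,
          _root_.mul_one, Category.comp_id, Category.id_comp]
      · rw [Category.assoc, lift_snd, MonObj.mul_comp, Category.assoc, Category.assoc, hcπ, hσπ, MonObj.comp_one,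
          _root_.one_mul, Category.comp_id, Category.id_comp]
  have haf : Flat a.left := by
    have h1 : a = lift a π ≫ fst C U := (lift_fst a π).symm
    have h2 : IsIso (lift a π).left := inferInstanceAs (IsIso ((Over.forget _).map (lift a π)))
    have h3 : Flat (fst C U).left := inferInstanceAs (Flat (pullback.fst C.hom U.hom))
    rw [h1, Over.comp_left]
    infer_instance
  have has : Surjective a.left := by
    have h1 : Surjective (c.left ≫ a.left) := by
      rw [← Over.comp_left, hca, Over.id_left]; infer_instance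
    exact Surjective.of_comp c.left a.left
  have hCf : LocallyOfFiniteType C.hom := Kit.locallyOfFiniteType_of_closed c
  have hCs : Smooth C.hom := AlgGrp.K411.HomKit.smooth_of_flat_surjective a
  have hCc : ConnectedSpace C.left := Kit.connectedSpace_of_surjective a
  exact ⟨C, inferInstance, c, U, inferInstance, σ, a, π, hc, hcc, hC, hCs, hCc, hσ, hσc, hU, hUs, hUc, ham, hπ, hca,
    hσπ, hcπ, hua, hsum⟩

/-- The image of `[n] - f r` for a quasi-retraction `r` of `f : M ⟶ G`. -/
theorem exists_image_compl {G M : Over (Spec (CommRingCat.of k))} [GrpObj G] [GrpObj M] [IsCommMonObj G]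
    [Smooth G.hom] [QuasiCompact G.hom] [ConnectedSpace G.left] (f : M ⟶ G) [IsMonHom f] (r : G ⟶ M) [IsMonHom r]
    (n : ℕ) (hfr : f ≫ r = (𝟙 M) ^ n) :
    ∃ (T : Over (Spec (CommRingCat.of k))) (_ : GrpObj T) (a : G ⟶ T) (b : T ⟶ G),
      IsMonHom a ∧ IsMonHom b ∧ Cov a ∧ IsClosedImmersion b.left ∧ Smooth T.hom ∧ ConnectedSpace T.left ∧
      b ≫ r = 1 ∧ (a ≫ b) * (r ≫ f) = (𝟙 G) ^ n := by
  have i1 : IsMonHom ((𝟙 G : G ⟶ G) ^ n) := FinAnti.isMonHom_pow _
  have i2 : IsMonHom ((𝟙 G : G ⟶ G) ^ n * (r ≫ f)⁻¹) := isMonHom_mul_inv _ _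
  obtain ⟨T, _, a, b, ha, hb, hab, hac, hbc⟩ := Kit.exists_image ((𝟙 G : G ⟶ G) ^ n * (r ≫ f)⁻¹)
  have haf := hac.flat
  have has := hac.surj
  have hTf : LocallyOfFiniteType T.hom := Kit.locallyOfFiniteType_of_closed b
  have hTs : Smooth T.hom := AlgGrp.K411.HomKit.smooth_of_flat_surjective a
  have hTc : ConnectedSpace T.left := Kit.connectedSpace_of_surjective a
  refine ⟨T, inferInstance, a, b, ha, hb, hac, hbc, hTs, hTc, ?_, ?_⟩
  · refine hac.cancel ?_
    rw [← Category.assoc, hab, MonObj.mul_comp, GrpObj.inv_comp, Category.assoc, hfr, MonObj.comp_pow,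
      Category.comp_id, MonObj.pow_comp, Category.id_comp, mul_inv_cancel, MonObj.comp_one]
  · rw [hab, inv_mul_cancel_right]

end K414.QCompl
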