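import Groth.Agent.AlgGrp.K414.Radical
import Groth.Agent.AlgGrp.K414.RedNorm
import Groth.Agent.AlgGrp.K414.Kit
import Groth.Agent.AlgGrp.K399.Quot
import Groth.Agent.AlgGrp.K411.HomKit
import Groth.Agent.AlgGrp.K411.IsogWord
import Groth.Agent.AlgGrp.K395.PreImg
import Groth.Agent.S8092
import Groth.Agent.S8076
import Groth.Agent.RedSub.H653.SolvRed
import Groth.Agent.Sga3B.AlgBc2

/-!
# The radical maps onto the radical under a surjective homomorphism (algebraically closed field)
-/

set_option autoImplicit false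
universe u
open CategoryTheory Limits MonoidalCategory CartesianMonoidalCategory MonObj GrpObj AlgebraicGeometry
open Groth.Agent Groth.Agent.Sga3.H739.Fpqc Groth.Agent.Sga3B.KerGrp Groth.Agent.AlgGrp.K411

namespace K414.RadSurj

variable {k : Type u} [Field k] [IsAlgClosed k]

/-- A solvable quotient of a semisimple group is trivial. -/
theorem isIso_hom_of_semisimple {X E : Over (Spec (CommRingCat.of k))} [GrpObj X] [GrpObj E]
    (hX : Red.IsSemisimple X) [Smooth E.hom] (hE : Red.IsSolvableGrp E) (f : X ⟶ E) [IsMonHom f]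
    [Surjective f.left] : IsIso E.hom := by
  have h1 : Red.IsSemisimple E := S8076.result k X hX E f
  have h2 : Red.IsSemisimpleOver k E := Sga3B.AlgBc.isSemisimple_iff.mp h1
  have h3 : Red.IsTorus E := RedSub.H653.SolvRed.isTorus_of_isSolvableGrp E h2.1 hE
  have h4 : IsClosedImmersion (𝟙 E : E ⟶ E).left := by rw [Over.id_left]; infer_instance
  exact h2.2 E (𝟙 E) h4 (fun T g n => ⟨g * n * g⁻¹, by rw [Category.comp_id, Category.comp_id]⟩) h3

theorem eq_of_isIso_hom {S : Scheme.{u}} {Q T : Over S} [IsIso Q.hom] (a b : T ⟶ Q) : a = b := by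
  ext1
  rw [← cancel_mono Q.hom, Over.w, Over.w]

/-- Preimage of a smooth connected normal subgroup. -/
theorem exists_preimage {G H V : Over (Spec (CommRingCat.of k))} [GrpObj G] [GrpObj H] [GrpObj V]
    [Smooth G.hom] (f : G ⟶ H) [IsMonHom f] [QuasiCompact f.left]
    [Surjective f.left] (v : V ⟶ H) [IsMonHom v] [IsClosedImmersion v.left] [Smooth V.hom]
    [ConnectedSpace V.left] (hv : AlgGrp.IsNormalHom v) :
    ∃ (N : Over (Spec (CommRingCat.of k))) (_ : GrpObj N) (n : N ⟶ G) (p : N ⟶ V),
      IsMonHom n ∧ IsMonHom p ∧ p ≫ v = n ≫ f ∧ IsClosedImmersion n.left ∧ Smooth N.hom ∧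
      ConnectedSpace N.left ∧ Surjective p.left ∧ AlgGrp.IsNormalHom n := by
  have hm : Mono v := Books.AlgPtsGrp.mono_of_isClosedImmersion v
  obtain ⟨_, _, _⟩ := PreimGrp.exists_grpObj f v
  have hcl : IsClosedImmersion (PreimGrp.preι f v).left :=
    inferInstanceAs (IsClosedImmersion (pullback.fst f.left v.left))
  have hlft : LocallyOfFiniteType (PreimGrp.preObj f v).hom :=
    inferInstanceAs (LocallyOfFiniteType (pullback.fst f.left v.left ≫ G.hom))
  have hs : Surjective (PreimGrp.preπ f v).left :=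
    inferInstanceAs (Surjective (pullback.snd f.left v.left))
  have hq : QuasiCompact (PreimGrp.preπ f v).left :=
    inferInstanceAs (QuasiCompact (pullback.snd f.left v.left))
  obtain ⟨N, _, n, _, hncl, hnsm, hncon, hsurj, hrange⟩ :=
    HomKit.exists_redIdComp_surjective (PreimGrp.preπ f v)
  have hnorm : AlgGrp.IsNormalHom (PreimGrp.preι f v) :=
    K395.PreImg.isNormalHom_of_isPullback (PreimGrp.isPullback f v) hv
  refine ⟨N, inferInstance, n ≫ PreimGrp.preι f v, n ≫ PreimGrp.preπ f v, inferInstance,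
    inferInstance, ?_, ?_, hnsm, hncon, hsurj, ?_⟩
  · rw [Category.assoc, Category.assoc, PreimGrp.condition]
  · rw [Over.comp_left]; infer_instance
  · exact RedNorm.isNormalHom_redIdComp (PreimGrp.preι f v) hnorm n hrange

/-- **The radical surjects onto the radical.** `R ⟶ G` contains every smooth connected solvable normal closed
subgroup scheme of `G`; `V ⟶ Q` is smooth, connected, solvable and normal; `f : G ⟶ Q` is surjective. Then `V` lies
in the image of `R`: some smooth connected solvable normal closed subgroup of `G` maps onto `V`. -/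
theorem exists_surjective {G Q V : Over (Spec (CommRingCat.of k))} [GrpObj G] [GrpObj Q] [GrpObj V]
    [Smooth G.hom] [IsAffine G.left] (f : G ⟶ Q) [IsMonHom f] [QuasiCompact f.left]
    [Surjective f.left] (v : V ⟶ Q) [IsMonHom v] [IsClosedImmersion v.left] [Smooth V.hom]
    [ConnectedSpace V.left] (hv : AlgGrp.IsNormalHom v) (hsol : Red.IsSolvableGrp V) :
    ∃ (R : Over (Spec (CommRingCat.of k))) (_ : GrpObj R) (r : R ⟶ G) (p : R ⟶ V),
      IsMonHom r ∧ IsMonHom p ∧ p ≫ v = r ≫ f ∧ IsClosedImmersion r.left ∧ Smooth R.hom ∧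
      ConnectedSpace R.left ∧ Surjective p.left ∧ AlgGrp.IsNormalHom r ∧ Red.IsSolvableGrp R := by
  obtain ⟨H, _, h, p, hh, hp, hpv, hhc, hHs, hHcon, hps, hhn⟩ := exists_preimage f v hv
  have hHa : IsAffine H.left := Kit.isAffine_of_closed h
  have hHq : QuasiCompact H.hom := Sga3.H821.AffProper.quasiCompact_of_affine k H
  have hpq : QuasiCompact p.left := Kit.quasiCompact_left p
  have hVred : IsReduced V.left := Books.AlgPtsSmooth.isReduced_of_smooth V
  have hVf : Flat p.left := HomKit.flat_of_surjective p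
  have hpc : Cov p := K395.CovKit.cov_of p
  have hpl : LocallyOfFinitePresentation p.left := by
    have : IsLocallyNoetherian V.left := LocallyOfFiniteType.isLocallyNoetherian V.hom
    have := Kit.locallyOfFiniteType_left p
    infer_instance
  have hVq : QuasiCompact V.hom := (Kit.target_props p).2.1
  obtain ⟨R, _, r, hr, hrc, hRs, hRcon, hRsol, hRn, hmax⟩ := Radical.exists_radical H
  have mr : Mono r := Kit.mono_of_closed r
  have mh : Mono h := Kit.mono_of_closed h
  have hRq : QuasiCompact R.hom := Kit.quasiCompact_of_closed r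
  -- `R` is normal in `G`
  have hRG : AlgGrp.IsNormalHom (r ≫ h) := by
    refine RedNorm.isNormalHom_comp h hhn r fun κ hκ hκi => ?_
    have hκl : IsIso κ.left := inferInstanceAs (IsIso ((Over.forget _).map κ))
    have hcl : IsClosedImmersion (r ≫ κ).left := by rw [Over.comp_left]; infer_instance
    refine hmax R (r ≫ κ) hcl hRs hRcon hRsol ?_
    intro T g n
    obtain ⟨n', hn'⟩ := hRn T (g ≫ inv κ) n
    refine ⟨n', ?_⟩
    have h1 := congrArg (fun x => x ≫ κ) hn'
    simp only [MonObj.mul_comp, GrpObj.inv_comp, Category.assoc, IsIso.inv_hom_id, Category.comp_id] at h1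
    exact h1
  -- the quotient of `H` by `R` is semisimple
  obtain ⟨X, _, x, hx, hxf, hxs, hxk, hxc, hXsep, hXf, hXq, hXsm⟩ := Kit.exists_quot r hRn
  have hXsm : Smooth X.hom := hXsm hHs
  have hXss : Red.IsSemisimple X := S8092.result k H R r hrc hRsol hRn (fun R' _ r' _ a b c d e =>
    hmax R' r' a b c d e) X x hxk
  -- the image of `R` in `V`
  obtain ⟨C, _, a, c, ha, hc, hac, haC, hcc⟩ := Kit.exists_image (r ≫ p)
  have mc : Mono c := Kit.mono_of_closed c
  have hcn : AlgGrp.IsNormalHom c :=
    Sga3.H739.ImageFl.isNormalHom_image r hRn p hpc a haC c hac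
  obtain ⟨E, _, ε, hε, hεf, hεs, hεk, hεc, hEsep, hEf, hEq, hEsm⟩ := Kit.exists_quot c hcn
  have hEsm : Smooth E.hom := hEsm inferInstance
  have hEsol : Red.IsSolvableGrp E := IsogWord.isSolvableGrp_of_surjective ε hsol
  have h1 : r ≫ p ≫ ε = 1 := by
    rw [← Category.assoc, ← hac, Category.assoc]
    have h2 : c ≫ ε = 1 := by
      have := K395.Pts.comp_eq_one hεk (𝟙 C)
      rwa [Category.id_comp] at this
    rw [h2, MonObj.comp_one]
  obtain ⟨ψ, hψ, hxψ⟩ := Kit.exists_desc r x hxc hxk (p ≫ ε) h1
  have hψs : Surjective ψ.left := by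
    have h2 : Surjective (x.left ≫ ψ.left) := by
      rw [← Over.comp_left, hxψ, Over.comp_left]; infer_instance
    exact Surjective.of_comp x.left ψ.left
  have hE : IsIso E.hom := isIso_hom_of_semisimple hXss hEsol ψ
  have hci : IsIso c := K399.Quot.isIso_of_kernel_of_eq_one c ε hεk (eq_of_isIso_hom _ _)
  have hcl : IsIso c.left := inferInstanceAs (IsIso ((Over.forget _).map c))
  refine ⟨R, inferInstance, r ≫ h, r ≫ p, inferInstance, inferInstance, ?_, ?_, hRs, hRcon, ?_, hRG, hRsol⟩
  · rw [Category.assoc, Category.assoc, hpv]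
  · rw [Over.comp_left]; infer_instance
  · have := haC.surj
    rw [← hac, Over.comp_left]
    infer_instance

end K414.RadSurj
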