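import Groth.Agent.AGF.K494.RadSch
import Groth.Agent.AGF.K494.RadRed

/-!
# Existence of the radical over a perfect field
-/

set_option autoImplicit false
universe u
open CategoryTheory MonoidalCategory CartesianMonoidalCategory MonObj GrpObj AlgebraicGeometry
open Groth.Agent.Books.AffBridge Groth.Agent.Books.AffBridge2
open TensorProduct
open Groth.Agent.Sga3B Groth.Agent.Sga3B.RG Groth.Agent.Sga3B.RG.BrPts
open Groth.Agent.Sga3B.Parab.BorelPts172
open Groth.Agent.Agf.H604.SemiDesc Groth.Agent.Agf.H604.BcSub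
open K494.BcDict K494.RadPt K494.RadSch

namespace K414.Radical

/-- A smooth affine group over a perfect field has a largest smooth connected solvable normal subgroup. -/
theorem exists_radical {k : Type u} [Field k] [PerfectField k] (G : Over (Spec (CommRingCat.of k))) [GrpObj G]
    [IsAffine G.left] [Smooth G.hom] :
    ∃ (R : Over (Spec (CommRingCat.of k))) (_ : GrpObj R) (r : R ⟶ G), IsMonHom r ∧ IsClosedImmersion r.left ∧
      Smooth R.hom ∧ ConnectedSpace R.left ∧ Red.IsSolvableGrp R ∧ AlgGrp.IsNormalHom r ∧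
      ∀ (R' : Over (Spec (CommRingCat.of k))) [GrpObj R'] (r' : R' ⟶ G) [IsMonHom r'], IsClosedImmersion r'.left →
        Smooth R'.hom → ConnectedSpace R'.left → Red.IsSolvableGrp R' → AlgGrp.IsNormalHom r' →
        ∃ f : R' ⟶ R, f ≫ r = r' := by
  obtain ⟨A, _, _, e, he, hft⟩ := K494.RadRed.exists_hopf_ft k G
  let K := AlgebraicClosure k
  have hred : _root_.IsReduced (K ⊗[k] A) := isReduced_tensor e
  obtain ⟨N, hN⟩ := exists_isRad K (K ⊗[k] A)
  obtain ⟨R, _, r, _, hcl, hsm, hpts⟩ := exists_sub e hN.ccs.isCl hN.gal_mem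
  have hconn : ConnectedSpace R.left :=
    K494.BcDict.connectedSpace_of_isConn e r hcl (by rw [hpts]; exact hN.ccs.isConn)
  refine ⟨R, inferInstance, r, inferInstance, hcl, hsm, hconn,
    (K494.BcDict.isSolvableGrp_iff e r hcl).2 (by rw [hpts]; exact hN.ccs.isSolvable),
    (K494.BcDict.isNormalHom_iff e r hcl).2 (by rw [hpts]; exact hN.normal), ?_⟩
  intro R' _ r' _ hcl' hsm' hconn' hsolv' hnorm'
  refine K494.BcDict.exists_factor (K := K) e r' r hcl ?_
  rw [hpts]
  exact hN.le _ ((K494.BcDict.isNormalHom_iff e r' hcl').1 hnorm') (K494.BcDict.isCCS_gmPts e r' hcl' hsolv')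

end K414.Radical
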