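import Mathlib.AlgebraicGeometry.Group.Smooth
import Mathlib.CategoryTheory.Monoidal.Cartesian.Over
import Mathlib.CategoryTheory.Monoidal.Cartesian.Grp

/-!
# A group scheme over a field which is smooth on a non-empty open is smooth
-/

set_option autoImplicit false

open CategoryTheory Limits MonoidalCategory CartesianMonoidalCategory MonObj AlgebraicGeometry

universe u

namespace K414.SmoothHom

variable {K : Type u} [Field K] {G : Scheme.{u}} (f : G ⟶ Spec (.of K))
    [LocallyOfFiniteType f] [GrpObj (Over.mk f)]

set_option backward.defeqAttrib.useBackward true in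
set_option backward.isDefEq.respectTransparency false in
/-- Over an algebraically closed field, a group scheme whose smooth locus is non-empty is smooth. -/
theorem smooth_of_nonempty_isAlgClosed [IsAlgClosed K]
    (hne : (f.smoothLocus : Set G).Nonempty) : Smooth f := by
  have := LocallyOfFiniteType.jacobsonSpace f
  rw [← Scheme.Hom.smoothLocus_eq_top_iff, ← TopologicalSpace.Opens.coe_eq_univ,
    ← not_ne_iff, ← Set.nonempty_compl]
  intro H
  obtain ⟨x, hx, hxc⟩ :=
    nonempty_inter_closedPoints H f.smoothLocus.2.isClosed_compl.isLocallyClosed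
  obtain ⟨y, hy : y ∈ f.smoothLocus, hyc⟩ := nonempty_inter_closedPoints
    hne f.smoothLocus.2.isLocallyClosed
  let x' : 𝟙_ _ ⟶ Over.mk f := Over.homMk _ ((pointEquivClosedPoint f).symm ⟨x, hxc⟩).2
  let y' : 𝟙_ _ ⟶ Over.mk f := Over.homMk _ ((pointEquivClosedPoint f).symm ⟨y, hyc⟩).2
  let α := (GrpObj.mulRight (A := Over.mk f) x').symm ≪≫
    (GrpObj.mulRight (A := Over.mk f) y')
  have hα : x' ≫ α.hom = y' := by
    dsimp only [Iso.trans_hom, Iso.symm_hom, α]
    rw [← Category.assoc, ← Iso.eq_comp_inv]
    simp [comp_lift_assoc]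
  have hα' : α.hom.left x = y := by
    simpa [x', y', pointEquivClosedPoint] using congr(($hα).left (IsLocalRing.closedPoint K))
  rw! [← hα', ← α.hom.left.mem_preimage, Scheme.Hom.preimage_smoothLocus_eq,
    show α.hom.left ≫ f = f from α.hom.w] at hy
  exact hx hy

/-- A group scheme locally of finite type over a field which is smooth on a non-empty open
subscheme is smooth. -/
theorem smooth_of_nonempty_open (U : G.Opens) (hU : (U : Set G).Nonempty) [Smooth (U.ι ≫ f)] :
    Smooth f := by
  let Ω : Type u := AlgebraicClosure K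
  let g : Spec (.of Ω) ⟶ Spec (.of K) := Spec.map (CommRingCat.ofHom <| algebraMap K Ω)
  apply MorphismProperty.of_pullback_snd_of_descendsAlong
    (Q := @Surjective ⊓ @Flat ⊓ @QuasiCompact) (g := g)
  · exact ⟨⟨inferInstance, inferInstance⟩, inferInstance⟩
  · let : GrpObj (Over.mk (Limits.pullback.snd f g)) := Over.grpObjMkPullbackSnd
    apply smooth_of_nonempty_isAlgClosed
    obtain ⟨x, hx⟩ := hU
    have : Surjective (pullback.fst f g) := inferInstance
    obtain ⟨y, hy⟩ := (pullback.fst f g).surjective x
    refine ⟨y, ?_⟩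
    let V : (pullback f g).Opens := pullback.fst f g ⁻¹ᵁ U
    have hyV : y ∈ V := by
      change (pullback.fst f g) y ∈ U
      rw [hy]
      exact hx
    have h1 : IsPullback V.ι (pullback.fst f g ∣_ U) (pullback.fst f g) U.ι :=
      (isPullback_morphismRestrict (pullback.fst f g) U).flip
    have h2 : IsPullback (V.ι ≫ pullback.snd f g) (pullback.fst f g ∣_ U) g (U.ι ≫ f) :=
      h1.paste_horiz (IsPullback.of_hasPullback f g).flip
    have h3 : Smooth (V.ι ≫ pullback.snd f g) :=
      MorphismProperty.of_isPullback (P := @Smooth) h2.flip inferInstance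
    have h4 := Scheme.Hom.preimage_smoothLocus_eq V.ι (pullback.snd f g)
    rw [Scheme.Hom.smoothLocus_eq_top (V.ι ≫ pullback.snd f g)] at h4
    have h5 : (⟨y, hyV⟩ : V) ∈ V.ι ⁻¹ᵁ (pullback.snd f g).smoothLocus := by
      rw [h4]; trivial
    exact h5

end K414.SmoothHom
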