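import Groth.Agent.AlgGrp.K414.FinAnti
import Groth.Agent.AlgGrp.K414.TorConn
import Groth.Agent.AlgGrp.K411.HomKit
import Groth.Agent.S4129
import Groth.Agent.MultTori.K965.GalCov

/-!
# Commutative smooth connected affine groups over a perfect field are products of a torus and a unipotent group
-/

set_option autoImplicit false
universe u
open CategoryTheory MonoidalCategory CartesianMonoidalCategory MonObj GrpObj AlgebraicGeometry Limits
open scoped TensorProduct
open Groth.Agent Groth.Agent.Books.AffBridge Groth.Agent.Books.AffBridge2 Groth.Agent.Sga3A.ComodUnip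
  Groth.Agent.Sga3A.ComodBasic Groth.Agent.Sga3.H739.Fpqc

namespace K414.Split

variable {k : Type u} [Field k]

theorem finiteType_of_quot {C G U : Over (Spec (CommRingCat.of k))} [GrpObj C] [GrpObj G] [GrpObj U]
    [IsAffine G.left] [LocallyOfFiniteType G.hom] [IsCommMonObj G] (c : C ⟶ G) [IsMonHom c]
    [IsClosedImmersion c.left] (r : G ⟶ U) [IsMonHom r] [Flat r.left] [Surjective r.left] [QuasiCompact r.left]
    (hrk : AlgGrp.IsKernel c r) : LocallyOfFiniteType U.hom ∧ QuasiCompact U.hom := by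
  have hGq : QuasiCompact G.hom := Sga3.H821.AffProper.quasiCompact_of_affine k G
  obtain ⟨Q, _, q, hq, hqf, hqs, hqk, hqc, hQs, hQf, hQq, -⟩ :=
    Kit.exists_quot c (K399.Quot.isNormalHom_of_comm c)
  have hrc : Cov r := ⟨inferInstance, inferInstance, inferInstance⟩
  have hcr : c ≫ r = 1 := by
    have := K395.Pts.comp_eq_one hrk (𝟙 C)
    rwa [Category.id_comp] at this
  have hcq : c ≫ q = 1 := by
    have := K395.Pts.comp_eq_one hqk (𝟙 C)
    rwa [Category.id_comp] at this
  obtain ⟨a, ha, hqa⟩ := Kit.exists_desc c q hqc hqk r hcr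
  obtain ⟨b, hb, hrb⟩ := Kit.exists_desc c r hrc hrk q hcq
  have hab : a ≫ b = 𝟙 Q := hqc.cancel (by rw [← Category.assoc, hqa, hrb, Category.comp_id])
  have hba : b ≫ a = 𝟙 U := hrc.cancel (by rw [← Category.assoc, hrb, hqa, Category.comp_id])
  have hb' : IsIso b := ⟨a, hba, hab⟩
  have hbi : IsIso b.left := inferInstanceAs (IsIso ((Over.forget _).map b))
  refine ⟨?_, ?_⟩
  · rw [← Over.w b]; infer_instance
  · rw [← Over.w b]; infer_instance

/-- Over a perfect field a commutative smooth connected affine group has a unipotent quotient by a group of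
multiplicative type, and the quotient has a section. -/
theorem exists_section [PerfectField k] (G : Over (Spec (CommRingCat.of k))) [GrpObj G] [IsCommMonObj G]
    [IsAffine G.left] [Smooth G.hom] [ConnectedSpace G.left] :
    ∃ (C : Over (Spec (CommRingCat.of k))) (_ : GrpObj C) (c : C ⟶ G) (U : Over (Spec (CommRingCat.of k))) (_ : GrpObj U)
      (π : G ⟶ U) (σ : U ⟶ G), IsMonHom c ∧ IsClosedImmersion c.left ∧ SGA3x.IsMultTypeFT C ∧ IsMonHom π ∧
      Flat π.left ∧ Surjective π.left ∧ AlgGrp.IsKernel c π ∧ Unip.IsUnip U ∧ Smooth U.hom ∧ IsMonHom σ ∧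
      σ ≫ π = 𝟙 U := by
  obtain ⟨A, _, _, e, he⟩ := exists_hopf k G
  have hft : Algebra.FiniteType k A := Unip.finiteType_of_iso e
  have hco : Coalgebra.IsCocomm k A := by
    refine Groth.Agent.Sga3.H829.Largest.isCocomm_of_points fun X x y => ?_
    have h1 : (x ≫ e.inv) * (y ≫ e.inv) = (y ≫ e.inv) * (x ≫ e.inv) := _root_.mul_comm _ _
    rw [← MonObj.mul_comp, ← MonObj.mul_comp, cancel_mono] at h1
    exact h1
  obtain ⟨J, hJ, hMT, -, B, _, _, φ, hinj, hJB, hB⟩ := S4130.result k A
  have hJ' : J.IsHopfIdeal k := hJ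
  let mkH : A →ₐc[k] A ⧸ J := Bialgebra.Quotient.mkBialgHom (R := k) J
  have hq : Function.Surjective mkH := Ideal.Quotient.mk_surjective
  have i1 : IsMonHom (specMap k (mkH : A →ₐ[k] A ⧸ J)) := isMonHom_specMap k mkH
  have i2 : IsClosedImmersion (specMap k (mkH : A →ₐ[k] A ⧸ J)).left :=
    (isClosedImmersion_specMap_iff k _).2 hq
  have hff : (φ : B →+* A).FaithfullyFlat := MiscA.HopfFlat.faithfullyFlat φ hinj
  have i3 : IsMonHom (specMap k (φ : B →ₐ[k] A)) := isMonHom_specMap k φ
  obtain ⟨i4, i5⟩ : Flat (specMap k (φ : B →ₐ[k] A)).left ∧ Surjective (specMap k (φ : B →ₐ[k] A)).left :=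
    (flat_and_surjective_specMap_iff k (φ : B →ₐ[k] A)).2 hff
  have j1 : IsIso e.inv.left := inferInstanceAs (IsIso ((Over.forget _).map e.inv))
  have j2 : IsIso e.hom.left := inferInstanceAs (IsIso ((Over.forget _).map e.hom))
  have hk : AlgGrp.IsKernel (specMap k (mkH : A →ₐ[k] A ⧸ J)) (specMap k (φ : B →ₐ[k] A)) :=
    isKernel_specMap k (φ : B →ₐ[k] A) J hJB
  let c : SpecOver k (A ⧸ J) ⟶ G := specMap k (mkH : A →ₐ[k] A ⧸ J) ≫ e.inv
  let π : G ⟶ SpecOver k B := e.hom ≫ specMap k (φ : B →ₐ[k] A)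
  have hc : IsMonHom c := inferInstance
  have hcc : IsClosedImmersion c.left := by rw [Over.comp_left]; infer_instance
  have hπ : IsMonHom π := inferInstance
  have hπf : Flat π.left := by rw [Over.comp_left]; infer_instance
  have hπs : Surjective π.left := by rw [Over.comp_left]; infer_instance
  have hπk : AlgGrp.IsKernel c π := by
    refine IsPullback.of_iso hk (Iso.refl _) e.symm (Iso.refl _) (Iso.refl _) ?_ ?_ ?_ ?_ <;> simp [c, π]
  have hπq : QuasiCompact π.left := inferInstance
  obtain ⟨hUf, hUq⟩ := finiteType_of_quot c π hπk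
  have hUs : Smooth (SpecOver k B).hom := AlgGrp.K411.HomKit.smooth_of_flat_surjective π
  have hBs : Algebra.Smooth k B := (smooth_specOver_iff k B).1 hUs
  have hBf : Algebra.FiniteType k B := (locallyOfFiniteType_specOver_iff k B).1 hUf
  have hUc : ConnectedSpace (SpecOver k B).left := Kit.connectedSpace_of_surjective π
  have hid : ∀ e : B, IsIdempotentElem e → e = 0 ∨ e = 1 := by
    intro e he
    have : ConnectedSpace (Spec (CommRingCat.of B)) := hUc
    exact K965.Gal.idem_trivial e he
  obtain ⟨r, hr, -⟩ := S4129.result k A B hB φ hinj J hJB hMT hid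
  have hr' : (r : A →ₐ[k] B).comp (φ : B →ₐ[k] A) = AlgHom.id k B := by
    refine AlgHom.ext fun b => ?_
    exact DFunLike.congr_fun hr b
  have i6 : IsMonHom (specMap k (r : A →ₐ[k] B)) := isMonHom_specMap k r
  refine ⟨SpecOver k (A ⧸ J), inferInstance, c, SpecOver k B, inferInstance, π, specMap k (r : A →ₐ[k] B) ≫ e.inv,
    hc, hcc, ?_, hπ, hπf, hπs, hπk, ?_, hUs, inferInstance, ?_⟩
  · have : Algebra.FiniteType k (A ⧸ J) := Algebra.FiniteType.of_surjective (Ideal.Quotient.mkₐ k J)
      Ideal.Quotient.mk_surjective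
    exact Groth.Agent.Sga3.H829.MultConv.isMultTypeFT_of_isMultTypeConst hMT
  · exact ⟨B, inferInstance, inferInstance, Iso.refl _, inferInstanceAs (IsMonHom (𝟙 _)), hB⟩
  · simp only [π, Category.assoc, Iso.inv_hom_id_assoc]
    rw [← specMap_comp, hr', specMap_id]

end K414.Split
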