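import Groth.Agent.MultTori.K965.DictRep
import Groth.Agent.AlgGrp.K414.FinSplit
import Groth.Agent.Sga3B.Pts

/-!
# Quasi-retractions of groups of multiplicative type

`exists_retr`: over a field, a monomorphism `i : T₁ ⟶ T₂` of groups of multiplicative type has a quasi-retraction:
a homomorphism `r : T₂ ⟶ T₁` with `i ≫ r` the multiplication by a positive integer.
-/

set_option autoImplicit false
universe u
open CategoryTheory MonoidalCategory CartesianMonoidalCategory MonObj GrpObj AlgebraicGeometry Limits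
open TensorProduct

namespace K414.TorRetr

open K965.Pts K965.Alpha K965.Gal K965.Dic

/-- A surjection onto a finitely generated commutative group has a quasi-section. -/
theorem exists_sect {M₁ M₂ : Type} [AddCommGroup M₁] [AddCommGroup M₂] [AddGroup.FG M₁] (φ : M₂ →+ M₁)
    (hφ : Function.Surjective φ) : ∃ (s : M₁ →+ M₂) (n : ℕ), 0 < n ∧ ∀ m, φ (s m) = n • m := by
  have hfin : Module.Finite ℤ M₁ := Module.Finite.iff_addGroup_fg.2 inferInstance
  have h1 := Submodule.annihilator_top_inter_nonZeroDivisors (R := ℤ)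
    (M := Submodule.torsion ℤ M₁) Submodule.torsion_isTorsion
  obtain ⟨n, hn, hn0⟩ := h1
  have hn1 : n ≠ 0 := nonZeroDivisors.ne_zero hn0
  have hn2 : ∀ m ∈ Submodule.torsion ℤ M₁, n • m = 0 := fun m hm =>
    congrArg Subtype.val (Submodule.mem_annihilator.1 hn ⟨m, hm⟩ trivial)
  let f : M₁ →ₗ[ℤ] M₁ := n • LinearMap.id
  have hfr : Module.Free ℤ (LinearMap.range f) := by
    have : Module.IsTorsionFree ℤ (LinearMap.range f) := by
      rw [Module.isTorsionFree_iff_smul_eq_zero]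
      rintro c ⟨_, m, rfl⟩ h
      by_contra hc
      push Not at hc
      apply hc.2
      apply Subtype.ext
      refine hn2 m ?_
      rw [Submodule.mem_torsion_iff]
      refine ⟨⟨c * n, mem_nonZeroDivisors_of_ne_zero (mul_ne_zero hc.1 hn1)⟩, ?_⟩
      have := congrArg Subtype.val h
      change (c * n) • m = 0
      rw [mul_smul]
      exact this
    infer_instance
  obtain ⟨g, hg⟩ := Module.projective_lifting_property φ.toIntLinearMap (LinearMap.range f).subtype hφ
  have h3 : ∀ m, φ (g (f.rangeRestrict m)) = n • m := fun m => LinearMap.congr_fun hg (f.rangeRestrict m)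
  refine ⟨n.sign • ((g ∘ₗ f.rangeRestrict).toAddMonoidHom), n.natAbs, Int.natAbs_pos.2 hn1, fun m => ?_⟩
  have h4 : (n.sign • ((g ∘ₗ f.rangeRestrict).toAddMonoidHom)) m = n.sign • (g (f.rangeRestrict m)) := rfl
  rw [h4, map_zsmul, h3, ← mul_smul, Int.sign_mul_self_eq_natAbs, natCast_zsmul]

section avg

variable {G : Type} [Group G] [Fintype G] {M₁ M₂ : Type} [AddCommGroup M₁] [AddCommGroup M₂]
  [DistribMulAction G M₁] [DistribMulAction G M₂]

/-- An equivariant surjection onto a finitely generated commutative group has an equivariant quasi-section. -/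
theorem exists_equiv_sect [AddGroup.FG M₁] (φ : M₂ →+ M₁) (hφ : Function.Surjective φ)
    (heq : ∀ (g : G) m, φ (g • m) = g • φ m) :
    ∃ (s : M₁ →+ M₂) (n : ℕ), 0 < n ∧ (∀ m, φ (s m) = n • m) ∧ ∀ (g : G) m, s (g • m) = g • s m := by
  obtain ⟨s, n, hn, hs⟩ := exists_sect φ hφ
  refine ⟨∑ g : G, (DistribSMul.toAddMonoidHom M₂ g).comp (s.comp (DistribSMul.toAddMonoidHom M₁ g⁻¹)),
    Fintype.card G * n, Nat.mul_pos Fintype.card_pos hn, fun m => ?_, fun g m => ?_⟩
  · rw [AddMonoidHom.finsetSum_apply, map_sum]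
    have h1 : ∀ g : G, φ (((DistribSMul.toAddMonoidHom M₂ g).comp
        (s.comp (DistribSMul.toAddMonoidHom M₁ g⁻¹))) m) = n • m := by
      intro g
      change φ (g • s (g⁻¹ • m)) = n • m
      rw [heq, hs, smul_comm g n, smul_inv_smul]
    rw [Finset.sum_congr rfl fun g _ => h1 g, Finset.sum_const, Finset.card_univ, mul_smul]
  · rw [AddMonoidHom.finsetSum_apply, AddMonoidHom.finsetSum_apply, Finset.smul_sum]
    refine Fintype.sum_equiv (Equiv.mulLeft g⁻¹) _ _ fun h => ?_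
    change h • s (h⁻¹ • g • m) = g • (g⁻¹ * h) • s ((g⁻¹ * h)⁻¹ • m)
    rw [← mul_smul, ← mul_smul, mul_inv_cancel_left, _root_.mul_inv_rev, _root_.inv_inv]

end avg

section build

variable {A B : Type u} [CommRing A] [CommRing B] [Algebra A B] {G : Type} [Group G]
  [MulSemiringAction G B] [SMulCommClass G A B] {T : Over (Spec (CommRingCat.of A))} [GrpObj T] {M : Type}
  [AddCommGroup M]

/-- The dictionary for a group split by `B`, with its characters made explicit. -/
theorem exists_dict_explicit [Fintype G] (hG : IsGal A B G)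
    (e : Grp.mk (Red.bc (Spec.map (CommRingCat.ofHom (algebraMap A B))) T) ≅
      Grp.mk (Red.DS (Spec (CommRingCat.of B)) M)) [IsAffine T.left] [DistribMulAction G M]
    (hact : ∀ (g : G) {R : Type u} [CommRing R] (s : B →+* R) {φ : A →+* R}
      (h : s.comp (algebraMap A B) = φ) (h' : (s.comp (gr A g)).comp (algebraMap A B) = φ) (x : sp φ ⟶ T) (m : M),
      K965.Pts.ch (algebraMap A B) e (s.comp (gr A g)) h' x m = K965.Pts.ch (algebraMap A B) e s h x (g • m)) :
    ∃ D : K965.Dict A B G T M, ∀ (R : Type u) [CommRing R] [Algebra A R] (x : sp (algebraMap A R) ⟶ T),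
      D.ch R x = dch e R x := by
  have := hG.ff
  have hinj : ∀ (R : Type u) [CommRing R] [Algebra A R], Function.Injective (inl A B R) :=
    fun R _ _ => includeLeft_injective
  have hr : ∀ (R : Type u) [CommRing R] [Algebra A R] (g : G),
      ((inr A B R).comp (gr A g)).comp (algebraMap A B) = algebraMap A (R ⊗[A] B) := by
    intro R _ _ g
    rw [RingHom.comp_assoc, gr_comp, inr_comp]
  refine
    ⟨{ ch := fun R _ _ x => dch e R x
       ch_mul := ?_
       ch_inj := ?_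
       ch_smul := ?_
       ch_surj := ?_
       ch_nat := ?_ }, fun R _ _ x => rfl⟩
  · intro R _ _ x y
    rw [dch, MonObj.comp_mul, ch_mul]
    rfl
  · intro R _ _ x y hxy
    exact mp_injective _ (hinj R) _ x y (ch_injective _ e _ _ hxy)
  · intro R _ _ x g m
    rw [dch, ← hact g (inr A B R) (inr_comp R) (hr R g)]
    have h1 := ch_mp (algebraMap A B) e (inr A B R) (inr_comp R) (act A B R g : R ⊗[A] B →+* R ⊗[A] B)
      (act_inr R g) (hr R g) (act_comp R g) (mp (inl A B R) (inl_comp R) ≫ x)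
    have h2 : mp (act A B R g : R ⊗[A] B →+* R ⊗[A] B) (act_comp R g) ≫ mp (inl A B R) (inl_comp R) ≫ x =
        mp (inl A B R) (inl_comp R) ≫ x := by
      rw [← Category.assoc]
      congr 1
      ext1
      change Spec.map _ ≫ Spec.map _ = Spec.map _
      rw [← Spec.map_comp]
      congr 1
      exact congrArg CommRingCat.ofHom (act_inl R g)
    rw [h2] at h1
    rw [h1]
    rfl
  · intro R _ _ χ hχ
    obtain ⟨y, hy⟩ := ch_surjective (algebraMap A B) e (inr A B R) (inr_comp R) χ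
    obtain ⟨x, hx⟩ := exists_descend_over (inl A B R) (hinj R) (inl_comp R) T y
      (fun g : G => (act A B R g : R ⊗[A] B →+* R ⊗[A] B))
      (fun r hr => by
        obtain ⟨r', hr'⟩ := exists_of_act_eq hG r hr
        exact ⟨r', hr'.symm⟩) (act_comp R)
      (by
        intro g
        apply ch_injective (algebraMap A B) e ((inr A B R).comp (gr A g)) (hr R g)
        ext1 m
        have h1 := ch_mp (algebraMap A B) e (inr A B R) (inr_comp R) (act A B R g : R ⊗[A] B →+* R ⊗[A] B)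
          (act_inr R g) (hr R g) (act_comp R g) y
        rw [h1, hact g (inr A B R) (inr_comp R) (hr R g) y, hy]
        apply addUnits_ext
        exact (hχ g m).symm)
    exact ⟨x, by rw [dch, hx, hy]⟩
  · intro R R' _ _ _ _ ψ x m
    have h0 : ((Algebra.TensorProduct.map ψ (AlgHom.id A B) : R ⊗[A] B →ₐ[A] R' ⊗[A] B) :
        R ⊗[A] B →+* R' ⊗[A] B).comp (inr A B R) = inr A B R' := by
      ext b
      change Algebra.TensorProduct.map ψ (AlgHom.id A B) (1 ⊗ₜ b) = 1 ⊗ₜ b
      simp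
    have h1 := ch_mp (algebraMap A B) e (inr A B R) (inr_comp R)
      ((Algebra.TensorProduct.map ψ (AlgHom.id A B) : R ⊗[A] B →ₐ[A] R' ⊗[A] B) : R ⊗[A] B →+* R' ⊗[A] B)
      h0 (inr_comp R') (AlgHom.comp_algebraMap _) (mp (inl A B R) (inl_comp R) ≫ x)
    have h2 : mp ((Algebra.TensorProduct.map ψ (AlgHom.id A B) : R ⊗[A] B →ₐ[A] R' ⊗[A] B) :
        R ⊗[A] B →+* R' ⊗[A] B) (AlgHom.comp_algebraMap _) ≫ mp (inl A B R) (inl_comp R) ≫ x =
        mp (inl A B R') (inl_comp R') ≫ mp (ψ : R →+* R') ψ.comp_algebraMap ≫ x := by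
      rw [← Category.assoc, ← Category.assoc]
      congr 1
      ext1
      change Spec.map _ ≫ Spec.map _ = Spec.map _ ≫ Spec.map _
      rw [← Spec.map_comp, ← Spec.map_comp]
      congr 1
    rw [h2] at h1
    change (K965.Pts.ch (algebraMap A B) e (inr A B R') (inr_comp R')
      (mp (inl A B R') (inl_comp R') ≫ mp (ψ : R →+* R') ψ.comp_algebraMap ≫ x) m).toMul = _
    rw [h1]
    rfl

end build

section phi

variable {A B : Type u} [CommRing A] [CommRing B] [Algebra A B] {G : Type} [Group G]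
  [MulSemiringAction G B] [SMulCommClass G A B] {T₁ T₂ : Over (Spec (CommRingCat.of A))} [GrpObj T₁] [GrpObj T₂]
  {M₁ M₂ : Type} [AddCommGroup M₁] [AddCommGroup M₂]
  (e₁ : Grp.mk (Red.bc (Spec.map (CommRingCat.ofHom (algebraMap A B))) T₁) ≅
    Grp.mk (Red.DS (Spec (CommRingCat.of B)) M₁))
  (e₂ : Grp.mk (Red.bc (Spec.map (CommRingCat.ofHom (algebraMap A B))) T₂) ≅
    Grp.mk (Red.DS (Spec (CommRingCat.of B)) M₂))

lemma ch_one {R : Type u} [CommRing R] (s : B →+* R) {φ : A →+* R} (h : s.comp (algebraMap A B) = φ) :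
    K965.Pts.ch (algebraMap A B) e₁ s h 1 = 0 := by
  have h1 := ch_mul (algebraMap A B) e₁ s h 1 1
  rw [_root_.mul_one] at h1
  ext1 m
  have h2 := DFunLike.congr_fun h1 m
  rw [AddMonoidHom.add_apply] at h2
  exact left_eq_add.1 h2

/-- A homomorphism of groups split by `B` comes from a homomorphism of the character groups. -/
theorem exists_phi [Nontrivial B] (hB : ∀ x : B, x * x = x → x = 0 ∨ x = 1) (i : T₁ ⟶ T₂) [IsMonHom i] :
    ∃ α : M₂ →+ M₁, ∀ {R : Type u} [CommRing R] (s : B →+* R) {φ : A →+* R} (h : s.comp (algebraMap A B) = φ)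
      (x : sp φ ⟶ T₁),
      K965.Pts.ch (algebraMap A B) e₂ s h (x ≫ i) = (K965.Pts.ch (algebraMap A B) e₁ s h x).comp α := by
  obtain ⟨α, hα⟩ := exists_of_natural (M := M₁) (N := M₂) hB
    (fun {R} _ s χ => K965.Pts.ch (algebraMap A B) e₂ s rfl
      (Function.surjInv (ch_surjective (algebraMap A B) e₁ s rfl) χ ≫ i))
    (by
      intro R _ s χ χ'
      rw [← ch_mul, ← MonObj.mul_comp]
      congr 2
      apply ch_injective (algebraMap A B) e₁ s rfl
      rw [ch_mul]
      simp only [Function.surjInv_eq])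
    (by
      intro R R' _ _ s ψ χ
      rw [← ch_mp (algebraMap A B) e₂ s rfl (s' := ψ.comp s) ψ rfl rfl rfl, ← Category.assoc]
      congr 2
      apply ch_injective (algebraMap A B) e₁ (ψ.comp s) rfl
      rw [ch_mp (algebraMap A B) e₁ s rfl ψ rfl rfl]
      simp only [Function.surjInv_eq])
  refine ⟨α, ?_⟩
  intro R _ s φ h x
  subst h
  rw [← hα s]
  congr 2
  apply ch_injective (algebraMap A B) e₁ s rfl
  simp only [Function.surjInv_eq]

variable {e₁ e₂}

theorem phi_surjective [Nontrivial B] {i : T₁ ⟶ T₂} [IsMonHom i] [Mono i] {α : M₂ →+ M₁}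
    (hα : ∀ {R : Type u} [CommRing R] (s : B →+* R) {φ : A →+* R} (h : s.comp (algebraMap A B) = φ)
      (x : sp φ ⟶ T₁),
      K965.Pts.ch (algebraMap A B) e₂ s h (x ≫ i) = (K965.Pts.ch (algebraMap A B) e₁ s h x).comp α) :
    Function.Surjective α := by
  let pr : M₁ →+ M₁ ⧸ α.range := QuotientAddGroup.mk' _
  let s : B →+* MonoidAlgebra B (Multiplicative (M₁ ⧸ α.range)) := MonoidAlgebra.singleOneRingHom
  obtain ⟨x, hx⟩ := ch_surjective (algebraMap A B) e₁ s rfl ((uc B (M₁ ⧸ α.range)).comp pr)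
  have h1 : x ≫ i = 1 := by
    apply ch_injective (algebraMap A B) e₂ s rfl
    rw [hα, hx, ch_one]
    ext1 m
    have : pr (α m) = 0 := (QuotientAddGroup.eq_zero_iff _).2 ⟨m, rfl⟩
    rw [AddMonoidHom.comp_apply, AddMonoidHom.comp_apply, this, map_zero]
    rfl
  have h2 : x = 1 := by rw [← cancel_mono i, h1, MonObj.one_comp]
  rw [h2, ch_one] at hx
  intro m
  have h3 := DFunLike.congr_fun hx m
  rw [AddMonoidHom.comp_apply] at h3
  have h4 : pr m = 0 := by
    apply uc_injective (B := B)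
    rw [← h3, map_zero]
    rfl
  exact (QuotientAddGroup.eq_zero_iff m).1 h4

theorem phi_equivariant [Nontrivial B] {i : T₁ ⟶ T₂} {α : M₂ →+ M₁}
    (hα : ∀ {R : Type u} [CommRing R] (s : B →+* R) {φ : A →+* R} (h : s.comp (algebraMap A B) = φ)
      (x : sp φ ⟶ T₁),
      K965.Pts.ch (algebraMap A B) e₂ s h (x ≫ i) = (K965.Pts.ch (algebraMap A B) e₁ s h x).comp α)
    [DistribMulAction G M₁] [DistribMulAction G M₂]
    (hact₁ : ∀ (g : G) {R : Type u} [CommRing R] (s : B →+* R) {φ : A →+* R}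
      (h : s.comp (algebraMap A B) = φ) (h' : (s.comp (gr A g)).comp (algebraMap A B) = φ) (x : sp φ ⟶ T₁) (m : M₁),
      K965.Pts.ch (algebraMap A B) e₁ (s.comp (gr A g)) h' x m = K965.Pts.ch (algebraMap A B) e₁ s h x (g • m))
    (hact₂ : ∀ (g : G) {R : Type u} [CommRing R] (s : B →+* R) {φ : A →+* R}
      (h : s.comp (algebraMap A B) = φ) (h' : (s.comp (gr A g)).comp (algebraMap A B) = φ) (x : sp φ ⟶ T₂) (m : M₂),
      K965.Pts.ch (algebraMap A B) e₂ (s.comp (gr A g)) h' x m = K965.Pts.ch (algebraMap A B) e₂ s h x (g • m))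
    (g : G) (m : M₂) : α (g • m) = g • α m := by
  let s : B →+* MonoidAlgebra B (Multiplicative M₁) := MonoidAlgebra.singleOneRingHom
  have hh : (s.comp (gr A g)).comp (algebraMap A B) = s.comp (algebraMap A B) := by
    rw [RingHom.comp_assoc, gr_comp]
  obtain ⟨x, hx⟩ := ch_surjective (algebraMap A B) e₁ s rfl (uc B M₁)
  apply uc_injective (B := B)
  have h1 := hact₂ g s rfl hh (x ≫ i) m
  rw [hα, hα, AddMonoidHom.comp_apply, AddMonoidHom.comp_apply, hact₁ g s rfl hh x, hx] at h1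
  exact h1.symm

end phi

section main

open K965.DictRep K965.TorDom

variable {A B : Type u} [CommRing A] [CommRing B] [Algebra A B] {G : Type} [Group G] [Fintype G]
  [MulSemiringAction G B] [SMulCommClass G A B] {T₁ T₂ : Over (Spec (CommRingCat.of A))} [GrpObj T₁] [GrpObj T₂]
  {M₁ M₂ : Type} [AddCommGroup M₁] [AddCommGroup M₂]

/-- Equality of morphisms from an affine scheme can be tested at the universal point. -/
lemma hom_ext {X Y : Over (Spec (CommRingCat.of A))} [IsAffine X.left] (f g : X ⟶ Y)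
    (h : upt X ≫ f = upt X ≫ g) : f = g := by
  have : IsIso (upt X) := by
    have h1 : IsIso (upt X).left := inferInstanceAs (IsIso X.left.isoSpec.inv)
    have h2 : IsIso ((Over.forget _).map (upt X)) := h1
    exact isIso_of_reflects_iso (upt X) (Over.forget _)
  exact (cancel_epi (upt X)).1 h

theorem exists_retr_of_split [AddGroup.FG M₁] (hG : IsGal A B G) [Nontrivial B]
    (hB : ∀ x : B, x * x = x → x = 0 ∨ x = 1) [IsAffine T₁.left] [IsAffine T₂.left]
    (e₁ : Grp.mk (Red.bc (Spec.map (CommRingCat.ofHom (algebraMap A B))) T₁) ≅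
      Grp.mk (Red.DS (Spec (CommRingCat.of B)) M₁))
    (e₂ : Grp.mk (Red.bc (Spec.map (CommRingCat.ofHom (algebraMap A B))) T₂) ≅
      Grp.mk (Red.DS (Spec (CommRingCat.of B)) M₂)) (i : T₁ ⟶ T₂) [IsMonHom i] [Mono i] :
    ∃ (r : T₂ ⟶ T₁) (n : ℕ), 0 < n ∧ IsMonHom r ∧ i ≫ r = (𝟙 T₁) ^ n := by
  obtain ⟨a₁, hact₁⟩ := exists_action (G := G) e₁ hB
  obtain ⟨a₂, hact₂⟩ := exists_action (G := G) e₂ hB
  obtain ⟨D₁, hD₁⟩ := exists_dict_explicit hG e₁ hact₁
  obtain ⟨D₂, hD₂⟩ := exists_dict_explicit hG e₂ hact₂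
  obtain ⟨α, hα⟩ := exists_phi e₁ e₂ hB i
  obtain ⟨s, n, hn, hs, hseq⟩ := exists_equiv_sect (G := G) α (phi_surjective hα)
    (phi_equivariant hα hact₁ hact₂)
  let _ : Algebra A Γ(T₂.left, ⊤) := (strMap T₂).toAlgebra
  have heqv : K965.Dict.Eqv G ((D₂.ch Γ(T₂.left, ⊤) (upt T₂)).comp s) := by
    intro g m
    rw [AddMonoidHom.comp_apply, AddMonoidHom.comp_apply, hseq]
    exact D₂.eqv _ _ g (s m)
  obtain ⟨y, hy⟩ := D₁.exists_pt _ heqv
  have h1 : IsIso (upt T₂) := by
    have h1 : IsIso (upt T₂).left := inferInstanceAs (IsIso T₂.left.isoSpec.inv)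
    have h2 : IsIso ((Over.forget _).map (upt T₂)) := h1
    exact isIso_of_reflects_iso (upt T₂) (Over.forget _)
  let r : T₂ ⟶ T₁ := CategoryTheory.inv (upt T₂) ≫ y
  -- the action of `r` on points
  have key : ∀ (R : Type u) [CommRing R] [Algebra A R] (x : sp (algebraMap A R) ⟶ T₂),
      D₁.ch R (x ≫ r) = (D₂.ch R x).comp s := by
    intro R _ _ x
    obtain ⟨ψ, hψ, rfl⟩ := exists_mp_upt T₂ x
    let ψ' : Γ(T₂.left, ⊤) →ₐ[A] R := { ψ with commutes' := fun a => congrArg (fun z : A →+* R => z a) hψ }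
    have h2 : mp ψ hψ = mp (ψ' : Γ(T₂.left, ⊤) →+* R) ψ'.comp_algebraMap := rfl
    have h3 : (mp ψ hψ ≫ upt T₂) ≫ r = mp ψ hψ ≫ y := by simp [r]
    rw [h3, h2, D₁.nat ψ' y, D₂.nat ψ' (upt T₂), hy, AddMonoidHom.comp_assoc]
  have key' : ∀ (R : Type u) [CommRing R] [Algebra A R] (x y : sp (algebraMap A R) ⟶ T₂),
      (x * y) ≫ r = (x ≫ r) * (y ≫ r) := by
    intro R _ _ x y
    apply D₁.ch_inj R
    rw [key, D₁.ch_mul, key, key, D₂.ch_mul]
    rfl
  have hr : IsMonHom r := by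
    have h4 : ∀ (X : Over (Spec (CommRingCat.of A))) [IsAffine X.left] (x y : X ⟶ T₂),
        (x * y) ≫ r = (x ≫ r) * (y ≫ r) := by
      intro X _ x y
      apply hom_ext
      let _ : Algebra A Γ(X.left, ⊤) := (strMap X).toAlgebra
      have h5 := key' Γ(X.left, ⊤) (upt X ≫ x) (upt X ≫ y)
      rw [← MonObj.comp_mul] at h5
      rw [← Category.assoc, h5, MonObj.comp_mul, Category.assoc, Category.assoc]
    have h6 : IsAffine (T₂ ⊗ T₂).left := by
      have : IsAffineHom T₂.hom := isAffineHom_of_isAffine _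
      have h7 : IsAffineHom (pullback.fst T₂.hom T₂.hom) := MorphismProperty.pullback_fst _ _ inferInstance
      have h8 : IsAffineHom (T₂ ⊗ T₂).hom := by
        change IsAffineHom (pullback.fst T₂.hom T₂.hom ≫ T₂.hom)
        infer_instance
      exact isAffine_of_isAffineHom (T₂ ⊗ T₂).hom
    exact Groth.Agent.Sga3B.Pts.isMonHom_of_universal r (h4 _ _ _)
  refine ⟨r, n, hn, hr, ?_⟩
  apply hom_ext
  let _ : Algebra A Γ(T₁.left, ⊤) := (strMap T₁).toAlgebra
  apply D₁.ch_inj Γ(T₁.left, ⊤)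
  have hpow : ∀ (m : ℕ) (x : sp (algebraMap A Γ(T₁.left, ⊤)) ⟶ T₁) (z : M₁),
      D₁.ch Γ(T₁.left, ⊤) (x ^ m) z = m • D₁.ch Γ(T₁.left, ⊤) x z := by
    intro m x z
    induction m with
    | zero => rw [pow_zero, zero_smul, hD₁, dch, MonObj.comp_one, ch_one]; rfl
    | succ m ih => rw [pow_succ, D₁.ch_mul, AddMonoidHom.add_apply, ih, succ_nsmul]
  ext1 m
  rw [MonObj.comp_pow, Category.comp_id, hpow]
  have h1 := key Γ(T₁.left, ⊤) (upt T₁ ≫ i)
  rw [Category.assoc] at h1
  refine (DFunLike.congr_fun h1 m).trans ?_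
  rw [hD₂, hD₁, dch, dch, ← Category.assoc, hα]
  rw [AddMonoidHom.comp_apply, AddMonoidHom.comp_apply, hs, map_nsmul]

end main

lemma etale_of_sep {k : Type u} [Field k] (L : Type u) [Field L] [Algebra k L] [Module.Finite k L]
    [Algebra.IsSeparable k L] : Algebra.Etale k L := by
  have h1 : Algebra.FormallyEtale k L := (Algebra.FormallyEtale.iff_isSeparable k L).2 inferInstance
  have h2 : Algebra.FinitePresentation k L := (Algebra.FinitePresentation.of_finiteType).1 inferInstance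
  exact { }

open Groth.Agent.Sga3B Groth.Agent.Sga3B.TorusAlgClosed in
/-- A monomorphism of groups of multiplicative type over a field has a quasi-retraction. -/
theorem exists_retr {k : Type u} [Field k] {T₁ T₂ : Over (Spec (CommRingCat.of k))} [GrpObj T₁] [GrpObj T₂]
    [LocallyOfFiniteType T₁.hom] [LocallyOfFiniteType T₂.hom] (h₁ : SGA3x.IsMultTypeFT T₁)
    (h₂ : SGA3x.IsMultTypeFT T₂) (i : T₁ ⟶ T₂) [IsMonHom i] [Mono i] :
    ∃ (r : T₂ ⟶ T₁) (n : ℕ), 0 < n ∧ IsMonHom r ∧ i ≫ r = (𝟙 T₁) ^ n := by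
  have ha₁ : IsAffineHom T₁.hom := Groth.Agent.Sga3.H829.MultConv.isAffineHom_of_isMultTypeFT h₁
  have ha₂ : IsAffineHom T₂.hom := Groth.Agent.Sga3.H829.MultConv.isAffineHom_of_isMultTypeFT h₂
  have hb₁ : IsAffine T₁.left := isAffine_of_isAffineHom T₁.hom
  have hb₂ : IsAffine T₂.left := isAffine_of_isAffineHom T₂.hom
  obtain ⟨L₁, _, _, _, _, M₁, _, hM₁, ⟨e₁⟩⟩ := FinSplit.exists_finite_split h₁
  obtain ⟨L₂, _, _, _, _, M₂, _, hM₂, ⟨e₂⟩⟩ := FinSplit.exists_finite_split h₂
  let f : Spec (CommRingCat.of (L₁ ⊗[k] L₂)) ⟶ Spec (CommRingCat.of k) :=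
    Spec.map (CommRingCat.ofHom (algebraMap k (L₁ ⊗[k] L₂)))
  have hf1 : IsFinite f := by
    refine (IsFinite.SpecMap_iff _).2 ?_
    exact RingHom.finite_algebraMap.2 inferInstance
  have hf2 : Etale f := by
    refine (HasRingHomProperty.Spec_iff (P := @Etale)).2 ?_
    have h3 : Algebra.Etale k L₁ := etale_of_sep L₁
    have h4 : Algebra.Etale k L₂ := etale_of_sep L₂
    have h5 : Algebra.Etale k (L₁ ⊗[k] L₂) := Algebra.Etale.comp k L₁ _
    exact RingHom.etale_algebraMap.2 h5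
  obtain ⟨z⟩ : Nonempty (Spec (CommRingCat.of (L₁ ⊗[k] L₂))) := inferInstance
  obtain ⟨B, _, _, G, _, _, _, _, p, hp, hG, hconn⟩ := exists_isGal _ f z
  obtain ⟨x₀⟩ := (inferInstance : Nonempty (Spec (CommRingCat.of B)))
  have hnt : Nontrivial B := PrimeSpectrum.nontrivial (show PrimeSpectrum B from x₀)
  let p₁ : Spec (CommRingCat.of B) ⟶ Spec (CommRingCat.of L₁) :=
    p ≫ Spec.map (CommRingCat.ofHom (Algebra.TensorProduct.includeLeft : L₁ →ₐ[k] L₁ ⊗[k] L₂).toRingHom)
  let p₂ : Spec (CommRingCat.of B) ⟶ Spec (CommRingCat.of L₂) :=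
    p ≫ Spec.map (CommRingCat.ofHom (Algebra.TensorProduct.includeRight : L₂ →ₐ[k] L₁ ⊗[k] L₂).toRingHom)
  have hp₁ : p₁ ≫ Spec.map (CommRingCat.ofHom (algebraMap k L₁)) =
      Spec.map (CommRingCat.ofHom (algebraMap k B)) := by
    rw [← hp, Category.assoc, ← Spec.map_comp]
    congr 2
  have hp₂ : p₂ ≫ Spec.map (CommRingCat.ofHom (algebraMap k L₂)) =
      Spec.map (CommRingCat.ofHom (algebraMap k B)) := by
    rw [← hp, Category.assoc, ← Spec.map_comp]
    congr 2
    rw [← CommRingCat.ofHom_comp]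
    congr 1
    exact (Algebra.TensorProduct.includeRight : L₂ →ₐ[k] L₁ ⊗[k] L₂).comp_algebraMap
  have e₁' : Grp.mk (Red.bc (Spec.map (CommRingCat.ofHom (algebraMap k B))) T₁) ≅
      Grp.mk (Red.DS (Spec (CommRingCat.of B)) M₁) :=
    BcIso.bcCongrIso hp₁.symm T₁ ≪≫ BcIso.bcCompIso p₁ _ T₁ ≪≫ BcIso.bcMapIso p₁ e₁ ≪≫ dsBcIso p₁ M₁
  have e₂' : Grp.mk (Red.bc (Spec.map (CommRingCat.ofHom (algebraMap k B))) T₂) ≅
      Grp.mk (Red.DS (Spec (CommRingCat.of B)) M₂) :=
    BcIso.bcCongrIso hp₂.symm T₂ ≪≫ BcIso.bcCompIso p₂ _ T₂ ≪≫ BcIso.bcMapIso p₂ e₂ ≪≫ dsBcIso p₂ M₂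
  exact exists_retr_of_split hG (fun x hx => idem_trivial x hx) e₁' e₂' i

end K414.TorRetr
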